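import Cfsg.Agent.Mrg.Omega.NO3S.FullQ.Mover
import Cfsg.Agent.Mrg.Omega.NO3S.FullQ.Base
import Cfsg.Agent.Mrg.Omega.NO3S.FullQ.TwoN
import Cfsg.Agent.Mrg.Omega.NO3S.FarQ.Glue
import Cfsg.Agent.Mrg.Omega.ML.MinIrr

section


/-!
# FullB, `q ≥ 4`, class P: `[M, A] ≤ lam` (helper298 #21966, section 3; helper983 #22167)

* `nu_one` : `π (u v v') ∈ N` implies `π (u v v') = 1` for `u ∈ R_r`, `v ∈ R_x`, `v' ∈ R_{x'}`;
* `line_of` : `[f, m] ∈ lam` for `m ∈ h lam`;
* **`comm_lam_of_bad`** : `(p, q)` critical, every `f` has a mover without (D): `(ρ f • m) * m⁻¹ ∈ lam` for `f ∈ W_q`,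
  `m ∈ M`; `comm_lam` : the same for `(p, q)` without (D).
-/

set_option autoImplicit false
set_option linter.unusedSectionVars false

namespace Cfsg.Agent.Omega.NO3S.FullQ

open Subgroup Cfsg Cfsg.Agent.ZN Cfsg.Agent.MinSimple.VModule Cfsg.Agent.Omega.NOThree.Pts
open Cfsg.Agent.Omega.NO3S.FarQ Cfsg.Agent.Omega.NO3S.FarQ.Glue Cfsg.Agent.Omega.NO3S.FarQ.Free

variable {G X L : Type*} [Group G] [MulAction G X] [MulAction G L]
variable {inc : X → L → Prop} {R W : X → Subgroup G} {V : L → Subgroup G} {s t n : ℕ}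
variable {H M K : Type*} [Group H] [CommGroup M] [MulDistribMulAction H M] [CommGroup K]
variable {p q r : X} {l : L} {f h : G}
variable {Sy : Subgroup G} {ρ : G → H} {π : G → M} {ζ : K →* G} {T : Subgroup H} {lam U : Subgroup M}
  {Kh : Subgroup (M →* K)}
variable {Fd Q : Type*} [Field Fd] [AddCommGroup Q] [Module Fd Q] [DistribMulAction H Q] [SMulCommClass H Fd Q]

section group

variable {κ : M → Q} {a0 : Q} {N : Subgroup M}

theorem add_self' [CharP Fd 2] (v : Q) : v + v = 0 := by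
  rw [← two_smul Fd v, CharTwo.two_eq_zero, zero_smul]

/-- an element fixing `a₀` fixes `κ(lam)` -/
theorem fix_lam (C : Cnt.Qm Fd H κ a0 N lam) {g : H} {c : H} (hg : g • c • a0 = c • a0) {a : M} (ha : a ∈ lam) :
    κ (g • c • a) = κ (c • a) := by
  obtain ⟨x, hx⟩ := Submodule.mem_span_singleton.1 ((C.lam (κ a)).1 ⟨a, ha, rfl⟩)
  rw [C.act, C.act, ← hx, smul_comm c, smul_comm g, hg]

/-- **`nu = 1`** -/
theorem nu_one [CharP Fd 2] [FiniteDimensional Fd Q] (D : Geom inc R W V s t)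
    (b : Free.Bad inc R W n p q r l f h) (F : RD inc R W V p l Sy ρ π ζ T lam U Kh) (C : Cnt.Qm Fd H κ a0 N lam)
    (hun : ∀ g g' : H, ∀ a ∈ lam, ∀ b ∈ lam, (g • a) * (g' • b)⁻¹ ∈ N → g • a = g' • b)
    (hT : Two Kh N lam (ρ h))
    (hX : ∀ q', Crit inc W n p q' → ∀ f' ∈ W q', ∀ w ∈ W p, π w ∈ N → f' * w = w * f')
    (hφ : ∃ φ ∈ TR.Ph Fd (im F.re (Ls inc W n p) (Ls_le D b.pos)) a0, φ (ρ h • a0) ≠ 0)
    (hpl : ∃ x y : Fd, (ρ h)⁻¹ • a0 = x • a0 + y • ρ h • a0) {u v v' : G} (hu : u ∈ R r) (hv : v ∈ R (h • r))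
    (hv' : v' ∈ R (f • h • r)) (hn : π (u * v * v') ∈ N) : π (u * v * v') = 1 := by
  have hrW : R r ≤ W p := (D.R_le r l b.rl).trans (D.V_le p l b.pl)
  have hwW : u * v * v' ∈ W p := mul_mem (mul_mem (hrW hu) (b.xW D hv)) (b.x'W D hv')
  rw [F.re.pker _ hwW]
  refine F.cen _ hwW fun g hg => ?_
  have hgc := F.sy hg
  have ht : ρ g ∈ T := (F.mT _).2 ⟨g, hg, rfl⟩
  have hN : (im F.re (Ls inc W n p) (Ls_le D b.pos)).Normal := ⟨by
    rintro _ ⟨y, hy, rfl⟩ x
    obtain ⟨c, hc, rfl⟩ := F.re.surj x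
    exact ⟨c * y * c⁻¹, Ls_conj D hc hy, F.re.conj hc (Ls_le D b.pos hy)⟩⟩
  obtain ⟨a, ha, hκ⟩ := (C.lam a0).2 (Submodule.mem_span_singleton_self _)
  have hta : ρ g • a0 = a0 := by
    rw [← hκ, ← C.act, F.flag.fix _ ht a ha]
  obtain ⟨k, hk⟩ := F.flag.two ⟨ρ g, ht⟩
  have hk' : ρ g ^ 2 ^ k = 1 := congrArg Subtype.val hk
  obtain ⟨_, ⟨y, hy, rfl⟩, y1, y2⟩ := TR.exists_fix (L := im F.re (Ls inc W n p) (Ls_le D b.pos)) rfl hφ hta hk'
  have hyc := Ls_le D b.pos hy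
  have hgy : y⁻¹ * g ∈ centralizer (R p : Set G) := mul_mem (inv_mem hyc) hgc
  have e1 : ρ (y⁻¹ * g) = (ρ y)⁻¹ * ρ g := by
    rw [F.re.mul _ (inv_mem hyc) _ hgc, F.re.inv hyc]
  have f1 : ρ (y⁻¹ * g) • a0 = a0 := by
    rw [e1, mul_smul, hta, inv_smul_eq_iff, y1]
  have f2 : ρ (y⁻¹ * g) • ρ h • a0 = ρ h • a0 := by
    rw [e1, mul_smul, ← y2, inv_smul_smul]
  have f3 : ρ (y⁻¹ * g) • (ρ h)⁻¹ • a0 = (ρ h)⁻¹ • a0 := by
    obtain ⟨x, z, hxz⟩ := hpl
    rw [hxz, smul_add, smul_comm _ x, f1, smul_comm _ z, f2]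
  -- line vectors
  have g1 : ∀ a ∈ lam, ρ (y⁻¹ * g) • a = a := by
    intro a ha
    have h1 := fix_lam C (g := ρ (y⁻¹ * g)) (c := 1) (by simp only [one_smul]; exact f1) ha
    simp only [one_smul] at h1
    have h2 := hun (ρ (y⁻¹ * g)) 1 a ha a ha (by rw [one_smul]; exact C.mul_inv_mem h1)
    rwa [one_smul] at h2
  have g2 : ∀ a ∈ lam, ρ (y⁻¹ * g) • ρ h • a = ρ h • a := by
    intro a ha
    have h1 := fix_lam C (c := ρ h) f2 ha
    rw [← mul_smul]
    refine hun _ _ a ha a ha ?_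
    rw [mul_smul]
    exact C.mul_inv_mem h1
  have g3 : ∀ a ∈ lam, ρ (y⁻¹ * g) • (ρ h)⁻¹ • a = (ρ h)⁻¹ • a := by
    intro a ha
    have h1 := fix_lam C (c := (ρ h)⁻¹) f3 ha
    rw [← mul_smul]
    refine hun _ _ a ha a ha ?_
    rw [mul_smul]
    exact C.mul_inv_mem h1
  have hπu : π u ∈ lam := (F.mlam _).2 ⟨u, D.R_le r l b.rl hu, rfl⟩
  have h5 := Bad.cent D b F hT hgy hu hv hv' hn (g1 _ hπu) g2 g3
  have h6 := Ls_cent (fun q' hq f' hf' => hX q' hq f' hf' _ hwW hn) hy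
  calc g * (u * v * v') = y * (y⁻¹ * g * (u * v * v')) := by group
    _ = y * (u * v * v' * (y⁻¹ * g)) := by rw [h5]
    _ = (y * (u * v * v')) * (y⁻¹ * g) := by group
    _ = u * v * v' * g := by rw [h6]; group

/-- `[f, m] ∈ lam` for `m ∈ h lam` -/
theorem line_of [CharP Fd 2] [FiniteDimensional Fd Q] (D : Geom inc R W V s t)
    (b : Free.Bad inc R W n p q r l f h) (F : RD inc R W V p l Sy ρ π ζ T lam U Kh) (C : Cnt.Qm Fd H κ a0 N lam)
    (hun : ∀ g g' : H, ∀ a ∈ lam, ∀ b ∈ lam, (g • a) * (g' • b)⁻¹ ∈ N → g • a = g' • b)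
    (hT : Two Kh N lam (ρ h))
    (hX : ∀ q', Crit inc W n p q' → ∀ f' ∈ W q', ∀ w ∈ W p, π w ∈ N → f' * w = w * f')
    (hφ : ∃ φ ∈ TR.Ph Fd (im F.re (Ls inc W n p) (Ls_le D b.pos)) a0, φ (ρ h • a0) ≠ 0)
    (hpl : ∃ x y : Fd, (ρ h)⁻¹ • a0 = x • a0 + y • ρ h • a0)
    (hle : ∀ v : Q, ρ f • v - v ∈ Submodule.span Fd {a0}) {a : M} (ha : a ∈ lam) :
    (ρ f • ρ h • a) * (ρ h • a)⁻¹ ∈ lam := by
  have hhc := Bad.h_cent b F
  have hfc : f ∈ centralizer (R p : Set G) :=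
    mem_centralizer_iff.2 fun z hz => (b.crit.symm.comm_R D b.pos b.hf hz).symm
  obtain ⟨v0, hv0, rfl⟩ := exists_pre D F b.rl b.ne ha
  have hv : h * v0 * h⁻¹ ∈ R (h • r) := D.R_smul h r v0 hv0
  have hv' := D.R_smul f (h • r) _ hv
  have hv0W : v0 ∈ W p := D.V_le p l b.pl (D.R_le r l b.rl hv0)
  have e1 : π (h * v0 * h⁻¹) = ρ h • π v0 := F.re.act h hhc v0 hv0W
  have e2 : π (f * (h * v0 * h⁻¹) * f⁻¹) = ρ f • ρ h • π v0 := by
    rw [F.re.act f hfc _ (b.xW D hv), e1]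
  set m := ρ h • π v0 with hm
  obtain ⟨a, ha', hκ⟩ := (C.lam _).2 (hle (κ m))
  obtain ⟨u, hu, hπu⟩ := exists_pre D F b.rl b.ne ha'
  have huW : u ∈ W p := D.V_le p l b.pl (D.R_le r l b.rl hu)
  have e3 : π (u * (h * v0 * h⁻¹) * (f * (h * v0 * h⁻¹) * f⁻¹)) = a * m * (ρ f • m) := by
    rw [F.re.pmul _ (mul_mem huW (b.xW D hv)) _ (b.x'W D hv'), F.re.pmul _ huW _ (b.xW D hv), hπu, e1, e2]
  have e4 : π (u * (h * v0 * h⁻¹) * (f * (h * v0 * h⁻¹) * f⁻¹)) ∈ N := by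
    have e8 : κ (ρ f • m) = ρ f • κ m := C.act _ _
    rw [← C.ker, e3, C.pmul, C.pmul, hκ, e8, sub_add_cancel, add_self' (Fd := Fd)]
  have e5 := nu_one D b F C hun hT hX hφ hpl hu hv hv' e4
  rw [e3] at e5
  have e6 : (ρ f • m) * m⁻¹ = a⁻¹ := by
    have e7 : m⁻¹ = m := inv_eq_of_mul_eq_one_left (F.flag.sq m)
    rw [e7, mul_comm, eq_inv_iff_mul_eq_one, mul_comm, ← mul_assoc]
    exact e5
  rw [e6]
  exact inv_mem ha'

end group

/-! ### additive notation -/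

section add

variable {κ : M → Q} {a0 : Q} {N : Subgroup M}

/-- the additive action -/
@[reducible] def addAct (H M : Type*) [Group H] [CommGroup M] [MulDistribMulAction H M] :
    DistribMulAction H (Additive M) where
  smul h m := Additive.ofMul (h • m.toMul)
  one_smul m := congrArg Additive.ofMul (one_smul H m.toMul)
  mul_smul g h m := congrArg Additive.ofMul (mul_smul g h m.toMul)
  smul_zero h := congrArg Additive.ofMul (smul_one h)
  smul_add h m m' := congrArg Additive.ofMul (smul_mul' h m.toMul m'.toMul)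

attribute [local instance] addAct

/-- `κ` as an additive homomorphism -/
def kad (C : Cnt.Qm Fd H κ a0 N lam) : Additive M →+ Q := AddMonoidHom.mk' (fun m => κ m.toMul) fun _ _ => C.pmul _ _

theorem lv (F : Flag T lam U Kh) (C : Cnt.Qm Fd H κ a0 N lam)
    (hun : ∀ g g' : H, ∀ a ∈ lam, ∀ b ∈ lam, (g • a) * (g' • b)⁻¹ ∈ N → g • a = g' • b) :
    Lv Fd H (kad C) (Subgroup.toAddSubgroup lam) a0 where
  two m := congrArg Additive.ofMul (F.sq m.toMul)
  act g m := C.act g m.toMul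
  ne := C.ne
  lamc a ha := by
    obtain ⟨c, hc⟩ := Submodule.mem_span_singleton.1 ((C.lam (κ a.toMul)).1 ⟨a.toMul, ha, rfl⟩)
    exact ⟨c, hc.symm⟩
  clam c := by
    obtain ⟨a, ha, e⟩ := (C.lam (c • a0)).2 (Submodule.smul_mem _ _ (Submodule.mem_span_singleton_self _))
    exact ⟨Additive.ofMul a, ha, e⟩
  uniq g g' a ha b hb e := congrArg Additive.ofMul (hun g g' a.toMul ha b.toMul hb (C.mul_inv_mem e))
  gen N' hN' := by
    have h1 := F.gen (AddSubgroup.toSubgroup' N') fun g a ha => hN' g (Additive.ofMul a) ha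
    rw [eq_top_iff] at h1 ⊢
    exact fun m _ => h1 (mem_top m.toMul)

/-- `[m, e] ∈ lam` on `h lam` gives `[M, e] ≤ lam`. -/
theorem le_of_line [Finite Fd] [CharP Fd 2] [Finite Q] (F : Flag T lam U Kh) (C : Cnt.Qm Fd H κ a0 N lam)
    (hd : N ⊓ lam = ⊥)
    (hun : ∀ g g' : H, ∀ a ∈ lam, ∀ b ∈ lam, (g • a) * (g' • b)⁻¹ ∈ N → g • a = g' • b)
    {φ : Q →ₗ[Fd] Fd} (hφ : ∀ c : Fd, ∃ e : H, (∀ v : Q, e • v = v + (c • φ) v • a0) ∧ ∀ m : M, κ m = 0 → e • m = m)
    {e : H} (he : ∀ v : Q, e • v = v + φ v • a0) (he' : ∀ m : M, κ m = 0 → e • m = m) {h : H}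
    (hh : φ (h • a0) ≠ 0) (hl : ∀ a ∈ lam, (e • h • a) * (h • a)⁻¹ ∈ lam) (m : M) : (e • m) * m⁻¹ ∈ lam := by
  have L := lv F C hun
  obtain ⟨σ, hσ, hσ'⟩ := L.exists_sec
  have hs : Function.Surjective (kad C) := fun v => by
    obtain ⟨m, hm⟩ := C.surj v
    exact ⟨Additive.ofMul m, hm⟩
  have hTr : Tr H (kad C) a0 φ := fun c => by
    obtain ⟨e, h1, h2⟩ := hφ c
    exact ⟨e, h1, fun m hm => congrArg Additive.ofMul (h2 m.toMul hm)⟩
  obtain ⟨k, hk, hk2⟩ := L.val' hs hσ hσ' hTr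
  have hE : IsE H (kad C) a0 ((1 : Fd) • φ) e := by
    rw [one_smul]
    exact ⟨he, fun m hm => congrArg Additive.ofMul (he' m.toMul hm)⟩
  have h1 := hk2 1 e one_ne_zero hE
  simp only [one_mul, div_one] at h1
  have h2 : ∀ m : M, (e • m) * m⁻¹ = (σ (φ (κ m))).toMul * (k (φ (κ m) ^ 2)).toMul := by
    intro m
    have h3 : m⁻¹ = m := inv_eq_of_mul_eq_one_left (F.sq m)
    rw [h3]
    exact congrArg Additive.toMul (h1 (Additive.ofMul m))
  have hk0 : ∀ c : Fd, k c = 0 := by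
    intro c
    -- `c = d ^ 2`
    obtain ⟨d, hd2⟩ := (FiniteField.isSquare_of_char_two (F := Fd) (by
      exact ringChar.eq_iff.2 ‹CharP Fd 2›) c)
    obtain ⟨a, ha, hκ⟩ := (C.lam ((d / φ (h • a0)) • a0)).2
      (Submodule.smul_mem _ _ (Submodule.mem_span_singleton_self _))
    have h3 : φ (κ (h • a)) = d := by
      rw [C.act, hκ, smul_comm h, LinearMap.map_smul, smul_eq_mul, div_mul_cancel₀ _ hh]
    have h4 := h2 (h • a)
    rw [h3] at h4
    have h5 : (k (d ^ 2)).toMul ∈ lam := by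
      have h7 : (σ d).toMul ∈ lam := hσ d
      have h6 := lam.mul_mem (lam.inv_mem h7) (hl a ha)
      rwa [h4, inv_mul_cancel_left] at h6
    have h6 : (k (d ^ 2)).toMul ∈ N ⊓ lam := ⟨(C.ker _).1 (hk _), h5⟩
    rw [hd, Subgroup.mem_bot] at h6
    rw [hd2, ← pow_two]
    exact h6
  rw [h2, hk0]
  exact mul_mem (hσ _) (one_mem _)

end add

section main

variable {κ : M → Q} {a0 : Q} {N : Subgroup M}

/-- a mover moves modulo `K_p` -/
theorem rho_ne' (D : Geom inc R W V s t) (b : Free.Bad inc R W n p q r l f h)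
    (F : RD inc R W V p l Sy ρ π ζ T lam U Kh) : ρ h ≠ 1 := by
  intro h1
  have hh := Bad.h_cent b F
  have h2 := (F.re.ker h hh).1 h1
  have hrW : R r ≤ W p := (D.R_le r l b.rl).trans (D.V_le p l b.pl)
  have h3 : ∀ v ∈ R r, h * v = v * h := by
    intro v hv
    have hz := h2 v (hrW hv)
    have e1 : h * v * h⁻¹ = (h * v * h⁻¹ * v⁻¹) * v := by group
    have e2 : (h * h) * v * (h * h)⁻¹ = v := by
      have e3 : (h * h) * v * (h * h)⁻¹ = h * (h * v * h⁻¹) * h⁻¹ := by group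
      rw [e3, e1]
      have e4 : h * (h * v * h⁻¹ * v⁻¹ * v) * h⁻¹ = (h * (h * v * h⁻¹ * v⁻¹)) * v * h⁻¹ := by group
      rw [e4, b.hc _ hz]
      have e5 : h * v * h⁻¹ * v⁻¹ * h * v * h⁻¹ = (h * v * h⁻¹ * v⁻¹) * (h * v * h⁻¹ * v⁻¹) * v := by group
      rw [e5, D.sq p _ (D.R_le_W p hz), one_mul]
    have e6 : h * h ∈ centralizer ({v} : Set G) := by
      rw [mem_centralizer_singleton_iff]
      exact mul_inv_eq_iff_eq_mul.1 e2
    have e7 : h ∈ centralizer ({v} : Set G) := by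
      obtain ⟨j, hj⟩ := b.odd
      have h3 : (h * h) ^ (j + 1) = h := by
        rw [← pow_two, ← pow_mul, show 2 * (j + 1) = orderOf h + 1 by omega, pow_succ, pow_orderOf_eq_one, one_mul]
      rw [← h3]
      exact pow_mem e6 _
    exact mem_centralizer_singleton_iff.1 e7
  have h4 : h • r = r := D.fix_of_centralizes h3
  apply b.mv
  rw [h4, b.W_fix_r D b.hf]

/-- **`[M, A] ≤ lam`** for a critical pair `(p, q)` all of whose `f` have a mover without (D), class P. -/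
theorem comm_lam_of_bad [Finite G] [Finite H] [Finite M] [Finite Fd] [CharP Fd 2] (D : Geom inc R W V s t)
    (F : RD inc R W V p l Sy ρ π ζ T lam U Kh) (C : Cnt.Qm Fd H κ a0 N lam) (hc : Crit inc W n p q) (hn : 1 ≤ n)
    (hd : N ⊓ lam = ⊥)
    (hun : ∀ g g' : H, ∀ a ∈ lam, ∀ b ∈ lam, (g • a) * (g' • b)⁻¹ ∈ N → g • a = g' • b) (hN : Dl Kh N)
    {A : Subgroup H} (hA : ∀ a, a ∈ A ↔ ∃ f ∈ W q, ρ f = a) (E : Cnt.Dat Fd κ a0 A)
    (hTwo : ∀ h : H, (∀ c : Fd, h • a0 ≠ c • h⁻¹ • a0) → Two Kh N lam h)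
    (hX : ∀ q', Crit inc W n p q' → ∀ f' ∈ W q', ∀ w ∈ W p, π w ∈ N → f' * w = w * f')
    (hb : ∀ f ∈ W q, ρ f ≠ 1 → ∃ h, Free.Bad inc R W n p q r l f h)
    {f : G} (hf : f ∈ W q) (m : M) : (ρ f • m) * m⁻¹ ∈ lam := by
  have hQ := E.finQ
  by_cases hf1 : ρ f = 1
  · rw [hf1, one_smul, mul_inv_cancel]
    exact one_mem _
  obtain ⟨h, b⟩ := hb f hf hf1
  have hh := Bad.h_cent b F
  have hne := rho_ne' D b F
  have hfc : f ∈ centralizer (R p : Set G) :=
    mem_centralizer_iff.2 fun z hz => (hc.symm.comm_R D hn hf hz).symm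
  have hfA : ρ f ∈ A := (hA _).2 ⟨f, hf, rfl⟩
  have ho' : Odd (orderOf (ρ h)) := by
    have h1 : ρ h ^ orderOf h = 1 := by
      rw [← rho_pow F.toRF F.flag hh, pow_orderOf_eq_one, F.re.one]
    exact Odd.of_dvd_nat b.odd (orderOf_dvd_of_pow_eq_one h1)
  have hi' : ρ f * ρ h * (ρ f)⁻¹ = (ρ h)⁻¹ := by rw [← F.re.conj hfc hh, b.inv, F.re.inv hh]
  have key : ∀ x ∈ lam, ∃ c : Fd, κ x = c • a0 := fun x hx => by
    obtain ⟨c, hc⟩ := Submodule.mem_span_singleton.1 ((C.lam (κ x)).1 ⟨x, hx, rfl⟩)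
    exact ⟨c, hc.symm⟩
  -- the plane
  have h0 : a0 ∈ Cnt.pln Fd a0 (ρ h) := by
    obtain ⟨a, ha, hκ⟩ := (C.lam a0).2 (Submodule.mem_span_singleton_self _)
    obtain ⟨x, hx, y, hy, z, hz, e⟩ := Bad.lam_le D b F hN ha
    obtain ⟨c, hc⟩ := key x hx
    obtain ⟨d, hd'⟩ := key y hy
    have h1 : κ a = c • ρ h • a0 + d • (ρ h)⁻¹ • a0 := by
      rw [e, C.pmul, C.pmul, (C.ker z).2 hz, add_zero, C.act, C.act, hc, hd', smul_comm (ρ h) c,
        smul_comm (ρ h)⁻¹ d]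
    rw [hκ] at h1
    exact Submodule.mem_span_pair.2 ⟨c, d, h1.symm⟩
  have hpl : ∃ x y : Fd, (ρ h)⁻¹ • a0 = x • a0 + y • ρ h • a0 :=
    E.exists_of_mem hfA hne ho' hi' h0 (Submodule.subset_span (Set.mem_insert_of_mem _ rfl))
  -- the functional
  obtain ⟨l', hl'⟩ := E.exists_l
  set φ := Cnt.Dat.fn Fd l' (ρ f) with hφd
  have hφ : ∀ v, ρ f • v = v + φ v • a0 := fun v => Cnt.Dat.eq_add hl' (E.le hfA v)
  have hφ0 : φ a0 = 0 := by
    have h1 := hφ a0
    rw [E.fix _ hfA] at h1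
    have h2 : φ a0 • a0 = 0 := by
      have := h1.symm
      rwa [add_eq_left] at this
    exact (smul_eq_zero.1 h2).resolve_right E.ne
  have hφk : ∀ v, (∀ b ∈ A, b • v = v) → φ v = 0 := by
    intro v hv
    have h1 := hφ v
    rw [hv _ hfA] at h1
    have h2 : φ v • a0 = 0 := by
      have := h1.symm
      rwa [add_eq_left] at this
    exact (smul_eq_zero.1 h2).resolve_right E.ne
  have hall : ∀ c : Fd, ∃ e ∈ A, ∀ v : Q, e • v = v + (c • φ) v • a0 := fun c =>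
    E.all (c • φ) fun v hv => by rw [LinearMap.smul_apply, hφk v hv, smul_zero]
  have hφh : φ (ρ h • a0) ≠ 0 := by
    intro h1
    have h2 := hφ (ρ h • a0)
    rw [h1, zero_smul, add_zero, E.act_h hfA hne ho' hi'] at h2
    exact E.notMem' hfA hne ho' hi' 1 (by rw [one_smul]; exact h2.symm)
  refine le_of_line F.flag C hd hun (fun c => ?_) hφ (fun m hm => E.fixK hm hfA) hφh (fun a ha => ?_) m
  · obtain ⟨e, he, h1⟩ := hall c
    exact ⟨e, h1, fun m hm => E.fixK hm he⟩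
  · refine line_of D b F C hun (hTwo _ (E.notMem' hfA hne ho' hi')) hX ⟨φ, ⟨hφ0, fun c => ?_⟩, hφh⟩ hpl
      (fun v => E.le hfA v) ha
    obtain ⟨e, he, h1⟩ := hall c
    obtain ⟨g, hg, rfl⟩ := (hA e).1 he
    exact ⟨ρ g, ⟨g, W_le_Ls hc hg, rfl⟩, fun v => by rw [h1, LinearMap.smul_apply, smul_eq_mul]⟩

/-- **`[M, A] ≤ lam`** for a critical pair `(p, q)` without (D), class P. -/
theorem comm_lam [Finite G] [Finite H] [Finite M] [Finite Fd] [CharP Fd 2] (D : Geom inc R W V s t)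
    (F : RD inc R W V p l Sy ρ π ζ T lam U Kh) (C : Cnt.Qm Fd H κ a0 N lam) (hc : Crit inc W n p q) (hn : 1 ≤ n)
    (hnd : ¬ DP inc W p q) (hrl : inc r l) (hwk : Walk inc (n - 1) r q) (hd : N ⊓ lam = ⊥)
    (hun : ∀ g g' : H, ∀ a ∈ lam, ∀ b ∈ lam, (g • a) * (g' • b)⁻¹ ∈ N → g • a = g' • b) (hN : Dl Kh N)
    {A : Subgroup H} (hA : ∀ a, a ∈ A ↔ ∃ f ∈ W q, ρ f = a) (E : Cnt.Dat Fd κ a0 A)
    (hTwo : ∀ h : H, (∀ c : Fd, h • a0 ≠ c • h⁻¹ • a0) → Two Kh N lam h)
    (hX : ∀ q', Crit inc W n p q' → ∀ f' ∈ W q', ∀ w ∈ W p, π w ∈ N → f' * w = w * f')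
    {f : G} (hf : f ∈ W q) (m : M) : (ρ f • m) * m⁻¹ ∈ lam := by
  refine comm_lam_of_bad (r := r) D F C hc hn hd hun hN hA E hTwo hX (fun f hf hf1 => ?_) hf m
  obtain ⟨h, hh, ho, hi, -, -, hmv, -⟩ := exists_mover_crit D F hc hn hrl hwk hf hf1
  have hhp : h • p = p := Four.fix_p D hh
  exact ⟨h,
    { crit := hc, pos := hn, pl := F.pl, rl := hrl, wk := hwk, hf := hf
      hc := fun z hz => (mem_centralizer_iff.1 hh z hz).symm, odd := ho, inv := hi, mv := hmv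
      nd := fun h1 => hnd ⟨h • r, h • l, f, D.inc_smul h _ _ hrl, by
        have := D.inc_smul h _ _ F.pl
        rwa [hhp] at this, hf, hmv, h1⟩ }⟩

end main

end Cfsg.Agent.Omega.NO3S.FullQ

end

section


/-!
# FullB, `q ≥ 4`: `Two` (input of `comm_lam`) from the `F`-structure (helper298 #21966)

* `two_of` : if `Kh` contains every `F`-linear map `Q → K` and its elements are `F`-linear on `lam`, then elements of `Kh`
  can be prescribed on `h lam` and `h⁻¹ lam`, trivially on `N`.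
-/

set_option autoImplicit false
set_option linter.unusedSectionVars false

namespace Cfsg.Agent.Omega.NO3S.FullQ

open Subgroup Cfsg.Agent.Omega.NO3S.FarQ

variable {H M K : Type*} [Group H] [CommGroup M] [MulDistribMulAction H M] [CommGroup K]
variable {lam N : Subgroup M} {Kh : Subgroup (M →* K)}
variable {Fd Q : Type*} [Field Fd] [AddCommGroup Q] [Module Fd Q] [DistribMulAction H Q] [SMulCommClass H Fd Q]
  [Module Fd (Additive K)] {κ : M → Q} {a0 : Q}

/-- a functional with `α u = 1`, `α v = 0` -/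
theorem exists_fun {u v : Q} (h : ∀ c : Fd, u ≠ c • v) : ∃ α : Q →ₗ[Fd] Fd, α u = 1 ∧ α v = 0 := by
  have h1 : u ∉ Submodule.span Fd {v} := fun hu => by
    obtain ⟨c, hc⟩ := Submodule.mem_span_singleton.1 hu
    exact h c hc.symm
  obtain ⟨f, hf, hf'⟩ := Submodule.exists_le_ker_of_notMem h1
  refine ⟨(f u)⁻¹ • f, ?_, ?_⟩
  · rw [LinearMap.smul_apply, smul_eq_mul, inv_mul_cancel₀ hf]
  · have h2 : f v = 0 := hf' (Submodule.mem_span_singleton_self v)
    rw [LinearMap.smul_apply, h2, smul_zero]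

/-- **`Two`** from the `F`-structure. -/
theorem two_of (C : Cnt.Qm Fd H κ a0 N lam) (kh : ∀ φ ∈ Kh, ∀ h : H, ∃ ψ ∈ Kh, ∀ m, ψ m = φ (h • m))
    (full : ∀ f : Q →ₗ[Fd] Additive K, ∃ φ ∈ Kh, ∀ m, Additive.ofMul (φ m) = f (κ m))
    (lin : ∀ φ ∈ Kh, ∀ c : Fd, ∀ a ∈ lam, ∀ b ∈ lam, κ b = c • κ a → Additive.ofMul (φ b) = c • Additive.ofMul (φ a))
    {h : H} (hi : ∀ c : Fd, h • a0 ≠ c • h⁻¹ • a0) : Two Kh N lam h := by
  intro φ₁ hφ₁ φ₂ hφ₂
  obtain ⟨a, ha, hκ⟩ := (C.lam a0).2 (Submodule.mem_span_singleton_self _)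
  have hi' : ∀ c : Fd, h⁻¹ • a0 ≠ c • h • a0 := by
    intro c hc
    have hc0 : c ≠ 0 := by
      rintro rfl
      rw [zero_smul] at hc
      exact C.ne ((smul_eq_zero_iff_eq h⁻¹).1 hc)
    refine hi c⁻¹ ?_
    rw [hc, smul_smul, inv_mul_cancel₀ hc0, one_smul]
  obtain ⟨α, α1, α0⟩ := exists_fun hi
  obtain ⟨β, β1, β0⟩ := exists_fun hi'
  obtain ⟨φ, hφ, h1⟩ := full (α.smulRight (Additive.ofMul (φ₁ (h • a))) + β.smulRight (Additive.ofMul (φ₂ (h⁻¹ • a))))
  -- linearity on `g lam`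
  have key : ∀ φ ∈ Kh, ∀ g : H, ∀ c : Fd, ∀ b ∈ lam, κ b = c • a0 →
      Additive.ofMul (φ (g • b)) = c • Additive.ofMul (φ (g • a)) := by
    intro φ hφ g c b hb hc
    obtain ⟨ψ, hψ, e⟩ := kh φ hφ g
    rw [← e, ← e]
    exact lin ψ hψ c a ha b hb (by rw [hκ, hc])
  refine ⟨φ, hφ, fun b hb => ?_, fun b hb => ?_, fun m hm => ?_⟩
  · obtain ⟨c, hc⟩ := Submodule.mem_span_singleton.1 ((C.lam (κ b)).1 ⟨b, hb, rfl⟩)
    apply Additive.ofMul.injective
    rw [key φ hφ h c b hb hc.symm, key φ₁ hφ₁ h c b hb hc.symm, h1, C.act, hκ, LinearMap.add_apply,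
      LinearMap.smulRight_apply, LinearMap.smulRight_apply, α1, β0, one_smul, zero_smul, add_zero]
  · obtain ⟨c, hc⟩ := Submodule.mem_span_singleton.1 ((C.lam (κ b)).1 ⟨b, hb, rfl⟩)
    apply Additive.ofMul.injective
    rw [key φ hφ h⁻¹ c b hb hc.symm, key φ₂ hφ₂ h⁻¹ c b hb hc.symm, h1, C.act, hκ, LinearMap.add_apply,
      LinearMap.smulRight_apply, LinearMap.smulRight_apply, α0, β1, one_smul, zero_smul, zero_add]
  · have h2 := h1 m
    rw [(C.ker m).2 hm, map_zero] at h2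
    exact Additive.ofMul.injective (by rw [h2, ofMul_one])

end Cfsg.Agent.Omega.NO3S.FullQ

end

section


/-!
# NO-3S, `q ≥ 4`: (NO+) from (ML) (helper471 #21459)

`C` a K-group acting on the elementary abelian 2-group `V`, `T` a Sylow 2-subgroup of `C`, `s` a finite set of vectors
fixed by `T`, `A ≤ O₂(C_C(z))` for all `z ∈ s`, `U = ⟨s^C⟩`: **`|A : C_A(U)| ≤ |U : C_U(A)|`** (`no_plus`).

* `quoM N hN` : the action on `M / N`; `cvm N D = {m | [m, D] ≤ N}`;
* `no_step` : one vector, modulo `U₁`.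
-/

set_option autoImplicit false
set_option linter.unusedSectionVars false

namespace Cfsg.Agent.Omega.NO3S.FullQ

open Subgroup Cfsg Cfsg.Agent.ZN Cfsg.Agent.MinSimple.VModule Cfsg.Agent.Omega.NO3S.FarQ
open Cfsg.Agent.Omega.ML.MinFrame Cfsg.Agent.Omega.ML.Final
open Cfsg.Agent.ClassTwoFusion.Quad (cv mem_cv cv_anti)

universe u v

section quo

variable {H M : Type*} [Group H] [CommGroup M] [MulDistribMulAction H M]

/-- the action on `M / N` -/
@[reducible] def quoM (N : Subgroup M) (hN : HInv H N) : MulDistribMulAction H (M ⧸ N) where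
  smul h := QuotientGroup.map N N (MulDistribMulAction.toMonoidHom M h) fun n hn => hN h n hn
  one_smul := by
    rintro ⟨m⟩
    exact congrArg (QuotientGroup.mk (s := N)) (one_smul H m)
  mul_smul := by
    rintro g h ⟨m⟩
    exact congrArg (QuotientGroup.mk (s := N)) (mul_smul g h m)
  smul_mul h x y := map_mul (QuotientGroup.map N N (MulDistribMulAction.toMonoidHom M h) fun n hn => hN h n hn) x y
  smul_one h := map_one (QuotientGroup.map N N (MulDistribMulAction.toMonoidHom M h) fun n hn => hN h n hn)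

/-- `{m | [m, D] ≤ N}` -/
def cvm (N : Subgroup M) (hN : HInv H N) (D : Subgroup H) : Subgroup M where
  carrier := {m | ∀ d ∈ D, (d • m) * m⁻¹ ∈ N}
  one_mem' := fun d _ => by rw [smul_one, inv_one, mul_one]; exact one_mem _
  mul_mem' := by
    intro a b ha hb d hd
    have e : d • (a * b) * (a * b)⁻¹ = ((d • a) * a⁻¹) * ((d • b) * b⁻¹) := by
      rw [smul_mul', mul_inv]
      exact mul_mul_mul_comm _ _ _ _
    rw [e]
    exact mul_mem (ha d hd) (hb d hd)
  inv_mem' := by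
    intro a ha d hd
    have e : d • a⁻¹ * a⁻¹⁻¹ = ((d • a) * a⁻¹)⁻¹ := by rw [smul_inv', mul_inv]
    rw [e]
    exact inv_mem (ha d hd)

theorem mem_cvm {N : Subgroup M} {hN : HInv H N} {D : Subgroup H} {m : M} :
    m ∈ cvm N hN D ↔ ∀ d ∈ D, (d • m) * m⁻¹ ∈ N := Iff.rfl

theorem zm_le_cvm {N : Subgroup M} {hN : HInv H N} {D : Subgroup H} : zm M D ≤ cvm N hN D := by
  intro m hm d hd
  rw [mem_cv.1 hm d hd, mul_inv_cancel]
  exact one_mem _

theorem le_cvm {N : Subgroup M} {hN : HInv H N} {D : Subgroup H} : N ≤ cvm N hN D := fun _ hn d _ =>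
  mul_mem (hN d _ hn) (inv_mem hn)

end quo

section step

variable {C : Type u} [Group C] [Finite C] {V : Type v} [CommGroup V] [Finite V] [MulDistribMulAction C V]
variable {T D A : Subgroup C} {U₁ : Subgroup V} {z : V}

theorem orb_inv (z : V) : HInv C (orb (⊤ : Subgroup C) z) := fun g _ hm => smul_mem_orb (mem_top g) hm

/-- a subgroup of `C_C(U₁)` acting trivially on `U / U₁`, `U = U₁ ⟨z^C⟩`, acts trivially on `U` -/
theorem fix_of_quo (sq : ∀ v : V, v * v = 1) (two : IsPGroup 2 T) (odd : ¬ 2 ∣ T.index) (hU : HInv C U₁)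
    (hz : ∀ t ∈ T, t • z = z) {e : C} (he : ∀ u ∈ U₁, e • u = u)
    (he' : ∀ g : C, (e • g • z) * (g • z)⁻¹ ∈ U₁) (g : C) : e • g • z = g • z := by
  -- the normal subgroup `E` of all these elements
  let E : Subgroup C :=
    { carrier := {e | (∀ u ∈ U₁, e • u = u) ∧ ∀ g : C, (e • g • z) * (g • z)⁻¹ ∈ U₁}
      one_mem' := ⟨fun u _ => one_smul C u, fun g => by rw [one_smul, mul_inv_cancel]; exact one_mem _⟩
      mul_mem' := by
        rintro a b ⟨ha, ha'⟩ ⟨hb, hb'⟩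
        refine ⟨fun u hu => by rw [mul_smul, hb u hu, ha u hu], fun g => ?_⟩
        have e1 : (a * b) • g • z * (g • z)⁻¹ = (a • ((b • g • z) * (g • z)⁻¹)) * ((a • g • z) * (g • z)⁻¹) := by
          rw [smul_mul', smul_inv', mul_smul]
          group
        rw [e1, ha _ (hb' g)]
        exact mul_mem (hb' g) (ha' g)
      inv_mem' := by
        rintro a ⟨ha, ha'⟩
        have h1 : ∀ u ∈ U₁, a⁻¹ • u = u := fun u hu => by rw [inv_smul_eq_iff, ha u hu]
        refine ⟨h1, fun g => ?_⟩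
        have h2 := h1 _ (ha' g)
        rw [smul_mul', inv_smul_smul, smul_inv'] at h2
        have h3 := inv_mem (ha' g)
        rw [← h2, mul_inv_rev, inv_inv] at h3
        exact h3 }
  have hE : ∀ (x : C), x ∈ E ↔ (∀ u ∈ U₁, x • u = u) ∧ ∀ g : C, (x • g • z) * (g • z)⁻¹ ∈ U₁ := fun _ => Iff.rfl
  have hn : E.Normal := ⟨fun x hx k => by
    refine ⟨fun u hu => ?_, fun g => ?_⟩
    · rw [mul_smul, mul_smul, hx.1 _ (hU k⁻¹ u hu), smul_inv_smul]
    · have h1 := hU k _ (hx.2 (k⁻¹ * g))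
      rw [smul_mul', smul_inv', mul_smul, smul_inv_smul] at h1
      rw [mul_smul, mul_smul]
      exact h1⟩
  -- the homomorphism `x ↦ [x, z]`
  let φ : E →* V := MonoidHom.mk' (fun x => ((x : C) • z) * z⁻¹) (by
    intro a b
    have h1 := b.2.2 1
    rw [one_smul] at h1
    have h2 := a.2.1 _ h1
    rw [smul_mul', smul_inv', ← mul_smul] at h2
    show ((a * b : C) • z) * z⁻¹ = _
    rw [mul_comm (((a : C) • z) * z⁻¹), ← h2]
    group)
  have hker : Odd φ.ker.index := by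
    have h1 : T.subgroupOf E ≤ φ.ker := by
      intro x hx
      rw [MonoidHom.mem_ker]
      show ((x : C) • z) * z⁻¹ = 1
      rw [hz _ (mem_subgroupOf.1 hx), mul_inv_cancel]
    have h2 : ¬ 2 ∣ T.relIndex E := by
      have h4 : T ≤ normalizer (E : Set C) := by rw [normalizer_eq_top_iff.2 hn]; exact le_top
      have h5 := syl_of (S := T) (K := E) h4 (by
        intro h
        apply odd
        have h6 : T.relIndex (E ⊔ T) * (E ⊔ T).index = T.index := relIndex_mul_index le_sup_right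
        rw [← h6]
        exact h.mul_right _)
      rwa [inf_relIndex_right] at h5
    rw [← Nat.not_even_iff_odd, even_iff_two_dvd]
    intro h
    apply h2
    have h3 : (T.subgroupOf E).relIndex φ.ker * φ.ker.index = (T.subgroupOf E).index := relIndex_mul_index h1
    show 2 ∣ (T.subgroupOf E).index
    rw [← h3]
    exact h.mul_left _
  have hrange : φ.range = ⊥ := by
    rw [← card_eq_one]
    have h1 : Nat.card φ.range = φ.ker.index := (index_ker φ).symm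
    have h2 : IsPGroup 2 φ.range := fun x => ⟨1, by rw [pow_one, pow_two]; exact Subtype.ext (sq x)⟩
    have hf : Fact (Nat.Prime 2) := ⟨Nat.prime_two⟩
    obtain ⟨k, hk⟩ := IsPGroup.iff_card.1 h2
    rw [hk]
    rw [h1] at hk
    rw [hk] at hker
    rcases Nat.eq_zero_or_pos k with h3 | h3
    · rw [h3, pow_zero]
    · exfalso
      rw [← Nat.not_even_iff_odd] at hker
      exact hker ((Nat.even_pow.2 ⟨even_two, h3.ne'⟩))
  have hfix : ∀ x ∈ E, x • z = z := by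
    intro x hx
    have h1 : φ ⟨x, hx⟩ ∈ φ.range := ⟨_, rfl⟩
    rw [hrange, mem_bot] at h1
    exact mul_inv_eq_one.1 h1
  have he1 : e ∈ E := ⟨he, he'⟩
  have h1 := hfix _ (hn.conj_mem e he1 g⁻¹)
  rw [inv_inv, mul_smul, mul_smul, inv_smul_eq_iff] at h1
  exact h1

/-- **one step of (NO+)** -/
theorem no_step (hML : MLK.{u, v}) (hK : IsKGroup C) (sq : ∀ v : V, v * v = 1) (two : IsPGroup 2 T)
    (odd : ¬ 2 ∣ T.index) (hU : HInv C U₁) (hz : ∀ t ∈ T, t • z = z) (hDz : D ≤ o2 (MulAction.stabilizer C z))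
    (hDU : ∀ d ∈ D, ∀ u ∈ U₁, d • u = u) (hD2 : ∀ d ∈ D, d * d = 1) :
    (D ⊓ fixer (U₁ ⊔ orb (⊤ : Subgroup C) z)).relIndex D ≤
      (cvm U₁ hU D).relIndex (U₁ ⊔ orb (⊤ : Subgroup C) z) := by
  let _ := quoM U₁ hU
  have hmk : ∀ (g : C) (v : V), g • (QuotientGroup.mk v : V ⧸ U₁) = QuotientGroup.mk (g • v) := fun _ _ => rfl
  have hmk1 : ∀ a b : V, (QuotientGroup.mk a : V ⧸ U₁) = QuotientGroup.mk b ↔ a * b⁻¹ ∈ U₁ := by
    intro a b
    rw [eq_comm, QuotientGroup.eq, mul_comm]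
  -- `Q = O₂(C_Y(z))`, `Y = C_C(U₁)`
  set Yz : Subgroup C := fixer U₁ ⊓ MulAction.stabilizer C z with hYz
  have hconj : ∀ g : C, (g • z) * z⁻¹ ∈ U₁ → ∀ y ∈ Yz, g * y * g⁻¹ ∈ Yz := by
    intro g hg y hy
    have hy2 : y • z = z := hy.2
    have hg' : (g⁻¹ • z) * z⁻¹ ∈ U₁ := by
      have h1 := inv_mem (hU g⁻¹ _ hg)
      rw [smul_mul', inv_smul_smul, smul_inv', mul_inv_rev, inv_inv] at h1
      exact h1
    refine Subgroup.mem_inf.2 ⟨fun u hu => ?_, ?_⟩
    · rw [mul_smul, mul_smul, hy.1 _ (hU g⁻¹ u hu), smul_inv_smul]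
    · show (g * y * g⁻¹) • z = z
      have h2 := hy.1 _ hg'
      rw [smul_mul', smul_inv', hy2] at h2
      have h3 : y • g⁻¹ • z = g⁻¹ • z := mul_right_cancel h2
      rw [mul_smul, mul_smul, h3, smul_inv_smul]
  have hDY : D ≤ o2 Yz := by
    have h1 : o2 (MulAction.stabilizer C z) ⊓ Yz ≤ o2 Yz := by
      refine le_o2 inf_le_right ((o2_isPGroup _).to_le inf_le_left) ?_
      rw [le_normalizer_iff]
      intro y hy x hx
      refine Subgroup.mem_inf.2 ⟨?_, mul_mem (mul_mem hy hx.2) (inv_mem hy)⟩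
      exact (mem_normalizer_iff.1 (le_normalizer_o2 (MulAction.stabilizer C z) hy.2) x).1 hx.1
    exact fun d hd => h1 (Subgroup.mem_inf.2 ⟨hDz hd, Subgroup.mem_inf.2 ⟨hDU d hd, o2_le _ (hDz hd)⟩⟩)
  have hdat : Dat (V := V ⧸ U₁) T (o2 Yz) D (QuotientGroup.mk z : V ⧸ U₁) := by
    refine ⟨?_, two, odd, fun t ht => by rw [hmk, hz t ht], ?_, ?_, ?_, ?_, ?_⟩
    · rintro ⟨v⟩
      exact congrArg (QuotientGroup.mk (s := U₁)) (sq v)
    · intro q hq
      obtain ⟨n, hn⟩ := o2_isPGroup Yz ⟨q, hq⟩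
      refine ⟨n, fun v => ?_⟩
      have h1 : q ^ 2 ^ n = 1 := congrArg Subtype.val hn
      rw [h1, one_smul]
    · intro q hq
      rw [hmk]
      have h1 : q • z = z := (o2_le _ hq).2
      rw [h1]
    · intro g hg q hq
      rw [hmk, hmk1] at hg
      refine ⟨g * q * g⁻¹, ?_, fun _ => rfl⟩
      -- `O₂(C_Y(z))` is normalised
      have h1 : g ∈ normalizer (Yz : Set C) := by
        rw [mem_normalizer_iff]
        intro y
        constructor
        · exact hconj g hg y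
        · intro h
          have hg' : (g⁻¹ • z) * z⁻¹ ∈ U₁ := by
            have h1 := inv_mem (hU g⁻¹ _ hg)
            rw [smul_mul', inv_smul_smul, smul_inv', mul_inv_rev, inv_inv] at h1
            exact h1
          have h2 := hconj g⁻¹ hg' _ h
          have e : g⁻¹ * (g * y * g⁻¹) * g⁻¹⁻¹ = y := by group
          rwa [e] at h2
      have h2 : o2 Yz ≤ (o2 Yz).map (MulAut.conj g).toMonoidHom ⊔ o2 Yz := le_sup_right
      have h3 : (o2 Yz).map (MulAut.conj g).toMonoidHom ≤ o2 Yz := by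
        refine le_o2 ?_ ((o2_isPGroup _).map _) ?_
        · rintro _ ⟨x, hx, rfl⟩
          exact (mem_normalizer_iff.1 h1 x).1 (o2_le _ hx)
        · rw [le_normalizer_iff]
          rintro y hy _ ⟨x, hx, rfl⟩
          have h4 : g⁻¹ * y * g ∈ Yz := by
            rw [mem_normalizer_iff.1 h1]
            have e : g * (g⁻¹ * y * g) * g⁻¹ = y := by group
            rwa [e]
          refine ⟨(g⁻¹ * y * g) * x * (g⁻¹ * y * g)⁻¹, (mem_normalizer_iff.1 (le_normalizer_o2 Yz h4) x).1 hx, ?_⟩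
          show g * ((g⁻¹ * y * g) * x * (g⁻¹ * y * g)⁻¹) * g⁻¹ = y * (g * x * g⁻¹) * y⁻¹
          group
      exact h3 ⟨q, hq, rfl⟩
    · exact fun a ha => ⟨a, hDY ha, fun _ => rfl⟩
    · intro a ha v
      rw [← mul_smul, hD2 a ha, one_smul]
  have key := hML.act hK hdat
  -- translation
  set W := U₁ ⊔ orb (⊤ : Subgroup C) z with hW
  have hmap : W.map (QuotientGroup.mk' U₁) = orb (⊤ : Subgroup C) (QuotientGroup.mk z : V ⧸ U₁) := by
    rw [hW, Subgroup.map_sup]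
    have h1 : U₁.map (QuotientGroup.mk' U₁) = ⊥ := by
      rw [(Subgroup.map_eq_bot_iff U₁), QuotientGroup.ker_mk']
    rw [h1, bot_sup_eq]
    apply le_antisymm
    · rintro _ ⟨v, hv, rfl⟩
      have h2 : orb (⊤ : Subgroup C) z ≤ (orb (⊤ : Subgroup C) (QuotientGroup.mk z : V ⧸ U₁)).comap
          (QuotientGroup.mk' U₁) := orb_le fun g _ => by
        show (QuotientGroup.mk (g • z) : V ⧸ U₁) ∈ orb (⊤ : Subgroup C) (QuotientGroup.mk z : V ⧸ U₁)
        rw [← hmk]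
        exact smul_mem_orb_self (mem_top g)
      exact h2 hv
    · exact orb_le fun g _ => ⟨g • z, smul_mem_orb_self (mem_top g), rfl⟩
  have hcv : (cv (V ⧸ U₁) (D : Set C)).comap (QuotientGroup.mk' U₁) = cvm U₁ hU D := by
    ext v
    constructor
    · intro h d hd
      exact (hmk1 _ _).1 (h d hd)
    · intro h d hd
      exact (hmk1 _ _).2 (h d hd)
  have h1 : (cvm U₁ hU D).relIndex W = (cv (V ⧸ U₁) (D : Set C)).relIndex
      (orb (⊤ : Subgroup C) (QuotientGroup.mk z : V ⧸ U₁)) := by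
    rw [← hcv, relIndex_comap, hmap]
  have h2 : D ⊓ fixer W = D ⊓ fxr C (orb (⊤ : Subgroup C) (QuotientGroup.mk z : V ⧸ U₁)) := by
    ext d
    rw [Subgroup.mem_inf, Subgroup.mem_inf]
    refine and_congr_right fun hd => ?_
    constructor
    · intro h
      rw [mem_fxr_orb]
      intro g _
      rw [hmk, hmk, h _ (mem_sup_right (smul_mem_orb_self (mem_top g)))]
    · intro h
      rw [mem_fxr_orb] at h
      have h3 : ∀ g : C, d • g • z = g • z := fix_of_quo sq two odd hU hz (hDU d hd) fun g => by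
        have h4 := h g (mem_top g)
        rw [hmk, hmk, hmk1] at h4
        exact h4
      have h5 : W ≤ cv V ({d} : Set C) := by
        refine sup_le (fun u hu x hx => ?_) (orb_le fun g _ x hx => ?_)
        · rw [Set.mem_singleton_iff.1 hx]
          exact hDU d hd u hu
        · rw [Set.mem_singleton_iff.1 hx]
          exact h3 g
      exact fun w hw => h5 hw d rfl
  rw [h1, h2, inf_relIndex_left]
  exact key

/-- `⟨s^C⟩` -/
def orbs (C : Type u) [Group C] {V : Type v} [CommGroup V] [MulDistribMulAction C V] (s : Finset V) : Subgroup V :=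
  s.sup fun z => orb (⊤ : Subgroup C) z

theorem orbs_inv (s : Finset V) : HInv C (orbs C s) := by
  classical
  unfold orbs
  induction s using Finset.induction_on with
  | empty =>
    intro g n hn
    rw [Finset.sup_empty, mem_bot] at hn ⊢
    rw [hn, smul_one]
  | insert a s _ ih =>
    rw [Finset.sup_insert]
    exact (orb_inv a).sup ih

theorem card_rel (A B : Subgroup V) : Nat.card (A ⊓ B : Subgroup V) * A.relIndex B = Nat.card B := by
  have h1 : (A ⊓ B).relIndex B = A.relIndex B := inf_relIndex_right A B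
  rw [← h1, ← Subgroup.relIndex_bot_left (A ⊓ B : Subgroup V), ← Subgroup.relIndex_bot_left B]
  exact relIndex_mul_relIndex ⊥ _ B bot_le inf_le_right

/-- **(NO+)**, with orders. -/
theorem no_plus_card (hML : MLK.{u, v}) (hK : IsKGroup C) (sq : ∀ v : V, v * v = 1) (two : IsPGroup 2 T)
    (odd : ¬ 2 ∣ T.index) (hA2 : ∀ a ∈ A, a * a = 1) (s : Finset V) (hs : ∀ z ∈ s, ∀ t ∈ T, t • z = z)
    (hAs : ∀ z ∈ s, A ≤ o2 (MulAction.stabilizer C z)) :
    Nat.card A * Nat.card (orbs C s ⊓ zm V A : Subgroup V) ≤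
      Nat.card (orbs C s) * Nat.card (A ⊓ fixer (orbs C s) : Subgroup C) := by
  classical
  induction s using Finset.induction_on with
  | empty =>
    have h1 : orbs C (∅ : Finset V) = ⊥ := Finset.sup_empty
    rw [h1, bot_inf_eq, card_bot, mul_one, one_mul]
    refine Subgroup.card_le_of_le fun a ha => Subgroup.mem_inf.2 ⟨ha, fun v hv => ?_⟩
    rw [mem_bot.1 hv, smul_one]
  | insert z s _ ih =>
    have ih' := ih (fun y hy => hs y (Finset.mem_insert_of_mem hy)) fun y hy => hAs y (Finset.mem_insert_of_mem hy)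
    set U₁ := orbs C s with hU₁
    have hinv : HInv C U₁ := orbs_inv s
    have hins : orbs C (insert z s) = U₁ ⊔ orb (⊤ : Subgroup C) z := by
      rw [hU₁, orbs, Finset.sup_insert, sup_comm]
      rfl
    rw [hins]
    set W := U₁ ⊔ orb (⊤ : Subgroup C) z with hW
    set D := A ⊓ fixer U₁ with hD
    have hstep := no_step (D := D) hML hK sq two odd hinv (hs z (Finset.mem_insert_self z s))
      (inf_le_left.trans (hAs z (Finset.mem_insert_self z s))) (fun d hd => (Subgroup.mem_inf.1 hd).2)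
      fun d hd => hA2 d (Subgroup.mem_inf.1 hd).1
    rw [← hW] at hstep
    -- `D ∩ C(W) = A ∩ C(W)`
    have hDW : D ⊓ fixer W = A ⊓ fixer W := by
      ext d
      rw [Subgroup.mem_inf, Subgroup.mem_inf]
      constructor
      · rintro ⟨h1, h2⟩
        exact ⟨(Subgroup.mem_inf.1 h1).1, h2⟩
      · rintro ⟨h1, h2⟩
        exact ⟨Subgroup.mem_inf.2 ⟨h1, fun u hu => h2 u (mem_sup_left hu)⟩, h2⟩
    have h1 : Nat.card (A ⊓ fixer W : Subgroup C) * (D ⊓ fixer W).relIndex D = Nat.card D := by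
      rw [← hDW, ← Subgroup.relIndex_bot_left (D ⊓ fixer W : Subgroup C), ← Subgroup.relIndex_bot_left D]
      exact relIndex_mul_relIndex ⊥ _ D bot_le inf_le_left
    have h2 := card_rel (cvm U₁ hinv D) W
    -- `|C_W(A)| |U₁| ≤ |C_{U₁}(A)| |C_W(D mod U₁)|`
    have h3 : Nat.card (W ⊓ zm V A : Subgroup V) * Nat.card U₁ ≤
        Nat.card (U₁ ⊓ zm V A : Subgroup V) * Nat.card (cvm U₁ hinv D ⊓ W : Subgroup V) := by
      have h4 := card_rel U₁ (W ⊓ zm V A)
      have h5 : Nat.card (U₁ ⊓ (W ⊓ zm V A) : Subgroup V) = Nat.card (U₁ ⊓ zm V A : Subgroup V) := by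
        rw [← inf_assoc, inf_eq_left.2 (le_sup_left : U₁ ≤ W)]
      rw [h5] at h4
      have h6 : U₁.relIndex (W ⊓ zm V A) ≤ U₁.relIndex (cvm U₁ hinv D ⊓ W) := by
        refine relIndex_le_of_le_right ?_ index_ne_zero_of_finite
        refine le_inf ?_ inf_le_left
        exact inf_le_right.trans ((cv_anti (fun d hd => (Subgroup.mem_inf.1 hd).1)).trans zm_le_cvm)
      have h7 := card_rel U₁ (cvm U₁ hinv D ⊓ W)
      have h8 : Nat.card (U₁ ⊓ (cvm U₁ hinv D ⊓ W) : Subgroup V) = Nat.card U₁ := by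
        rw [inf_eq_left.2 (le_inf le_cvm le_sup_left)]
      rw [h8] at h7
      calc Nat.card (W ⊓ zm V A : Subgroup V) * Nat.card U₁
          = Nat.card (U₁ ⊓ zm V A : Subgroup V) * U₁.relIndex (W ⊓ zm V A) * Nat.card U₁ := by rw [h4]
        _ ≤ Nat.card (U₁ ⊓ zm V A : Subgroup V) * U₁.relIndex (cvm U₁ hinv D ⊓ W) * Nat.card U₁ :=
          Nat.mul_le_mul_right _ (Nat.mul_le_mul_left _ h6)
        _ = Nat.card (U₁ ⊓ zm V A : Subgroup V) * Nat.card (cvm U₁ hinv D ⊓ W : Subgroup V) := by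
          rw [← h7]; ring
    have hpos : 0 < Nat.card U₁ := Nat.card_pos
    refine Nat.le_of_mul_le_mul_right ?_ hpos
    calc Nat.card A * Nat.card (W ⊓ zm V A : Subgroup V) * Nat.card U₁
        = Nat.card A * (Nat.card (W ⊓ zm V A : Subgroup V) * Nat.card U₁) := by ring
      _ ≤ Nat.card A * (Nat.card (U₁ ⊓ zm V A : Subgroup V) * Nat.card (cvm U₁ hinv D ⊓ W : Subgroup V)) :=
        Nat.mul_le_mul_left _ h3
      _ = Nat.card A * Nat.card (U₁ ⊓ zm V A : Subgroup V) * Nat.card (cvm U₁ hinv D ⊓ W : Subgroup V) := by ring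
      _ ≤ Nat.card U₁ * Nat.card D * Nat.card (cvm U₁ hinv D ⊓ W : Subgroup V) := Nat.mul_le_mul_right _ ih'
      _ = Nat.card U₁ * (Nat.card (A ⊓ fixer W : Subgroup C) * (D ⊓ fixer W).relIndex D) *
          Nat.card (cvm U₁ hinv D ⊓ W : Subgroup V) := by rw [h1]
      _ ≤ Nat.card U₁ * (Nat.card (A ⊓ fixer W : Subgroup C) * (cvm U₁ hinv D).relIndex W) *
          Nat.card (cvm U₁ hinv D ⊓ W : Subgroup V) :=
        Nat.mul_le_mul_right _ (Nat.mul_le_mul_left _ (Nat.mul_le_mul_left _ hstep))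
      _ = Nat.card W * Nat.card (A ⊓ fixer W : Subgroup C) * Nat.card U₁ := by rw [← h2]; ring

end step

end Cfsg.Agent.Omega.NO3S.FullQ

end

section


/-!
# NO-3S, `q ≥ 4`: the dichotomy for atoms (helper471 #21459, sections 1 and 6)

`F : Flag T lam U Kh`, (ML) for K-groups, `H` a K-group.

* `Atom lam A₁` : a minimal exact group; `exists_atom`;
* `Flag.one_a` : (1a) `|M| ≤ |C_A(V_R)| |V_R C_M(A)|`, `V_R = ⟨Z^R⟩`, `T ≤ R`, `Z ≤ lam`;
* `Flag.one_b` : (1b) for every `H`-invariant `N`, `N ∩ lam = 1`: `A₁ ≤ C_H(M / N)`, or `A₁ ∩ C_H(M / N) = 1`,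
  `[N, A₁] = 1`, and then `A₁ ≤ O₂(C_H(a mod N))`, `1 ≠ a ∈ lam`;
* `ClassP lam Kh A₁`; **`Flag.dich`** : an exact `A` is in `C_H(M / rad)` or contains an atom of class P;
* `Flag.fixer_cq` : `C_H(N) ∩ C_H(M / N) = 1`; `Flag.np_lam`, `Flag.np_o2` : class P: `N⁺ ∩ lam = 1`, `A₁ ≤ O₂(C_H(a mod N⁺))`.
-/

set_option autoImplicit false
set_option linter.unusedSectionVars false

namespace Cfsg.Agent.Omega.NO3S.FullQ

open Subgroup Cfsg Cfsg.Agent.ZN Cfsg.Agent.MinSimple.VModule Cfsg.Agent.Omega.NO3S.FarQ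
open Cfsg.Agent.Omega.ML.MinFrame Cfsg.Agent.Omega.ML.Final
open Cfsg.Agent.ClassTwoFusion.Quad (cv mem_cv cv_anti)

universe u

section defs

variable {H M K : Type*} [Group H] [CommGroup M] [MulDistribMulAction H M] [CommGroup K]

/-- a minimal exact group -/
structure Atom (lam : Subgroup M) (A₁ : Subgroup H) : Prop where
  ex : Exact lam A₁
  min : ∀ D ≤ A₁, D ≠ ⊥ → (zm M D).index ≤ Nat.card D → D = A₁

/-- `C_H(a mod N)` -/
def cst (N : Subgroup M) (hN : HInv H N) (a : M) : Subgroup H where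
  carrier := {h | (h • a) * a⁻¹ ∈ N}
  one_mem' := by
    show ((1 : H) • a) * a⁻¹ ∈ N
    rw [one_smul, mul_inv_cancel]; exact one_mem _
  mul_mem' := by
    intro x y hx hy
    show ((x * y) • a) * a⁻¹ ∈ N
    have e : (x * y) • a * a⁻¹ = (x • ((y • a) * a⁻¹)) * ((x • a) * a⁻¹) := by
      rw [smul_mul', smul_inv', mul_smul]
      group
    rw [e]
    exact mul_mem (hN x _ hy) hx
  inv_mem' := by
    intro x hx
    show (x⁻¹ • a) * a⁻¹ ∈ N
    have h1 := inv_mem (hN x⁻¹ _ hx)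
    rw [smul_mul', inv_smul_smul, smul_inv', mul_inv_rev, inv_inv] at h1
    exact h1

theorem mem_cst {N : Subgroup M} {hN : HInv H N} {a : M} {h : H} : h ∈ cst N hN a ↔ (h • a) * a⁻¹ ∈ N := Iff.rfl

/-- **class P** -/
structure ClassP (lam : Subgroup M) (Kh : Subgroup (M →* K)) (A₁ : Subgroup H) : Prop where
  atom : Atom lam A₁
  bot : A₁ ⊓ cq (rad Kh) = ⊥
  np : ∀ n ∈ Np Kh, ∀ a ∈ A₁, a • n = n

/-- a subgroup of an exact group is quadratic etc. -/
theorem quad_mono {lam : Subgroup M} {A D : Subgroup H} (hA : Exact lam A) (hD : D ≤ A) :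
    D ≤ o2 (fixer lam) ∧ (∀ a ∈ D, ∀ b ∈ D, a * b = b * a) ∧ (∀ a ∈ D, a * a = 1) ∧
      ∀ a ∈ D, ∀ b ∈ D, ∀ m : M, b • ((a • m) * m⁻¹) = (a • m) * m⁻¹ :=
  ⟨hD.trans hA.le, fun a ha b hb => hA.comm a (hD ha) b (hD hb), fun a ha => hA.sq a (hD ha),
    fun a ha b hb m => hA.quad a (hD ha) b (hD hb) m⟩

theorem card_zm [Finite M] (A : Subgroup H) : Nat.card (zm M A) * (zm M A).index = Nat.card M :=
  Subgroup.card_mul_index _

/-- `M = X C_M(D)`: `|M : C_M(D)| = |X : C_X(D)|` -/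
theorem index_zm_of_sup [Finite M] {X Z : Subgroup M} (h : X ⊔ Z = ⊤) : Z.index = Z.relIndex X := by
  rw [← relIndex_top_right, ← h, relIndex_sup_right]

end defs

variable {H M K : Type u} [Group H] [CommGroup M] [MulDistribMulAction H M] [CommGroup K]
variable {T : Subgroup H} {lam U : Subgroup M} {Kh : Subgroup (M →* K)} (F : Flag T lam U Kh)
  (hML : MLK.{u, u}) (hK : IsKGroup H)
include F

/-- the stabiliser of `a ∈ lam#` is `C_H(lam)` -/
theorem _root_.Cfsg.Agent.Omega.NO3S.FarQ.Flag.stab {a : M} (ha : a ∈ lam) (ha1 : a ≠ 1) :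
    MulAction.stabilizer H a = fixer lam := by
  ext h
  exact ⟨fun hh => F.lin a ha ha1 h hh, fun hh => hh a ha⟩

theorem _root_.Cfsg.Agent.Omega.NO3S.FarQ.Flag.o2_le_T : o2 (fixer lam) ≤ T := by
  have := F.finH
  exact o2_le_of_sylow F.two (by
    intro h
    apply F.ndvd
    have h1 : T.relIndex (fixer lam) * (fixer (H := H) lam).index = T.index := relIndex_mul_index F.T_le
    rw [← h1]
    exact h.mul_right _)

/-- `O₂(H) = 1` -/
theorem _root_.Cfsg.Agent.Omega.NO3S.FarQ.Flag.two_normal {E : Subgroup H} (hE : E.Normal) (h2 : IsPGroup 2 E) :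
    E = ⊥ := by
  have := F.finH
  have hf : Fact (Nat.Prime 2) := ⟨Nat.prime_two⟩
  have hET : E ≤ T := by
    have h1 : IsPGroup 2 (T ⊔ E : Subgroup H) := IsPGroup.to_sup_of_normal_right' F.two h2 (by
      rw [normalizer_eq_top_iff.2 hE]; exact le_top)
    have h3 : (T ⊔ E : Subgroup H) = T := (F.two.toSylow F.ndvd).is_maximal' h1 le_sup_left
    exact le_sup_right.trans h3.le
  rw [eq_bot_iff]
  intro e he
  rw [mem_bot]
  apply F.faith
  have h1 : cv M ({e} : Set H) = ⊤ := F.gen _ fun h a ha => by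
    rw [mem_cv]
    intro x hx
    rw [Set.mem_singleton_iff.1 hx]
    have h2 := F.fix _ (hET (hE.conj_mem e he h⁻¹)) a ha
    rw [inv_inv, mul_smul, mul_smul, inv_smul_eq_iff] at h2
    exact h2
  intro m
  have h2 : m ∈ cv M ({e} : Set H) := by rw [h1]; exact mem_top m
  exact (mem_cv.1 h2) e rfl

include hML hK

/-- **(1a)** `|M| ≤ |C_A(V_R)| |V_R C_M(A)|` for `|A| = |M : C_M(A)|`, `A ≤ O₂(C_H(lam))`, `V_R = ⟨Z^R⟩`. -/
theorem _root_.Cfsg.Agent.Omega.NO3S.FarQ.Flag.one_a {A R : Subgroup H} (hTR : T ≤ R) (hA : A ≤ o2 (fixer lam))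
    (hsq : ∀ a ∈ A, a * a = 1) (hex : (zm M A).index ≤ Nat.card A) (s : Finset M) (hs : ∀ z ∈ s, z ∈ lam ∧ z ≠ 1) :
    ∃ V : Subgroup M, (∀ g ∈ R, ∀ v ∈ V, g • v ∈ V) ∧ (∀ z ∈ s, z ∈ V) ∧
      (∀ E : Subgroup M, (∀ z ∈ s, ∀ g ∈ R, g • z ∈ E) → V ≤ E) ∧
      Nat.card M ≤ Nat.card (A ⊓ fixer V : Subgroup H) * Nat.card (V ⊔ zm M A : Subgroup M) := by
  classical
  have := F.finH
  have := F.finM
  have hAR : A ≤ R := (hA.trans F.o2_le_T).trans hTR
  have hKR : IsKGroup R := kgroup_of_surj hK R (MonoidHom.id R) fun x => ⟨x, rfl⟩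
  have hR : ∀ (g : R) (m : M), g • m = (g : H) • m := fun _ _ => rfl
  have key := no_plus_card (C := R) (V := M) (T := T.subgroupOf R) (A := A.subgroupOf R) hML hKR F.sq
    (F.two.comap_of_injective R.subtype R.subtype_injective) (by
      intro h
      apply F.ndvd
      have h1 : T.relIndex R * R.index = T.index := relIndex_mul_index hTR
      rw [← h1]
      exact Dvd.dvd.mul_right h _) (fun a ha => Subtype.ext (hsq a (mem_subgroupOf.1 ha))) s
    (fun z hz t ht => F.fix _ (mem_subgroupOf.1 ht) z (hs z hz).1) (fun z hz => by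
      -- `A ≤ O₂(C_R(z))`
      have hst : ∀ g : R, g ∈ MulAction.stabilizer R z ↔ (g : H) ∈ fixer lam := by
        intro g
        rw [← F.stab (hs z hz).1 (hs z hz).2]
        exact Iff.rfl
      have h1 : (o2 (fixer (H := H) lam)).subgroupOf R ≤ o2 (MulAction.stabilizer R z) := by
        refine le_o2 ?_ ((o2_isPGroup _).comap_of_injective R.subtype R.subtype_injective) ?_
        · intro x hx
          rw [hst]
          exact o2_le _ (mem_subgroupOf.1 hx)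
        · rw [le_normalizer_iff]
          intro g hg x hx
          rw [mem_subgroupOf] at hx ⊢
          exact (mem_normalizer_iff.1 (le_normalizer_o2 _ ((hst g).1 hg)) _).1 hx
      exact fun a ha => h1 (mem_subgroupOf.2 (hA (mem_subgroupOf.1 ha))))
  set V := orbs R s with hV
  have hVinv : ∀ g ∈ R, ∀ v ∈ V, g • v ∈ V := fun g hg v hv => orbs_inv s (⟨g, hg⟩ : R) v hv
  refine ⟨V, hVinv, fun z hz => ?_, fun E hE => ?_, ?_⟩
  · exact (Finset.le_sup (f := fun z => orb (⊤ : Subgroup R) z) hz) (mem_orb_self _ z)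
  · exact Finset.sup_le fun z hz => orb_le fun g _ => hE z hz g g.2
  · have h1 : Nat.card (A.subgroupOf R) = Nat.card A := Nat.card_congr (subgroupOfEquivOfLe hAR).toEquiv
    have h2 : zm M (A.subgroupOf R) = zm M A := by
      ext m
      rw [mem_cv, mem_cv]
      constructor
      · exact fun h a ha => h ⟨a, hAR ha⟩ (mem_subgroupOf.2 ha)
      · exact fun h a ha => h a (mem_subgroupOf.1 ha)
    have h3 : Nat.card (A.subgroupOf R ⊓ fixer V : Subgroup R) = Nat.card (A ⊓ fixer V : Subgroup H) := by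
      have e : (A.subgroupOf R ⊓ fixer V : Subgroup R) = (A ⊓ fixer V : Subgroup H).subgroupOf R := by
        ext x
        rw [Subgroup.mem_inf, mem_subgroupOf, mem_subgroupOf, Subgroup.mem_inf]
        exact Iff.rfl
      rw [e]
      exact Nat.card_congr (subgroupOfEquivOfLe (inf_le_left.trans hAR)).toEquiv
    rw [h1, h2, h3] at key
    have h4 := card_rel (zm M A) V
    have h5 : (zm M A).relIndex V = (zm M A).relIndex (V ⊔ zm M A) := by rw [sup_comm, relIndex_sup_left]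
    have h6 : Nat.card (zm M A) * (zm M A).relIndex (V ⊔ zm M A) = Nat.card (V ⊔ zm M A : Subgroup M) :=
      card_mul_relIndex' le_sup_right
    have h7 := card_zm (M := M) A
    rw [inf_comm] at h4
    have hpos : 0 < Nat.card (V ⊓ zm M A : Subgroup M) := Nat.card_pos
    -- `|A| ≤ |V : C_V(A)| |C_A(V)|`
    have h8 : Nat.card A ≤ (zm M A).relIndex V * Nat.card (A ⊓ fixer V : Subgroup H) := by
      refine Nat.le_of_mul_le_mul_right ?_ hpos
      calc Nat.card A * Nat.card (V ⊓ zm M A : Subgroup M) ≤ Nat.card V * Nat.card (A ⊓ fixer V : Subgroup H) := key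
        _ = _ := by rw [← h4]; ring
    calc Nat.card M = Nat.card (zm M A) * (zm M A).index := h7.symm
      _ ≤ Nat.card (zm M A) * Nat.card A := Nat.mul_le_mul_left _ hex
      _ ≤ Nat.card (zm M A) * ((zm M A).relIndex V * Nat.card (A ⊓ fixer V : Subgroup H)) := Nat.mul_le_mul_left _ h8
      _ = Nat.card (A ⊓ fixer V : Subgroup H) * Nat.card (V ⊔ zm M A : Subgroup M) := by rw [← h6, ← h5]; ring


/-- **(NO)** in `(H, M)`, for elementary abelian subgroups of `O₂(C_H(lam))` -/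
theorem _root_.Cfsg.Agent.Omega.NO3S.FarQ.Flag.no {A : Subgroup H} (hA : A ≤ o2 (fixer lam))
    (hsq : ∀ a ∈ A, a * a = 1) : Nat.card A ≤ (zm M A).index := by
  classical
  have := F.finH
  have := F.finM
  have : Finite lam := inferInstance
  let s : Finset M := (Set.toFinite {a : M | a ∈ lam ∧ a ≠ 1}).toFinset
  have hs : ∀ a, a ∈ s ↔ a ∈ lam ∧ a ≠ 1 := fun a => by rw [Set.Finite.mem_toFinset]; exact Iff.rfl
  have key := no_plus_card (C := H) (V := M) (T := T) (A := A) hML hK F.sq F.two F.ndvd hsq s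
    (fun z hz t ht => F.fix t ht z ((hs z).1 hz).1) fun z hz => by
      rw [F.stab ((hs z).1 hz).1 ((hs z).1 hz).2]
      exact hA
  have htop : orbs H s = ⊤ := F.gen _ fun h a ha => by
    by_cases ha1 : a = 1
    · rw [ha1, smul_one]; exact one_mem _
    · exact orbs_inv s h _ ((Finset.le_sup (f := fun z => orb (⊤ : Subgroup H) z) ((hs a).2 ⟨ha, ha1⟩))
        (mem_orb_self _ a))
  rw [htop, top_inf_eq] at key
  have h1 : (A ⊓ fixer (⊤ : Subgroup M) : Subgroup H) = ⊥ := by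
    rw [eq_bot_iff]
    intro h hh
    rw [mem_bot]
    exact F.faith h fun m => (Subgroup.mem_inf.1 hh).2 m (mem_top m)
  rw [h1, Subgroup.card_bot, mul_one, Subgroup.card_top, ← card_zm (M := M) A, mul_comm] at key
  exact Nat.le_of_mul_le_mul_left key Nat.card_pos

omit hML hK in
/-- `M = N C_M(C_H(lam mod N))` -/
theorem _root_.Cfsg.Agent.Omega.NO3S.FarQ.Flag.sup_zm {N : Subgroup M} (hN : HInv H N) {D : Subgroup H} (hD : D ≤ cq N) :
    N ⊔ zm M D = ⊤ := by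
  have := F.finH
  have h1 : N ⊔ zm M (cq (H := H) N) = ⊤ := F.gen _ fun h a ha => by
    have hinv : HInv H (zm M (cq (H := H) N)) := by
      intro g m hm
      rw [mem_cv] at hm ⊢
      intro c hc
      have h2 := hm _ (hN.conj_mem (g := g⁻¹) hc)
      rw [inv_inv, mul_smul, mul_smul, inv_smul_eq_iff] at h2
      exact h2
    refine (hN.sup hinv) h a ?_
    have h2 := F.n0_mem (N := N) (hN := hN) ha
    have h3 : ov (cmod N lam hN) lam a ∈ zm M (cq (H := H) N) := by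
      rw [mem_cv]
      exact fun c hc => smul_ov (cq_le_cmod hc) ha
    have e : a = (n0 N lam hN a)⁻¹ * ov (cmod N lam hN) lam a := by
      unfold n0
      rw [mul_inv_rev, inv_inv, mul_assoc, inv_mul_cancel, mul_one]
    rw [e]
    exact mul_mem (mem_sup_left (inv_mem h2)) (mem_sup_right h3)
  rw [eq_top_iff, ← h1]
  exact sup_le_sup_left (cv_anti hD) N

/-- **(1b)** -/
theorem _root_.Cfsg.Agent.Omega.NO3S.FarQ.Flag.one_b {A₁ : Subgroup H} (hA : Atom lam A₁) {N : Subgroup M}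
    (hN : HInv H N) (hNl : ∀ a ∈ lam, a ∈ N → a = 1) :
    A₁ ≤ cq N ∨ (A₁ ⊓ cq N = ⊥ ∧ (∀ n ∈ N, ∀ a ∈ A₁, a • n = n) ∧
      ∀ a ∈ lam, a ≠ 1 → A₁ ≤ o2 (cst N hN a)) := by
  classical
  have := F.finH
  have := F.finM
  by_cases hcq : A₁ ≤ cq N
  · exact Or.inl hcq
  right
  -- `A₁ ≤ O₂(C_H(a mod N))`
  have ho2 : ∀ a ∈ lam, a ≠ 1 → A₁ ≤ o2 (cst N hN a) := by
    intro a ha ha1
    have hTR : T ≤ cst N hN a := fun t ht => by
      rw [mem_cst, F.fix t ht a ha, mul_inv_cancel]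
      exact one_mem _
    obtain ⟨V, hV, haV, hVle, hcard⟩ := F.one_a hML hK hTR hA.ex.le hA.ex.sq hA.ex.card.ge {a}
      (fun z hz => by rw [Finset.mem_singleton.1 hz]; exact ⟨ha, ha1⟩)
    have haV' : a ∈ V := haV a (Finset.mem_singleton_self a)
    -- `V ≤ ⟨a⟩ N`
    have hVN : V ≤ zpowers a ⊔ N := hVle _ fun z hz g hg => by
      rw [Finset.mem_singleton.1 hz]
      have e : g • a = a * ((g • a) * a⁻¹) := by rw [mul_comm, inv_mul_cancel_right]
      rw [e]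
      exact mul_mem (mem_sup_left (mem_zpowers a)) (mem_sup_right hg)
    have hle : V ⊔ zm M A₁ ≤ N ⊔ zm M A₁ := by
      refine sup_le (hVN.trans (sup_le ?_ le_sup_left)) le_sup_right
      rw [zpowers_le]
      refine mem_sup_right ?_
      rw [mem_cv]
      exact fun x hx => o2_le _ (hA.ex.le hx) a ha
    set D : Subgroup H := A₁ ⊓ fixer V with hD
    have hDex : (zm M D).index ≤ Nat.card D := by
      have h1 : V ⊔ zm M A₁ ≤ zm M D := sup_le (fun v hv => by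
        rw [mem_cv]
        exact fun d hd => (Subgroup.mem_inf.1 hd).2 v hv) (cv_anti inf_le_left)
      have h2 := Subgroup.card_le_of_le h1
      have h3 := card_zm (M := M) D
      have h4 : Nat.card (zm M D) * (zm M D).index ≤ Nat.card (zm M D) * Nat.card D := by
        rw [h3, mul_comm]
        exact hcard.trans (Nat.mul_le_mul_left _ h2)
      exact Nat.le_of_mul_le_mul_left h4 Nat.card_pos
    have hDA : D = A₁ := by
      by_cases hD1 : D = ⊥
      · exfalso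
        apply hcq
        rw [hD1, Subgroup.card_bot, one_mul] at hcard
        have h1 : N ⊔ zm M A₁ = ⊤ := by
          apply Subgroup.eq_top_of_le_card
          exact hcard.trans (Subgroup.card_le_of_le hle)
        intro x hx m
        have h2 : m ∈ N ⊔ zm M A₁ := by rw [h1]; exact mem_top m
        obtain ⟨n, hn, z, hz, rfl⟩ := mem_sup.1 h2
        rw [smul_mul', mem_cv.1 hz x hx, mul_inv, mul_mul_mul_comm, mul_inv_cancel, mul_one]
        exact mul_mem (hN x n hn) (inv_mem hn)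
      · exact hA.min D inf_le_left hD1 hDex
    have hAV : A₁ ≤ fixer V := by rw [← hDA]; exact inf_le_right
    -- `O₂(C_H(lam)) ∩ C(V) ≤ O₂(C_H(a mod N))`
    set Y : Subgroup H := fixer V ⊓ cst N hN a with hY
    have hYl : Y ≤ fixer lam := fun y hy => F.lin a ha ha1 y ((Subgroup.mem_inf.1 hy).1 a haV')
    have hYn : ∀ g ∈ cst N hN a, ∀ y ∈ Y, g * y * g⁻¹ ∈ Y := by
      intro g hg y hy
      refine Subgroup.mem_inf.2 ⟨fun v hv => ?_, mul_mem (mul_mem hg (Subgroup.mem_inf.1 hy).2) (inv_mem hg)⟩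
      rw [mul_smul, mul_smul, (Subgroup.mem_inf.1 hy).1 _ (hV _ (inv_mem hg) v hv), smul_inv_smul]
    have hYn' : cst N hN a ≤ normalizer (Y : Set H) := by
      rw [le_normalizer_iff]
      exact hYn
    have hAY : A₁ ≤ o2 Y := by
      have h1 : o2 (fixer lam) ⊓ Y ≤ o2 Y := by
        refine le_o2 inf_le_right ((o2_isPGroup _).to_le inf_le_left) ?_
        rw [le_normalizer_iff]
        intro y hy x hx
        refine Subgroup.mem_inf.2 ⟨?_, mul_mem (mul_mem hy (Subgroup.mem_inf.1 hx).2) (inv_mem hy)⟩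
        exact (mem_normalizer_iff.1 (le_normalizer_o2 _ (hYl hy)) x).1 (Subgroup.mem_inf.1 hx).1
      refine fun x hx => h1 (Subgroup.mem_inf.2 ⟨hA.ex.le hx, Subgroup.mem_inf.2 ⟨hAV hx, ?_⟩⟩)
      exact hTR (F.o2_le_T (hA.ex.le hx))
    refine hAY.trans (le_o2 ((o2_le _).trans inf_le_right) (o2_isPGroup _) ?_)
    -- `O₂(Y)` is normal in `C_H(a mod N)`
    rw [le_normalizer_iff]
    intro g hg x hx
    have h3 : (o2 Y).map (MulAut.conj g).toMonoidHom ≤ o2 Y := by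
      refine le_o2 ?_ ((o2_isPGroup _).map _) ?_
      · rintro _ ⟨x, hx, rfl⟩
        exact hYn g hg x (o2_le _ hx)
      · rw [le_normalizer_iff]
        rintro y hy _ ⟨x, hx, rfl⟩
        have h4 : g⁻¹ * y * g ∈ Y := by
          have h5 := hYn g⁻¹ (inv_mem hg) y hy
          rwa [inv_inv] at h5
        refine ⟨(g⁻¹ * y * g) * x * (g⁻¹ * y * g)⁻¹, (mem_normalizer_iff.1 (le_normalizer_o2 Y h4) x).1 hx, ?_⟩
        show g * ((g⁻¹ * y * g) * x * (g⁻¹ * y * g)⁻¹) * g⁻¹ = y * (g * x * g⁻¹) * y⁻¹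
        group
    exact h3 ⟨x, hx, rfl⟩
  -- (NO+) on `M / N`
  let s : Finset (M ⧸ N) := ((Set.toFinite {a : M | a ∈ lam ∧ a ≠ 1}).toFinset).image QuotientGroup.mk
  have hs : ∀ z, z ∈ s ↔ ∃ a ∈ lam, a ≠ 1 ∧ (QuotientGroup.mk a : M ⧸ N) = z := fun z => by
    rw [Finset.mem_image]
    constructor
    · rintro ⟨a, ha, rfl⟩
      rw [Set.Finite.mem_toFinset] at ha
      exact ⟨a, ha.1, ha.2, rfl⟩
    · rintro ⟨a, ha, ha1, rfl⟩
      exact ⟨a, by rw [Set.Finite.mem_toFinset]; exact ⟨ha, ha1⟩, rfl⟩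
  let _ := quoM (H := H) N hN
  have hmk : ∀ (g : H) (v : M), g • (QuotientGroup.mk v : M ⧸ N) = QuotientGroup.mk (g • v) := fun _ _ => rfl
  have hmk1 : ∀ a b : M, (QuotientGroup.mk a : M ⧸ N) = QuotientGroup.mk b ↔ a * b⁻¹ ∈ N := by
    intro a b
    rw [eq_comm, QuotientGroup.eq, mul_comm]
  have key := no_plus_card (C := H) (V := M ⧸ N) (T := T) (A := A₁) hML hK (by
      rintro ⟨v⟩
      exact congrArg (QuotientGroup.mk (s := N)) (F.sq v)) F.two F.ndvd hA.ex.sq s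
    (fun z hz t ht => by
      obtain ⟨a, ha, -, rfl⟩ := (hs z).1 hz
      rw [hmk, F.fix t ht a ha]) fun z hz => by
      obtain ⟨a, ha, ha1, rfl⟩ := (hs z).1 hz
      have e : MulAction.stabilizer H (QuotientGroup.mk a : M ⧸ N) = cst N hN a := by
        ext h
        rw [MulAction.mem_stabilizer_iff, hmk, hmk1, mem_cst]
      rw [e]
      exact ho2 a ha ha1
  have htop : orbs H s = ⊤ := by
    have h1 : (orbs H s).comap (QuotientGroup.mk' N) = ⊤ := F.gen _ fun h a ha => by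
      show (QuotientGroup.mk (h • a) : M ⧸ N) ∈ orbs H s
      by_cases ha1 : a = 1
      · rw [ha1, smul_one]; exact one_mem _
      · rw [← hmk]
        exact orbs_inv s h _ ((Finset.le_sup (f := fun z => orb (⊤ : Subgroup H) z) ((hs _).2 ⟨a, ha, ha1, rfl⟩))
          (mem_orb_self _ _))
    rw [eq_top_iff]
    rintro ⟨m⟩ -
    have h2 : m ∈ (orbs H s).comap (QuotientGroup.mk' N) := by rw [h1]; exact mem_top m
    exact h2
  rw [htop, top_inf_eq, Subgroup.card_top] at key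
  have hfix : (A₁ ⊓ fixer (⊤ : Subgroup (M ⧸ N)) : Subgroup H) = A₁ ⊓ cq N := by
    ext h
    rw [Subgroup.mem_inf, Subgroup.mem_inf]
    refine and_congr_right fun _ => ?_
    constructor
    · intro hh m
      exact (hmk1 _ _).1 (hh (QuotientGroup.mk m) (mem_top _))
    · rintro hh ⟨m⟩ -
      exact (hmk1 _ _).2 (hh m)
  rw [hfix] at key
  set D : Subgroup H := A₁ ⊓ cq N with hD
  -- `|N C_M(A₁)| ≤ |C_{M/N}(A₁)| |N|`
  have h1 : Nat.card (N ⊔ zm M A₁ : Subgroup M) ≤ Nat.card (zm (M ⧸ N) A₁) * Nat.card N := by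
    have h2 : N.relIndex (N ⊔ zm M A₁) ≤ Nat.card (zm (M ⧸ N) A₁) := by
      have h3 : N.relIndex (N ⊔ zm M A₁) = Nat.card ((N ⊔ zm M A₁).map (QuotientGroup.mk' N)) := by
        have h4 : N = (QuotientGroup.mk' N).ker := (QuotientGroup.ker_mk' N).symm
        conv_lhs => rw [h4]
        rw [← Subgroup.relIndex_bot_left ((N ⊔ zm M A₁).map (QuotientGroup.mk' N)), ← relIndex_comap,
          MonoidHom.comap_bot, QuotientGroup.ker_mk']
      rw [h3]
      refine Subgroup.card_le_of_le ?_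
      rintro _ ⟨m, hm, rfl⟩
      obtain ⟨n, hn, z, hz, rfl⟩ := mem_sup.1 hm
      rw [mem_cv]
      intro x hx
      show (QuotientGroup.mk (x • (n * z)) : M ⧸ N) = QuotientGroup.mk (n * z)
      rw [hmk1, smul_mul', mem_cv.1 hz x hx, mul_inv, mul_mul_mul_comm, mul_inv_cancel, mul_one]
      exact mul_mem (hN x n hn) (inv_mem hn)
    have h5 : Nat.card N * N.relIndex (N ⊔ zm M A₁) = Nat.card (N ⊔ zm M A₁ : Subgroup M) :=
      card_mul_relIndex' le_sup_left
    rw [← h5, mul_comm]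
    exact Nat.mul_le_mul_right _ h2
  have h2 : Nat.card (M ⧸ N) * Nat.card N = Nat.card M := by
    rw [mul_comm]; exact N.card_mul_index
  -- `|N : C_N(A₁)| ≤ |D|`
  have h3 : (zm M A₁).relIndex N ≤ Nat.card D := by
    have h4 : Nat.card (zm M A₁) * (zm M A₁).relIndex N = Nat.card (N ⊔ zm M A₁ : Subgroup M) := by
      have h5 : (zm M A₁).relIndex N = (zm M A₁).relIndex (N ⊔ zm M A₁) := by rw [relIndex_sup_right]
      rw [h5]
      exact card_mul_relIndex' le_sup_right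
    have h5 := card_zm (M := M) A₁
    rw [← hA.ex.card] at h5
    have hpos : 0 < Nat.card (zm M A₁) * Nat.card A₁ := Nat.mul_pos Nat.card_pos Nat.card_pos
    refine Nat.le_of_mul_le_mul_right ?_ hpos
    calc (zm M A₁).relIndex N * (Nat.card (zm M A₁) * Nat.card A₁)
        = Nat.card (N ⊔ zm M A₁ : Subgroup M) * Nat.card A₁ := by rw [← h4]; ring
      _ ≤ Nat.card (zm (M ⧸ N) A₁) * Nat.card N * Nat.card A₁ := Nat.mul_le_mul_right _ h1
      _ = Nat.card A₁ * Nat.card (zm (M ⧸ N) A₁) * Nat.card N := by ring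
      _ ≤ Nat.card (M ⧸ N) * Nat.card D * Nat.card N := Nat.mul_le_mul_right _ key
      _ = Nat.card D * (Nat.card (zm M A₁) * Nat.card A₁) := by rw [h5, ← h2]; ring
  have h4 : (zm M D).index ≤ Nat.card D := by
    rw [index_zm_of_sup (F.sup_zm hN (inf_le_right : D ≤ cq N))]
    exact (relIndex_le_of_le_left (cv_anti (inf_le_left : D ≤ A₁)) index_ne_zero_of_finite).trans h3
  have hDbot : D = ⊥ := by
    by_contra hne
    have h5 := hA.min D inf_le_left hne h4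
    apply hcq
    rw [← h5]
    exact inf_le_right
  refine ⟨hDbot, ?_, ho2⟩
  rw [hDbot, Subgroup.card_bot] at h3
  have h5 : N ≤ zm M A₁ := by
    rw [← relIndex_eq_one]
    have h6 : (zm M A₁).relIndex N ≠ 0 := index_ne_zero_of_finite
    omega
  intro n hn a ha
  exact mem_cv.1 (h5 hn) a ha


omit F hML hK in
/-- `C_H(N) ∩ C_H(M / N)` is elementary abelian -/
theorem sq_of_fixer_cq (hsq : ∀ m : M, m * m = 1) {N : Subgroup M} {x : H} (hx : x ∈ fixer N) (hx' : x ∈ cq N)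
    (m : M) : (x * x) • m = m := by
  have h1 := hx _ (hx' m)
  rw [smul_mul', smul_inv', ← mul_smul] at h1
  have h2 : (x * x) • m = (x • m) * m⁻¹ * (x • m) := by rw [← h1, inv_mul_cancel_right]
  rw [h2, mul_right_comm, hsq, one_mul, inv_eq_of_mul_eq_one_left (hsq m)]

omit hML hK in
/-- `C_H(N) ∩ C_H(M / N) = 1` -/
theorem _root_.Cfsg.Agent.Omega.NO3S.FarQ.Flag.fixer_cq {N : Subgroup M} (hN : HInv H N) : (fixer N ⊓ cq N : Subgroup H) = ⊥ := by
  refine F.two_normal ⟨fun x hx g => ?_⟩ fun x => ⟨1, ?_⟩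
  · refine Subgroup.mem_inf.2 ⟨fun n hn => ?_, hN.conj_mem (Subgroup.mem_inf.1 hx).2⟩
    rw [mul_smul, mul_smul, (Subgroup.mem_inf.1 hx).1 _ (hN g⁻¹ n hn), smul_inv_smul]
  · rw [pow_one, pow_two]
    refine Subtype.ext (F.faith _ fun m => ?_)
    exact sq_of_fixer_cq F.sq (Subgroup.mem_inf.1 x.2).1 (Subgroup.mem_inf.1 x.2).2 m

/-- an atom in every exact group -/
theorem _root_.Cfsg.Agent.Omega.NO3S.FarQ.Flag.exists_atom {A D : Subgroup H} (hA : Exact lam A) (hDA : D ≤ A)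
    (hD1 : D ≠ ⊥) (hD : (zm M D).index ≤ Nat.card D) : ∃ A₁ ≤ D, Atom lam A₁ := by
  have := F.finH
  obtain ⟨A₁, hA₁, hmin⟩ := (Set.toFinite {E : Subgroup H | E ≤ D ∧ E ≠ ⊥ ∧ (zm M E).index ≤ Nat.card E}).exists_minimal
    ⟨D, le_rfl, hD1, hD⟩
  obtain ⟨h1, h2, h3⟩ := hA₁
  obtain ⟨q1, q2, q3, q4⟩ := quad_mono hA (h1.trans hDA)
  refine ⟨A₁, h1, ⟨⟨h2, q1, q2, q3, q4, le_antisymm (F.no hML hK q1 q3) h3⟩, fun E hE hE1 hE2 => ?_⟩⟩
  exact le_antisymm hE (hmin ⟨hE.trans h1, hE1, hE2⟩ hE)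

/-- **The dichotomy**: `A ≤ C_H(M / rad)` or an atom of `A` is of class P. -/
theorem _root_.Cfsg.Agent.Omega.NO3S.FarQ.Flag.dich (hO : OnL lam Kh) {A : Subgroup H} (hA : Exact lam A) :
    A ≤ cq (rad Kh) ∨ ∃ A₁ ≤ A, ClassP lam Kh A₁ := by
  classical
  have := F.finH
  have := F.finM
  by_cases hP : ∃ A₁ ≤ A, ClassP lam Kh A₁
  · exact Or.inr hP
  left
  -- all the atoms are in `C`
  have hat : ∀ A₁ ≤ A, Atom lam A₁ → A₁ ≤ cq (rad Kh) := by
    intro A₁ hA₁ h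
    by_contra hcon
    have h1 : ∀ D : Subgroup K, D ≠ ⊤ → (A₁ ⊓ cq (Mt Kh D) = ⊥ ∧ (∀ n ∈ Mt Kh D, ∀ a ∈ A₁, a • n = n)) := by
      intro D hD
      rcases F.one_b hML hK h (F.hinv_Mt D) (fun a ha => F.Mt_lam hO hD ha) with h2 | ⟨h2, h3, -⟩
      · rw [F.cq_Mt hD] at h2
        exact absurd h2 hcon
      · exact ⟨h2, h3⟩
    refine hP ⟨A₁, hA₁, h, ?_, ?_⟩
    · have h2 := (h1 ⊥ F.bot_ne_top).1
      exact h2
    · have h2 : Np Kh ≤ zm M A₁ := Np_le fun D hD n hn => by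
        rw [mem_cv]
        exact (h1 D hD).2 n hn
      intro n hn a ha
      exact mem_cv.1 (h2 hn) a ha
  set C : Subgroup H := cq (rad Kh) with hC
  set R : Subgroup H := cmod (rad Kh) lam F.hinv_rad with hR
  have hTR : T ≤ R := F.T_le.trans fixer_le_cmod
  let s : Finset M := (Set.toFinite {a : M | a ∈ lam ∧ a ≠ 1}).toFinset
  have hs : ∀ a, a ∈ s ↔ a ∈ lam ∧ a ≠ 1 := fun a => by rw [Set.Finite.mem_toFinset]; exact Iff.rfl
  obtain ⟨V, hV, haV, hVle, hcard⟩ := F.one_a hML hK hTR hA.le hA.sq hA.card.ge s (fun z hz => (hs z).1 hz)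
  have hlV : lam ≤ V := fun a ha => by
    by_cases ha1 : a = 1
    · rw [ha1]; exact one_mem _
    · exact haV a ((hs a).2 ⟨ha, ha1⟩)
  have hVN : V ≤ rad Kh ⊔ lam := hVle _ fun z hz g hg => by
    have e : g • z = ((g • z) * z⁻¹) * z := by rw [inv_mul_cancel_right]
    rw [e]
    exact mul_mem (mem_sup_left (hg z ((hs z).1 hz).1)) (mem_sup_right ((hs z).1 hz).1)
  set D : Subgroup H := A ⊓ fixer V with hD
  have hDex : (zm M D).index ≤ Nat.card D := by
    have h1 : V ⊔ zm M A ≤ zm M D := sup_le (fun v hv => by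
      rw [mem_cv]
      exact fun d hd => (Subgroup.mem_inf.1 hd).2 v hv) (cv_anti inf_le_left)
    have h2 := Subgroup.card_le_of_le h1
    have h3 := card_zm (M := M) D
    have h4 : Nat.card (zm M D) * (zm M D).index ≤ Nat.card (zm M D) * Nat.card D := by
      rw [h3, mul_comm]
      exact hcard.trans (Nat.mul_le_mul_left _ h2)
    exact Nat.le_of_mul_le_mul_left h4 Nat.card_pos
  have hD1 : D = ⊥ := by
    by_contra hne
    obtain ⟨A₁, hA₁, hatom⟩ := F.exists_atom hML hK hA (inf_le_left : D ≤ A) hne hDex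
    have hA₁C := hat A₁ (hA₁.trans inf_le_left) hatom
    apply hatom.ex.ne
    -- `A₁` centralises `lam^C`, so `A₁ ≤ O₂(C) = 1`
    have hCn : (C : Subgroup H).Normal := F.hinv_rad.normal
    let Y : Subgroup H := C ⊓ fixer V
    have hYl : Y ≤ fixer lam := fun y hy a ha => (Subgroup.mem_inf.1 hy).2 a (hlV ha)
    have hCR : C ≤ R := cq_le_cmod
    have hYn : ∀ g ∈ C, ∀ y ∈ Y, g * y * g⁻¹ ∈ Y := by
      intro g hg y hy
      refine Subgroup.mem_inf.2 ⟨hCn.conj_mem y (Subgroup.mem_inf.1 hy).1 g, fun v hv => ?_⟩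
      rw [mul_smul, mul_smul, (Subgroup.mem_inf.1 hy).2 _ (hV _ (inv_mem (hCR hg)) v hv), smul_inv_smul]
    have h1 : o2 (fixer lam) ⊓ Y ≤ o2 Y := by
      refine le_o2 inf_le_right ((o2_isPGroup _).to_le inf_le_left) ?_
      rw [le_normalizer_iff]
      intro y hy x hx
      refine Subgroup.mem_inf.2 ⟨?_, mul_mem (mul_mem hy (Subgroup.mem_inf.1 hx).2) (inv_mem hy)⟩
      exact (mem_normalizer_iff.1 (le_normalizer_o2 _ (hYl hy)) x).1 (Subgroup.mem_inf.1 hx).1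
    have h2 : o2 Y ≤ o2 C := by
      refine le_o2 ((o2_le _).trans inf_le_left) (o2_isPGroup _) ?_
      rw [le_normalizer_iff]
      intro g hg x hx
      have h3 : (o2 Y).map (MulAut.conj g).toMonoidHom ≤ o2 Y := by
        refine le_o2 ?_ ((o2_isPGroup _).map _) ?_
        · rintro _ ⟨x, hx, rfl⟩
          exact hYn g hg x (o2_le _ hx)
        · rw [le_normalizer_iff]
          rintro y hy _ ⟨x, hx, rfl⟩
          have h4 : g⁻¹ * y * g ∈ Y := by
            have h5 := hYn g⁻¹ (inv_mem hg) y hy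
            rwa [inv_inv] at h5
          refine ⟨(g⁻¹ * y * g) * x * (g⁻¹ * y * g)⁻¹, (mem_normalizer_iff.1 (le_normalizer_o2 Y h4) x).1 hx, ?_⟩
          show g * ((g⁻¹ * y * g) * x * (g⁻¹ * y * g)⁻¹) * g⁻¹ = y * (g * x * g⁻¹) * y⁻¹
          group
      exact h3 ⟨x, hx, rfl⟩
    have h3 : o2 C = ⊥ := F.two_normal ⟨fun x hx g => by
      have h3 : (o2 C).map (MulAut.conj g).toMonoidHom ≤ o2 C := by
        refine le_o2 ?_ ((o2_isPGroup _).map _) ?_
        · rintro _ ⟨x, hx, rfl⟩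
          exact hCn.conj_mem _ (o2_le _ hx) g
        · rw [le_normalizer_iff]
          rintro y hy _ ⟨x, hx, rfl⟩
          have h4 : g⁻¹ * y * g ∈ C := by
            have h5 := hCn.conj_mem y hy g⁻¹
            rwa [inv_inv] at h5
          refine ⟨(g⁻¹ * y * g) * x * (g⁻¹ * y * g)⁻¹, (mem_normalizer_iff.1 (le_normalizer_o2 C h4) x).1 hx, ?_⟩
          show g * ((g⁻¹ * y * g) * x * (g⁻¹ * y * g)⁻¹) * g⁻¹ = y * (g * x * g⁻¹) * y⁻¹
          group
      exact h3 ⟨x, hx, rfl⟩⟩ (o2_isPGroup _)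
    rw [eq_bot_iff, ← h3]
    exact fun x hx => h2 (h1 (Subgroup.mem_inf.2 ⟨hatom.ex.le hx, Subgroup.mem_inf.2
      ⟨hA₁C hx, (Subgroup.mem_inf.1 (hA₁ hx)).2⟩⟩))
  rw [hD1, Subgroup.card_bot, one_mul] at hcard
  have hle : V ⊔ zm M A ≤ rad Kh ⊔ zm M A := by
    refine sup_le (hVN.trans (sup_le le_sup_left ?_)) le_sup_right
    intro a ha
    refine mem_sup_right ?_
    rw [mem_cv]
    exact fun x hx => o2_le _ (hA.le hx) a ha
  have h1 : rad Kh ⊔ zm M A = ⊤ := by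
    apply Subgroup.eq_top_of_le_card
    exact hcard.trans (Subgroup.card_le_of_le hle)
  intro x hx m
  have h2 : m ∈ rad Kh ⊔ zm M A := by rw [h1]; exact mem_top m
  obtain ⟨n, hn, z, hz, rfl⟩ := mem_sup.1 h2
  rw [smul_mul', mem_cv.1 hz x hx, mul_inv, mul_mul_mul_comm, mul_inv_cancel, mul_one]
  exact mul_mem (F.hinv_rad x n hn) (inv_mem hn)

/-- class P: `N⁺ ∩ lam = 1` -/
theorem _root_.Cfsg.Agent.Omega.NO3S.FarQ.Flag.np_lam {A₁ : Subgroup H} (h : ClassP lam Kh A₁) {a : M} (ha : a ∈ lam)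
    (haN : a ∈ Np Kh) : a = 1 := by
  by_contra ha1
  obtain ⟨x, hx, hx1⟩ := A₁.bot_or_exists_ne_one.resolve_left h.atom.ex.ne
  exact hx1 (F.eq_one_of_cent F.hinv_Np ha ha1 haN fun n hn => h.np n hn x hx)

/-- class P: `A₁ ≤ O₂(C_H(a mod N⁺))` -/
theorem _root_.Cfsg.Agent.Omega.NO3S.FarQ.Flag.np_o2 {A₁ : Subgroup H} (h : ClassP lam Kh A₁) {a : M} (ha : a ∈ lam)
    (ha1 : a ≠ 1) : A₁ ≤ o2 (cst (Np Kh) F.hinv_Np a) := by
  rcases F.one_b hML hK h.atom F.hinv_Np (fun a ha haN => F.np_lam hML hK h ha haN) with h1 | ⟨-, -, h1⟩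
  · exfalso
    apply h.atom.ex.ne
    rw [eq_bot_iff, ← F.fixer_cq F.hinv_Np]
    exact fun x hx => Subgroup.mem_inf.2 ⟨fun n hn => h.np n hn x hx, h1 hx⟩
  · exact h1 a ha ha1

end Cfsg.Agent.Omega.NO3S.FullQ

end
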