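import Cfsg.Agent.Mrg.Omega.NO3S.FarQ.Free.FullG
import Cfsg.Agent.Mrg.Omega.NO3S.FarQ.Free.Term
import Cfsg.Agent.Mrg.Omega.NOThree.LL.OrbSum
import Cfsg.Agent.Mrg.Omega.NO3S.FarQ.FOne
import Cfsg.Agent.Involutions.BaerSuzuki
import Cfsg.Agent.Lib.GoldschmidtFusion
import Cfsg.Agent.ZN.Block
import Cfsg.Agent.Mrg.Omega.NO3S.FarQ.Free.Exist
import Cfsg.Agent.Mrg.Omega.NO3S.FullQ.Base
import Cfsg.Agent.Mrg.Omega.NO3S.FullQ.Mover
import Cfsg.Agent.Mrg.Omega.NO3S.FullQ.TwoN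
import Cfsg.Agent.Mrg.Omega.NO3S.FullQ.GEnd
import Cfsg.Agent.Mrg.Omega.NO3S.WQ.Base
import Cfsg.Agent.Mrg.Omega.NO3S.PB.Geom
import Cfsg.Agent.Mrg.Omega.NO3S.Fld.Mods
import Cfsg.Agent.Mrg.Omega.NO3S.ThmB.Main
import Cfsg.Agent.Mrg.Omega.NO3S.FarQ.Glue
import Cfsg.Agent.Mrg.Omega.NO3S.FarB.Node
import Cfsg.Agent.Mrg.Omega.NO3S.MidB.No.DistT
import Cfsg.Agent.Mrg.Omega.NO3S.MidB.No.Full
import Cfsg.Agent.Mrg.Omega.NO3S.MidB.No.Beta
import Cfsg.Agent.Mrg.Omega.NO3S.MidB.No.InnG1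
import Cfsg.Agent.Mrg.Omega.NO3S.MidB.Base
import Cfsg.Agent.Mrg.Omega.NO3S.MidB.Main
import Cfsg.Agent.Mrg.Omega.NO3S.FarQ.Free.FullDual
import Cfsg.Agent.Mrg.Omega.Node.NO3SWF

-- merged: Cfsg.Agent.Mrg.Omega.NO3S.FarQ.Free.HD
section

/-!
# FarQ (`q ≥ 4`, `n ≥ 3`), K-free: `HB` and `HD` over `Frm` (piece (C) of #19123)

* `Frm.kf` : `KF` ((F1), (F2')) at the flag of `Frm`;
* `comm_V` : BAD movers of a path with `[W_{y 0}, W_{y (k+1)}] ≤ W_{y 1}` (helper533);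
* `hB` : `HB`; `hD` : every goal pair has a mover with (D); `hT` : terminal pairs;
* `exists_dd` : the same for paths without type I on the side of `y 0` (helper404 #19545).
-/

set_option autoImplicit false
set_option linter.unusedSectionVars false

namespace Cfsg.Agent.Omega.NO3S.FarQ.Free

open Subgroup Cfsg Cfsg.Agent.ZN Cfsg.Agent.MinSimple.VModule Cfsg.Agent.Omega.NOThree.Pts
open Cfsg.Agent.Omega.NO3S.FarQ.Glue Cfsg.Agent.Omega.NO3S.FarQ.Asm

variable {G X L : Type*} [Group G] [MulAction G X] [MulAction G L]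
variable {inc : X → L → Prop} {R W : X → Subgroup G} {V : L → Subgroup G} {s t k : ℕ}
variable {H M K : Type*} [Group H] [CommGroup M] [MulDistribMulAction H M] [CommGroup K]
variable {p : X} {l : L} {Sy : Subgroup G} {ρ : G → H} {π : G → M} {ζ : K →* G} {T : Subgroup H}
  {lam U : Subgroup M} {Kh : Subgroup (M →* K)}

/-- (F1), (F2') at the flag of `Frm` -/
theorem Frm.kf (D : Geom inc R W V s t) (F : Frm inc R W V p l Sy ρ π ζ T lam U Kh) : Bad.KF inc R W V p l where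
  f1 _ hv hvp _ hr := Bad.f1_of_tr D F.pl F.tr hv hvp hr
  f2 u _ hu' huV r hr := by
    obtain ⟨c, hc, hcw, hcu⟩ := F.f2 u hu' huV p F.pl r hr
    exact ⟨c, centralizer_le (D.R_le p l F.pl) hc, hcw, fun v hv => (mem_centralizer_iff.1 hc v hv).symm, hcu⟩

/-- (F1), (F2') at every flag -/
theorem Frm.kf_all (D : Geom inc R W V s t) (F : Frm inc R W V p l Sy ρ π ζ T lam U Kh) {x : X} {m : L}
    (h : inc x m) : Bad.KF inc R W V x m := by
  obtain ⟨_, _, _, _, F'⟩ := F.at_flag D h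
  exact F'.kf D

/-- **BAD movers** of a path with (low) -/
theorem comm_V (D : Geom inc R W V s t) {y : ℕ → X} (hy : Pth inc W k y)
    (low : ∀ a ∈ W (y 0), ∀ b ∈ W (y (k + 1)), a * b * a⁻¹ * b⁻¹ ∈ W (y 1)) {m : L} (hkf : Bad.KF inc R W V (y 0) m)
    (h0 : inc (y 0) m) (h1 : inc (y 1) m) {f h : G} (hf : f ∈ W (y (k + 1)))
    (hh : h ∈ centralizer (R (y 0) : Set G)) (ho : Odd (orderOf h)) (hi : f * h * f⁻¹ = h⁻¹)
    (hmv : f • h • y 1 ≠ h • y 1) (hdd : ¬ DD W y (h • y 1) f) :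
    ∀ v ∈ R (h • y 1), ∀ w ∈ W (y (k + 1)), v * w * v⁻¹ * w⁻¹ ∈ V m := by
  intro v hv w hw
  refine Bad.Bp.comm_mem' (p := y 0) (y := y 1) (q := y (k + 1)) (f := f) (h := h) D ?_ hw hv
  refine ⟨hkf, h0, h1, (hy.ne_succ (Nat.zero_le _)).symm, fun a ha => W_le_cent D hy.crit (by omega) ha,
    fun a ha b hb => ?_, fun a ha b hb => ?_, hf, hh, ⟨_, ho, pow_orderOf_eq_one h⟩, hi, hmv, fun hle => hdd ?_⟩
  · exact (hy.crit.min k (by omega) _ _ (by simpa using hy.wk' (i := 1) (j := k + 1) (by omega) le_rfl)).symm a ha b hb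
  · have h2 := inv_mem (low b hb a ha)
    have e : (b * a * b⁻¹ * a⁻¹)⁻¹ = a * b * a⁻¹ * b⁻¹ := by group
    rwa [e] at h2
  · exact fun a ha ha' => hle ⟨ha, ha'⟩

section frm

variable [Finite G] (D : Geom inc R W V s t) (F : Frm inc R W V p l Sy ρ π ζ T lam U Kh)
include D F

/-- **BAD over `Frm`** -/
theorem hB : HB inc R W V k := fun _ hy _ h0 h1 _ _ hf hh ho hi hmv hdd =>
  comm_V D hy.toPth hy.low (F.kf_all D h0) h0 h1 hf hh ho hi hmv hdd

/-- **(4.1) for paths**, no type I on the side of `y 0`: there is a mover with (D) -/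
theorem exists_dd (hk : 2 ≤ k) {y : ℕ → X} (hy : Pth inc W k y)
    (low : ∀ a ∈ W (y 0), ∀ b ∈ W (y (k + 1)), a * b * a⁻¹ * b⁻¹ ∈ W (y 1))
    (tp : ∀ x, Col inc x (y 0) → ∀ v ∈ R x, ∀ b ∈ W (y (k + 1)), v * b * v⁻¹ * b⁻¹ ∈ R (y 0) → v * b * v⁻¹ * b⁻¹ = 1)
    (t2 : ∀ r ∈ R (y (k + 1)), r ∈ W (y 0) → r = 1) :
    ∃ x f, Mv inc W k y x f ∧ DD W y x f := by
  by_contra hcon
  obtain ⟨m, h0, h1⟩ := hy.col 0 (Nat.zero_le _)
  have hne : y 1 ≠ y 0 := (hy.ne_succ (Nat.zero_le _)).symm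
  have hw1 : Walk inc (k + 1 - 1) (y 1) (y (k + 1)) := by
    have := hy.wk' (i := 1) (j := k + 1) (by omega) le_rfl
    simpa using this
  refine false_of_bad D F hy.crit (by omega) h0 h1 hne hw1 tp t2 ?_
  intro f hf h hh ho hi hmv hcen
  refine comm_V D hy low (F.kf_all D h0) h0 h1 hf hh ho hi hmv fun hdd => hcon ?_
  have hhp : h • y 0 = y 0 := Four.fix_p D hh
  have hcl : inc (y 0) (h • m) := by
    have := D.inc_smul h _ _ h0
    rwa [hhp] at this
  exact ⟨h • y 1, f, ⟨hf, ⟨h • m, D.inc_smul h _ _ h1, hcl⟩, hmv, fun u hu _ hfu => hcen u hu hfu⟩, hdd⟩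

/-- **`HD` over `Frm`**: every goal pair has a mover with (D) -/
theorem hD (hk : 2 ≤ k) : HD inc R W k := by
  intro y hy
  refine exists_dd D F hk hy.toPth hy.low ?_ hy.t2
  intro x hx v hv b hb hmem
  exact hy.t1 _ hmem (comm_mem D hy.crit (by omega) (R_le_of_col D hx hv) hb).2

/-- **`HT` over `Frm`** -/
theorem hT (hk : 2 ≤ k) : HT inc R W V k := term D F hk (hB D F)

end frm

end Cfsg.Agent.Omega.NO3S.FarQ.Free

end

-- merged: Cfsg.Agent.Mrg.Omega.NO3S.FarQ.Free.Sum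
section

/-!
# NO-3S FarQ, K-free: THEOREM SUM over `FlagK` (bb OMEGA #19037, helper244)

* `FlagK.no_normal_two`, `FlagK.odd_inv` : `O₂(H) = 1`; Baer-Suzuki: an involution inverts some `h ≠ 1` of odd order;
* `FlagK.smul_ne` : `f ∈ O₂(C_H(lam))` inverting `h`: `h • a ≠ a` for `a ∈ lam#`;
* `sum_flag` : `1 ≠ A ≤ O₂(C_H(lam)) ∩ C_H(U) ∩ C_H(M/U)` exact, (NO), `q ≥ 4` ==> `[M, A]` meets `⋃ lam^H` nontrivially.
-/

set_option autoImplicit false
set_option linter.unusedSectionVars false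

namespace Cfsg.Agent.Omega.NO3S.FarQ

open Subgroup Cfsg Cfsg.Agent.ZN Cfsg.Agent.ZN.Block
open Cfsg.Agent.ClassTwoFusion.Quad (cv mem_cv cv_anti)

variable {H M : Type*} [Group H] [CommGroup M] [MulDistribMulAction H M]

namespace Free

/-- the additive version of the action -/
@[reducible] def addAct (H M : Type*) [Group H] [CommGroup M] [MulDistribMulAction H M] :
    DistribMulAction H (Additive M) where
  smul h m := Additive.ofMul (h • m.toMul)
  one_smul m := by change Additive.ofMul ((1 : H) • m.toMul) = m; rw [one_smul]; rfl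
  mul_smul a b m := by
    change Additive.ofMul ((a * b) • m.toMul) = Additive.ofMul (a • (b • m.toMul))
    rw [mul_smul]
  smul_zero a := by change Additive.ofMul (a • (1 : M)) = 0; rw [smul_one]; rfl
  smul_add a m n := by
    change Additive.ofMul (a • (m.toMul * n.toMul)) = Additive.ofMul (a • m.toMul * (a • n.toMul))
    rw [smul_mul']

end Free

variable {T : Subgroup H} {lam U : Subgroup M}

/-- a normal 2-subgroup of `H` is trivial -/
theorem FlagK.no_normal_two (F : FlagK T lam) (N : Subgroup H) [N.Normal] (h2 : IsPGroup 2 N) : N = ⊥ := by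
  have := F.finH
  have hfact : Fact (Nat.Prime 2) := ⟨Nat.prime_two⟩
  have h3 : N ≤ T := by
    have h4 : T.relIndex N ∣ T.index := Cfsg.Agent.Lib.GoldschmidtFusion.relIndex_dvd_index_of_normal_right T N
    have h5 : ¬ 2 ∣ T.relIndex N := fun hd => F.ndvd (hd.trans h4)
    obtain ⟨m, hm⟩ := IsPGroup.iff_card.1 h2
    have h6 : T.relIndex N ∣ 2 ^ m := by
      rw [← hm]
      exact Subgroup.relIndex_dvd_card T N
    obtain ⟨k, -, hk⟩ := (Nat.dvd_prime_pow Nat.prime_two).1 h6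
    have h7 : T.relIndex N = 1 := by
      rcases Nat.eq_zero_or_pos k with e | e
      · rw [hk, e, pow_zero]
      · exact absurd (hk ▸ dvd_pow_self 2 (by omega)) h5
    exact relIndex_eq_one.1 h7
  have h4 : zm M N = ⊤ := by
    refine F.gen _ fun h a ha => ?_
    intro n hn
    have hn' : h⁻¹ * n * h ∈ N := by
      have := Subgroup.Normal.conj_mem ‹N.Normal› n hn h⁻¹
      rwa [inv_inv] at this
    have h5 := F.fix _ (h3 hn') a ha
    rw [mul_smul, mul_smul, inv_smul_eq_iff] at h5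
    exact h5
  rw [eq_bot_iff]
  intro n hn
  exact F.faith n fun m => (h4 ▸ mem_top m : m ∈ zm M N) n hn

/-- **Baer-Suzuki.** -/
theorem FlagK.odd_inv (F : FlagK T lam) {f : H} (hf : f * f = 1) (hf1 : f ≠ 1) :
    ∃ h : H, h ≠ 1 ∧ Odd (orderOf h) ∧ f * h * f⁻¹ = h⁻¹ := by
  have := F.finH
  refine Cfsg.Agent.Involutions.BaerSuzuki.exists_odd_inverted f hf fun h1 => ?_
  have h2 := F.no_normal_two _ h1
  exact hf1 (Subgroup.mem_bot.1 (h2 ▸ subset_normalClosure (Set.mem_singleton f)))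

/-- `h f h⁻¹ f⁻¹ = h²` -/
theorem conj_mul_inv {f h : H} (hi : f * h * f⁻¹ = h⁻¹) : h * f * h⁻¹ * f⁻¹ = h * h := by
  have h2 := congrArg (·⁻¹) hi
  simp only [mul_inv_rev, inv_inv] at h2
  calc h * f * h⁻¹ * f⁻¹ = h * (f * (h⁻¹ * f⁻¹)) := by group
    _ = h * h := by rw [h2]

/-- an element of `O₂(C_H(lam))` inverting `h ≠ 1` of odd order: `h` moves every `a ∈ lam#` -/
theorem FlagK.smul_ne (F : FlagK T lam) {f h : H} (hf : f ∈ o2 (fixer lam)) (hh : h ≠ 1) (ho : Odd (orderOf h))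
    (hi : f * h * f⁻¹ = h⁻¹) {a : M} (ha : a ∈ lam) (ha1 : a ≠ 1) : h • a ≠ a := by
  have := F.finH
  intro h1
  have h2 : h ∈ fixer lam := F.lin a ha ha1 h h1
  have h3 : h * h ∈ o2 (fixer lam) := by
    rw [← conj_mul_inv hi]
    exact mul_mem (o2_conj h2 hf) (inv_mem hf)
  have h4 : h ∈ o2 (fixer lam) := NOThree.LL.One.mem_of_sq ho h3
  obtain ⟨k, hk⟩ := (o2_isPGroup (fixer lam)) ⟨h, h4⟩
  have h5 : h ^ 2 ^ k = 1 := congrArg Subtype.val hk
  have h6 : orderOf h ∣ 2 ^ k := orderOf_dvd_of_pow_eq_one h5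
  obtain ⟨j, -, hj⟩ := (Nat.dvd_prime_pow Nat.prime_two).1 h6
  rcases Nat.eq_zero_or_pos j with e | e
  · rw [e, pow_zero, orderOf_eq_one_iff] at hj
    exact hh hj
  · rw [hj] at ho
    exact absurd (dvd_pow_self 2 (by omega)) (fun hd => (Nat.not_even_iff_odd.2 ho) (even_iff_two_dvd.2 hd))

/-- `C(f) ∩ C(h f h⁻¹) ≤ C(h)` -/
theorem fix_of_two {f h : H} (ho : Odd (orderOf h)) (hi : f * h * f⁻¹ = h⁻¹) {m : M} (h1 : f • m = m)
    (h2 : (h * f * h⁻¹) • m = m) : h • m = m := by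
  have h3 : (h * h) • m = m := by
    rw [← conj_mul_inv hi, mul_smul, inv_smul_eq_iff.2 h1.symm, h2]
  exact NOThree.LL.One.mem_of_sq ho (T := MulAction.stabilizer H m) h3

/-- **THEOREM SUM over `FlagK`.** -/
theorem sum_flag (F : FlagK T lam) (hle : lam ≤ U)
    (uu : ∀ u ∈ U, u ∉ lam → ∀ a ∈ lam, ∃ h : H, h • u = u * a) (hNO : NoOv (H := H) lam) {A : Subgroup H}
    (hA : A ≤ o2 (fixer lam)) (hA1 : ∀ a ∈ A, ∀ u ∈ U, a • u = u) (hA2 : ∀ a ∈ A, ∀ m : M, (a • m) * m⁻¹ ∈ U)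
    (hne : A ≠ ⊥) (hex : Nat.card A = (zm M A).index) :
    ∃ m ∈ em M A, m ≠ 1 ∧ ∃ h : H, ∃ a ∈ lam, m = h • a := by
  classical
  have := F.finH
  have := F.finM
  -- a minimal exact subgroup
  obtain ⟨B, hBs, hBmin⟩ := (Set.toFinite {B : Subgroup H | B ≤ A ∧ B ≠ ⊥ ∧ Nat.card B = (zm M B).index}).exists_minimal
    ⟨A, le_rfl, hne, hex⟩
  obtain ⟨hBA, hB0, hBex⟩ := hBs
  let _ : DistribMulAction H (Additive M) := Free.addAct H M
  let U' : AddSubgroup (Additive M) := Subgroup.toAddSubgroup U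
  let L' : AddSubgroup (Additive M) := Subgroup.toAddSubgroup lam
  have two : ∀ m : Additive M, m + m = 0 := fun m => F.sq m.toMul
  have hcv : ∀ C : Subgroup H, Nat.card (NOThree.LL.One.cv (Additive M) C) = Nat.card (zm M C) := fun C =>
    Nat.card_congr (Equiv.refl _)
  have hBb : B ≤ NOThree.LL.One.bb U' := fun b hb => ⟨fun u hu => hA1 b (hBA hb) u hu, fun m => by
    rw [sub_eq_add_neg]
    exact hA2 b (hBA hb) m.toMul⟩
  have hquad : ∀ a ∈ A, ∀ b ∈ A, ∀ m : M, b • ((a • m) * m⁻¹) = (a • m) * m⁻¹ := fun a ha b hb m =>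
    hA1 b hb _ (hA2 a ha m)
  have hsq : ∀ a ∈ A, a * a = 1 := by
    intro a ha
    refine F.faith _ fun m => ?_
    have h1 := hquad a ha a ha m
    rw [smul_mul', smul_inv', ← mul_smul] at h1
    have h2 : (a * a) • m = (a • m) * m⁻¹ * (a • m) := by rw [← h1, inv_mul_cancel_right]
    rw [h2, mul_right_comm, F.sq, one_mul]
    exact inv_eq_of_mul_eq_one_left (F.sq m)
  have hcomm : ∀ a ∈ A, ∀ b ∈ A, a * b = b * a := by
    intro a ha b hb
    have h1 : (a * b)⁻¹ = a * b := inv_eq_of_mul_eq_one_left (hsq _ (mul_mem ha hb))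
    have h2 : a⁻¹ = a := inv_eq_of_mul_eq_one_left (hsq a ha)
    have h3 : b⁻¹ = b := inv_eq_of_mul_eq_one_left (hsq b hb)
    rw [mul_inv_rev, h2, h3] at h1
    exact h1.symm
  have hno : ∀ C : Subgroup H, C ≤ A → Nat.card C ≤ (zm M C).index := fun C hC =>
    hNO C (hC.trans hA) (fun a ha b hb => hcomm a (hC ha) b (hC hb)) (fun a ha => hsq a (hC ha))
      (fun a ha b hb m => hquad a (hC ha) b (hC hb) m)
  -- `f`, `h`
  obtain ⟨f, hf, hf1⟩ := (Subgroup.bot_or_exists_ne_one B).resolve_left hB0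
  obtain ⟨h, hh, ho, hi⟩ := F.odd_inv (hsq f (hBA hf)) hf1
  have hfQ : f ∈ o2 (fixer lam) := hA (hBA hf)
  have hmov : ∀ a ∈ lam, a ≠ 1 → h • a ≠ a := fun a ha ha1 => F.smul_ne hfQ hh ho hi ha ha1
  have hfix : ∀ u ∈ U, f • h • u = h • u → h • u = u := by
    intro u hu h1
    have h2 := fix_of_two ho hi h1 (by rw [mul_smul, mul_smul, inv_smul_smul, hA1 f (hBA hf) u hu])
    exact smul_left_cancel h h2
  -- `|B| ≥ 4`
  have h4 : 4 ≤ Nat.card B := by
    let W : Subgroup M := lam.map (MulDistribMulAction.toMonoidHom M h)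
    have hW : Disjoint W (zm M B) := by
      rw [Subgroup.disjoint_def]
      rintro x ⟨a, ha, rfl⟩ hx
      by_contra hx1
      have hx' : h • a ∈ zm M B := hx
      have ha1 : a ≠ 1 := by
        rintro rfl
        exact hx1 (smul_one h)
      exact hmov a ha ha1 (hfix a (hle ha) (hx' f hf))
    have hcW : Nat.card W = Nat.card lam :=
      Nat.card_congr (Equiv.symm (Subgroup.equivMapOfInjective lam _ (MulAction.injective h)).toEquiv)
    rw [hBex]
    refine F.four.trans ?_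
    rw [← hcW]
    have h5 : Nat.card W * Nat.card (zm M B) ≤ (zm M B).index * Nat.card (zm M B) := by
      rw [Subgroup.index_mul_card, ← Nat.card_prod]
      refine Nat.card_le_card_of_injective (fun x : W × zm M B => (x.1 : M) * (x.2 : M)) ?_
      rintro ⟨x, y⟩ ⟨x', y'⟩ he
      have he' : (x : M) * y = x' * y' := he
      have h6 : (x' : M)⁻¹ * x = y' * (y : M)⁻¹ := by
        rw [inv_mul_eq_iff_eq_mul, ← mul_assoc, ← he', mul_inv_cancel_right]
      have h7 : (x' : M)⁻¹ * x = 1 := by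
        have := Subgroup.disjoint_def.1 hW (mul_mem (inv_mem x'.2) x.2) (h6 ▸ mul_mem y'.2 (inv_mem y.2))
        exact this
      have h8 : (x : M) = x' := (inv_mul_eq_one.1 h7).symm
      have h9 : (y : M) = y' := by
        rw [h8] at he'
        exact mul_left_cancel he'
      exact Prod.ext (Subtype.ext h8) (Subtype.ext h9)
    exact Nat.le_of_mul_le_mul_right h5 Nat.card_pos
  have me : NOThree.LL.One.ME (fun _ : Additive M => U') (0 : Additive M) B := by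
    refine ⟨hBb, hB0, ?_, ?_⟩
    · rw [hcv, hBex]
      exact Subgroup.index_mul_card _
    · intro C hC hC0 hCB
      have h1 := hno C (hC.trans hBA)
      have h2 : Nat.card C ≠ (zm M C).index := by
        intro h3
        exact hCB (le_antisymm hC (hBmin ⟨hC.trans hBA, hC0, h3⟩ hC))
      have h3 : Nat.card C < (zm M C).index := lt_of_le_of_ne h1 h2
      have h5 : Nat.card M = (zm M C).index * Nat.card (zm M C) := (Subgroup.index_mul_card _).symm
      rw [hcv]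
      change _ < Nat.card M
      rw [h5]
      exact Nat.mul_lt_mul_of_pos_right h3 Nat.card_pos
  obtain ⟨a, ha, ha1⟩ := (Subgroup.bot_or_exists_ne_one lam).resolve_left (by
    intro h1
    have := F.four
    rw [h1, Subgroup.card_bot] at this
    omega)
  have hmain := NOThree.LL.OrbSum.sum_main (H := H) (M := Additive M) two
    (Lam := {x : Additive M | ∃ g : H, ∃ b ∈ lam, b ≠ 1 ∧ x.toMul = g • b}) (U := U') (L := L')
    (lam := Additive.ofMul a) (A := B) (f := f) (h := h)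
    ⟨1, a, ha, ha1, (one_smul H a).symm⟩ (hle ha)
    (by
      rintro g v ⟨k, b, hb, hb1, hv⟩
      refine ⟨g * k, b, hb, hb1, ?_⟩
      rw [mul_smul, ← hv]
      rfl)
    (fun r hr hr0 => ⟨1, r.toMul, hr, hr0, (one_smul H _).symm⟩)
    (by
      rintro v hv ⟨k, b, hb, hb1, hvk⟩ hvL
      obtain ⟨g, hg⟩ := uu v.toMul hv hvL a ha
      refine ⟨g * k, b, hb, hb1, ?_⟩
      rw [mul_smul, ← hvk]
      exact hg.symm)
    ha hBb (NOThree.LL.OrbSum.big_of_min two me h4) hf hi ho (hmov a ha ha1)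
    (fun u hu h1 => hfix u.toMul hu h1)
  obtain ⟨r, hr, hr0, k, b, hb, -, hrk⟩ := hmain
  refine ⟨r.toMul, ?_, hr0, k, b, hb, hrk⟩
  have h9 : NOThree.LL.One.cm (Additive M) B ≤ Subgroup.toAddSubgroup (em M A) :=
    NOThree.LL.One.cm_le fun c hc m => by
      rw [sub_eq_add_neg]
      exact comm_mem_em (hBA hc) m.toMul
  exact h9 hr

end Cfsg.Agent.Omega.NO3S.FarQ

end

-- merged: Cfsg.Agent.Mrg.Omega.NO3S.FarQ.Free.HSum
section

/-!
# FarQ (`q ≥ 4`, `n ≥ 3`), K-free: `HS` over `Frm`, from THEOREM SUM (helper244 #19037)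

`hs : HS inc R W k` : in a goal pair `[W_{y 0}, W_{y (k+1)}]` contains a nontrivial element of a point collinear with `y 0`.
-/

set_option autoImplicit false
set_option linter.unusedSectionVars false

namespace Cfsg.Agent.Omega.NO3S.FarQ.Free

open Subgroup Cfsg Cfsg.Agent.ZN Cfsg.Agent.MinSimple.VModule Cfsg.Agent.Omega.NOThree.Pts
open Cfsg.Agent.Omega.NOThree.LemmaM Cfsg.Agent.Omega.NOThree.LemmaMPlus
open Cfsg.Agent.Omega.NO3S.FarQ.Glue Cfsg.Agent.Omega.NO3S.FarQ.Asm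
open Cfsg.Agent.Omega.NO3S.FarQ.Free.Canon

variable {G X L : Type*} [Group G] [MulAction G X] [MulAction G L]
variable {inc : X → L → Prop} {R W : X → Subgroup G} {V : L → Subgroup G} {s t n : ℕ}
variable {H M K : Type*} [Group H] [CommGroup M] [MulDistribMulAction H M] [CommGroup K]
variable {k : ℕ} {p₀ : X} {l₀ : L} {Sy : Subgroup G} {ρ : G → H} {π : G → M} {ζ : K →* G} {T : Subgroup H}
  {lam U : Subgroup M} {Kh : Subgroup (M →* K)}
variable [Finite G] (D : Geom inc R W V s t) (F : Frm inc R W V p₀ l₀ Sy ρ π ζ T lam U Kh)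
include D F

set_option maxHeartbeats 800000 in
/-- **`HS`** -/
theorem hs (hk : 2 ≤ k) : HS inc R W k := by
  intro y hy
  obtain ⟨l, hl0, hl1⟩ := hy.col 0 (Nat.zero_le _)
  have hNO := F.noOver D
  obtain ⟨_, ρ₁, π₁, _, F₁⟩ := F.at_flag D hl0
  have hcr : Crit inc W (k + 1) (y 0) (y (k + 1)) := hy.crit
  have h01 : y 0 ≠ y 1 := hy.toPth.ne_succ (Nat.zero_le _)
  have hw1 : Walk inc (k + 1 - 1) (y 1) (y (k + 1)) := by
    have := hy.toPth.wk' (i := 1) (j := k + 1) (by omega) le_rfl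
    simpa using this
  have hE : ExP inc R W V (k + 1) (y 0) (y (k + 1)) := ExP.of_typeI D hNO hcr (by omega) hy.t1 hy.t2
  have hEx : Ex inc R W V (y 0) l (W (y (k + 1))) := hE.ex (y 1) l hw1.symm hl1 hl0
  have hqR : W (y (k + 1)) ≤ centralizer (R (y 0) : Set G) := RF.A_le D hEx
  have hA : Exact lam (im F₁.re (W (y (k + 1))) hqR) := RF.exact D F₁.toRF hEx
  obtain ⟨J, hJ⟩ := F.exists_js D
  have hAB : ∀ a ∈ im F₁.re (W (y (k + 1))) hqR, IsBB U a := by
    rintro _ ⟨f, hf, rfl⟩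
    refine ⟨fun u hu => ?_, fun m' => ?_⟩
    · obtain ⟨w, hw, hwy, rfl⟩ := (F₁.mU u).1 hu
      rw [← comm_mem_iff F₁.re D (hqR hf) hw, comm_eq_one.2 (hEx.cen (y 1) hl1 h01.symm f hf w hw (hwy _ hl1))]
      exact one_mem _
    · obtain ⟨w, hw, rfl⟩ := F₁.re.psurj m'
      rw [← π_comm F₁.re D (hqR hf) hw]
      have h1 : f * w * f⁻¹ * w⁻¹ ∈ W (y 0) := mul_mem (Four.norm_p D (hqR hf) hw) (inv_mem hw)
      have h2 : f * w * f⁻¹ * w⁻¹ ∈ W (y 1) := comm_inv_mem.1 (hy.low w hw f hf)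
      exact (F₁.mU _).2 ⟨_, h1, fun z hz => D.inf_le hl0 hl1 hz h01 ⟨h1, h2⟩, rfl⟩
  obtain ⟨m, hm, hm1, h, a, ha, hma⟩ := sum_flag F.flag.toK F.flag.le
    (fun u hu hul a ha => by
      obtain ⟨j, -, hj⟩ := hJ.full u hu hul a ha
      exact ⟨j, hj⟩) F.no hA.le (fun a ha => (hAB a ha).1) (fun a ha => (hAB a ha).2) hA.ne hA.card
  obtain ⟨u, hu, hum⟩ : ∃ u ∈ rr W k y, π₁ u = m := by
    have hrrW : rr W k y ≤ W (y 0) := rr_le_zero D hy.toPth
    refine closure_induction (p := fun x _ => ∃ u ∈ rr W k y, π₁ u = x) ?_ ?_ ?_ ?_ hm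
    · rintro _ ⟨_, ⟨f, hf, rfl⟩, m', -, rfl⟩
      obtain ⟨w, hw, rfl⟩ := F₁.re.psurj m'
      refine ⟨f * w * f⁻¹ * w⁻¹, ?_, π_comm F₁.re D (hqR hf) hw⟩
      have e : f * w * f⁻¹ * w⁻¹ = (w * f * w⁻¹ * f⁻¹)⁻¹ := by group
      rw [e]
      exact inv_mem (comm_mem_rr hw hf)
    · exact ⟨1, one_mem _, π_one F₁.re⟩
    · rintro _ _ _ _ ⟨a, ha, rfl⟩ ⟨b, hb, rfl⟩
      exact ⟨a * b, mul_mem ha hb, F₁.re.pmul a (hrrW ha) b (hrrW hb)⟩
    · rintro _ _ ⟨a, ha, rfl⟩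
      exact ⟨a⁻¹, inv_mem ha, π_inv F₁.re (hrrW ha)⟩
  refine ⟨u, hu, ?_, ?_⟩
  · rintro rfl
    exact hm1 (hum ▸ π_one F₁.re)
  · obtain ⟨g, hg, rfl⟩ := F₁.re.surj h
    obtain ⟨v, hv, rfl⟩ := (F₁.mlam _).1 ha
    have hvW : v ∈ W (y 0) := D.V_le _ l hl0 hv
    rw [← F₁.re.act g hg v hvW] at hma
    have hg0 : g • y 0 = y 0 := Four.fix_p D hg
    have hgl : inc (y 0) (g • l) := by
      have := D.inc_smul g _ _ hl0
      rwa [hg0] at this
    have h1 := mem_mul_R F₁.re (rr_le_zero D hy.toPth hu) (Four.norm_p D hg hvW) (hum.trans hma)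
    have h2 : u ∈ V (g • l) := by
      have h3 := mul_mem (D.R_le _ _ hgl h1) (D.V_smul g l v hv)
      rwa [inv_mul_cancel_right] at h3
    obtain ⟨x, hx, hux⟩ := D.cover _ u h2
    exact ⟨x, hux, g • l, hx, hgl⟩

end Cfsg.Agent.Omega.NO3S.FarQ.Free

end

-- merged: Cfsg.Agent.Mrg.Omega.NO3S.FullQ.Front
section

section


/-!
# FullB (`q ≥ 4`, `n ≥ 3`): THE FRONT (helper937 #18718 section 5, without `FullAt`)

Over `Geom` and `Frm` (no fullness, `N_p` arbitrary), `3 ≤ n`: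

* `not_dp` : no critical pair has a pair with (D): `x ∼ p`, `f ∈ W_q`, `x^f ≠ x` implies `W_x ∩ W_{x^f} ≰ W_p`;
* `exP` : every critical pair is exact, both sides (`ExP`: exact, (X) = `cen`, `good`);
* `W0` : both together; `w0`; `W0.tp`, `W0.mover` (a mover of every `f ∈ W_q` with image `≠ 1`, without (D)).
-/

set_option autoImplicit false
set_option linter.unusedSectionVars false

namespace Cfsg.Agent.Omega.NO3S.FullQ

open Subgroup Cfsg Cfsg.Agent.ZN Cfsg.Agent.MinSimple.VModule Cfsg.Agent.Omega.NOThree.Pts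
open Cfsg.Agent.Omega.NOThree Cfsg.Agent.Omega.NOThree.LemmaM Cfsg.Agent.Omega.NOThree.LemmaMPlus
open Cfsg.Agent.Omega.NO3S.FarQ.Glue Cfsg.Agent.Omega.NO3S.FarQ.Asm Cfsg.Agent.Omega.NO3S.FarQ.Free

variable {G X L : Type*} [Group G] [MulAction G X] [MulAction G L]
variable {inc : X → L → Prop} {R W : X → Subgroup G} {V : L → Subgroup G} {s t n : ℕ}

/-- **The world W0.** -/
structure W0 (inc : X → L → Prop) (R W : X → Subgroup G) (V : L → Subgroup G) (n : ℕ) : Prop where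
  /-- no pair with (D) -/
  nd : ∀ a b, Crit inc W n a b → ¬ DP inc W a b
  /-- exact on both sides, (X) -/
  ex : ∀ a b, Crit inc W n a b → ExP inc R W V n a b

variable {H M K : Type*} [Group H] [CommGroup M] [MulDistribMulAction H M] [CommGroup K]
variable {p q : X} {l : L} {Sy : Subgroup G} {ρ : G → H} {π : G → M} {ζ : K →* G} {T : Subgroup H}
  {lam U : Subgroup M} {Kh : Subgroup (M →* K)}

section frm

variable [Finite G] (D : Geom inc R W V s t) (F : Frm inc R W V p l Sy ρ π ζ T lam U Kh) (hn : 3 ≤ n)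
include D F hn

theorem typeI_false {p' x' q' : X} {l' : L} (h : TypeI inc R W n p' x' q' l') : False := by
  obtain ⟨k, rfl⟩ : ∃ k, n = k + 1 := ⟨n - 1, by omega⟩
  obtain ⟨y, hy⟩ := gg_of_typeI h
  exact no_goal D (F.line_all D) (F.noOver D) (by omega) (hD D F (by omega)) (hT D F (by omega)) (hs D F (by omega)) hy

/-- `(b, a)` has (D), `(a, b)` has not -/
theorem one_false {a b : X} (hc : Crit inc W n a b) (h1 : ¬ DP inc W a b) (h2 : DP inc W b a) : False := by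
  obtain ⟨r₁, l₁, hr₁, hrl₁, hal₁⟩ := hc.symm.last (by omega)
  obtain ⟨x, m, f, hM⟩ := h2.mdat D hn hc.symm hr₁ hrl₁ hal₁
  rcases alternative hM (F.noOver D) with h3 | ⟨hq, hlow⟩
  · exact typeI_false D F hn h3
  obtain ⟨k, rfl⟩ : ∃ k, n = k + 1 := ⟨n - 1, by omega⟩
  obtain ⟨y', h0, hk, hcol⟩ := exists_path hr₁.symm
  rw [Nat.add_sub_cancel] at hk hcol
  have e0 : ch a y' 0 = a := rfl
  have e1 : ch a y' 1 = r₁ := h0
  have ek : ch a y' (k + 1) = b := hk
  have hy : Pth inc W k (ch a y') := by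
    refine { crit := ?_, col := ?_ }
    · rw [e0, ek]; exact hc
    · intro i hi
      match i with
      | 0 =>
        show Col inc a (y' 0)
        rw [h0]
        exact ⟨l₁, hal₁, hrl₁⟩
      | (i + 1) => exact hcol i (by omega)
  have hfin : ¬ ∃ x f, Mv inc W k (ch a y') x f ∧ DD W (ch a y') x f := by
    rintro ⟨z, g, hz, hdd⟩
    obtain ⟨hgW, ⟨m', hzm, h0m⟩, hmv, -⟩ := hz
    rw [ek] at hgW
    exact h1 ⟨z, m', g, hzm, h0m, hgW, hmv, hdd⟩
  refine hfin (exists_dd D F (by omega) hy ?_ ?_ ?_)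
  · rw [e0, ek, e1]
    intro u hu v hv
    have h4 := (hlow v hv u hu).2
    have e : u * v * u⁻¹ * v⁻¹ = (v * u * v⁻¹ * u⁻¹)⁻¹ := by group
    rw [e]
    exact inv_mem h4
  · rw [e0, ek]
    rintro z ⟨m', hz, ha⟩ v hv u hu hR
    have h5 := tp_of D hc (by omega) h1 z m' hz ha v hv u hu (by
      have e : u * v * u⁻¹ * v⁻¹ = (v * u * v⁻¹ * u⁻¹)⁻¹ := by group
      rw [e]
      exact inv_mem hR)
    rw [← h5]
    group
  · rw [e0, ek]
    exact hq

theorem not_dp {a b : X} (hc : Crit inc W n a b) : ¬ DP inc W a b := by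
  intro h1
  by_cases h2 : DP inc W b a
  · obtain ⟨p', x', q', l', h⟩ := typeI_of_both D (F.noOver D) hn hc h1 h2
    exact typeI_false D F hn h
  · exact one_false D F hn hc.symm h2 h1

theorem exP {a b : X} (hc : Crit inc W n a b) : ExP inc R W V n a b :=
  ExP.of_good D (F.noOver D) hc (by omega) ((tp_of D hc (by omega) (not_dp D F hn hc)).good D)
    ((tp_of D hc.symm (by omega) (not_dp D F hn hc.symm)).good D)

theorem w0 : W0 inc R W V n where
  nd _ _ hc := not_dp D F hn hc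
  ex _ _ hc := exP D F hn hc

end frm

theorem W0.tp (h : W0 inc R W V n) (D : Geom inc R W V s t) (hn : 1 ≤ n) {a b : X} (hc : Crit inc W n a b) :
    TP inc R W a b := tp_of D hc hn (h.nd a b hc)

end Cfsg.Agent.Omega.NO3S.FullQ

end

section


/-!
# FullB, `q ≥ 4`: the glue of class P (#21459 sections 2, 3, helper471; typed by helper312)

* `dl_Np`, `PP_eq`, `np_inf`: 471's duality and 649's `⊔` in the form used by `Mover.lean`;
* `mv_of`: every `1 ≠ a ∈ A = ρ(W_q)` of a critical pair without (D) has a mover `Cnt.Mv (Np Kh) lam A a`;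
* `PA Kh lam A₁ hN` : class P for `A₁`: `A₁ ≠ 1`, `|M : C_M(A₁)| ≤ |A₁|`, `[N⁺, A₁] = 1`, `A₁ ≤ O₂(C_H(lam mod N⁺))`;
* `exists_theta` : `θ` for LEMMA TOR, from `PA` for one subgroup of one `A`;
* `Tor`, `tor_of` : the conclusion of LEMMA TOR, from `PA` for one subgroup of one `A`;
* `dat_of`, `W0.dat` : after TOR `Cnt.Dat` holds for ALL critical pairs.
-/

set_option autoImplicit false
set_option linter.unusedSectionVars false

namespace Cfsg.Agent.Omega.NO3S.FullQ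

open Subgroup Cfsg Cfsg.Agent.ZN Cfsg.Agent.MinSimple.VModule Cfsg.Agent.Omega.NOThree.Pts
open Cfsg.Agent.Omega.NO3S.FarQ Cfsg.Agent.Omega.NO3S.FarQ.Glue Cfsg.Agent.Omega.NO3S.FarQ.Free
open Cfsg.Agent.Omega.NO3S.FarQ.Asm
open scoped Pointwise

section abs

variable {H M K : Type*} [Group H] [CommGroup M] [MulDistribMulAction H M] [CommGroup K]
variable {T : Subgroup H} {lam U : Subgroup M} {Kh : Subgroup (M →* K)}

theorem dl_Np (F : Flag T lam U Kh) : Dl Kh (Np Kh) := by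
  obtain ⟨D, hD⟩ := F.exists_index_two
  exact ⟨D, ne_top_of_index hD, fun E hE m hm => F.dual hD ((Mt_le_Np Kh (ne_top_of_index hD)).trans hE) hm⟩

theorem PP_eq (h : H) (lam N : Subgroup M) : PP h lam N = (h • lam) ⊔ (h⁻¹ • lam) ⊔ N := by
  apply le_antisymm
  · rintro _ ⟨a, ha, b, hb, n, hn, rfl⟩
    exact mul_mem (Subgroup.mem_sup_left (mul_mem
      (Subgroup.mem_sup_left (Subgroup.smul_mem_pointwise_smul _ _ _ ha))
      (Subgroup.mem_sup_right (Subgroup.smul_mem_pointwise_smul _ _ _ hb)))) (Subgroup.mem_sup_right hn)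
  · refine sup_le (sup_le ?_ ?_) (N_le_PP _ _ _)
    · intro x hx
      obtain ⟨a, ha, rfl⟩ := (Subgroup.mem_smul_pointwise_iff_exists _ _ _).1 hx
      exact smul_mem_PP ha
    · intro x hx
      obtain ⟨a, ha, rfl⟩ := (Subgroup.mem_smul_pointwise_iff_exists _ _ _).1 hx
      exact inv_smul_mem_PP ha

/-- `N⁺ ∩ lam = 1` if something `≠ 1` centralises `N⁺` -/
theorem np_inf (F : Flag T lam U Kh) {A1 : Subgroup H} (h1 : A1 ≠ ⊥) (h2 : Np Kh ≤ zm M A1) : Np Kh ⊓ lam = ⊥ := by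
  rw [eq_bot_iff]
  intro a ha
  obtain ⟨⟨j, hj⟩, hj1⟩ := Subgroup.ne_bot_iff_exists_ne_one.1 h1
  by_contra hne
  refine hj1 (Subtype.ext ?_)
  exact F.eq_one_of_cent F.hinv_Np ha.2 (fun e => hne (mem_bot.2 e)) ha.1 fun n hn => h2 hn j hj

/-- **Class P for `A₁`.** -/
structure PA (Kh : Subgroup (M →* K)) (lam : Subgroup M) (A1 : Subgroup H)
    (hN : ∀ (h : H), ∀ n ∈ Np Kh, h • n ∈ Np Kh) : Prop where
  ne : A1 ≠ ⊥
  ex : (zm M A1).index ≤ Nat.card A1
  cent : Np Kh ≤ zm M A1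
  o2 : A1 ≤ ZN.o2 (Cnt.stN (Np Kh) lam hN)

/-- **The conclusion of LEMMA TOR.** -/
structure Tor (H : Type*) [Group H] [MulDistribMulAction H M] (N lam : Subgroup M) : Prop where
  fix : ∀ h : H, (∀ a ∈ lam, (h • a) * a⁻¹ ∈ N) → ∀ a ∈ lam, h • a = a
  norm : ∀ h : H, (∀ a ∈ lam, h • a ∈ lam ⊔ N) → ∀ a ∈ lam, h • a ∈ lam

theorem Tor.stN_eq {N lam : Subgroup M} (h : Tor H N lam) (hN : ∀ (h : H), ∀ n ∈ N, h • n ∈ N) :
    Cnt.stN N lam hN = fixer lam := by
  ext x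
  constructor
  · exact fun hx => h.fix x hx
  · intro hx a ha
    rw [hx a ha, mul_inv_cancel]
    exact one_mem _

section qm

variable {F Q : Type*} [Field F] [AddCommGroup Q] [Module F Q] [DistribMulAction H Q] [SMulCommClass H F Q]
variable {π' : M → Q} {a0 : Q}

theorem card_lam {N : Subgroup M} (D : Cnt.Qm F H π' a0 N lam) (hd : N ⊓ lam = ⊥) : Nat.card lam = Nat.card F := by
  have h1 : ∀ a : lam, ∃ c : F, c • a0 = π' a := fun a =>
    Submodule.mem_span_singleton.1 ((D.lam _).1 ⟨a, a.2, rfl⟩)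
  choose c hc using h1
  refine Nat.card_congr (Equiv.ofBijective c ⟨?_, ?_⟩)
  · intro a b hab
    have h2 : π' (a : M) = π' (b : M) := by rw [← hc, ← hc, hab]
    have h3 : (a : M) * (b : M)⁻¹ ∈ N ⊓ lam := ⟨D.mul_inv_mem h2, lam.mul_mem a.2 (lam.inv_mem b.2)⟩
    rw [hd, mem_bot, mul_inv_eq_one] at h3
    exact Subtype.ext h3
  · intro d
    obtain ⟨a, ha, h2⟩ := (D.lam (d • a0)).2 (Submodule.smul_mem _ _ (Submodule.mem_span_singleton_self _))
    refine ⟨⟨a, ha⟩, ?_⟩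
    have h3 : (c ⟨a, ha⟩ - d) • a0 = 0 := by rw [sub_smul, hc ⟨a, ha⟩, ← h2, sub_self]
    by_contra hne
    exact D.ne ((smul_eq_zero_iff_right (sub_ne_zero.2 hne)).1 h3)

variable [Finite F] [CharP F 2]

/-- **The input of LEMMA TOR.** -/
theorem exists_theta (Fl : Flag T lam U Kh) (D : Cnt.Qm F H π' a0 (Np Kh) lam) {A A1 : Subgroup H}
    (hE : Exact lam A) (hA1 : A1 ≤ A) (h1 : PA Kh lam A1 D.inv)
    (hmv : ∀ a ∈ A, a ≠ 1 → Cnt.Mv (Np Kh) lam A a) :
    Np Kh ⊓ lam = ⊥ ∧ ∃ θ : H, Odd (orderOf θ) ∧ (∀ n ∈ Np Kh, θ • n = n) ∧ (∀ a ∈ lam, θ • a ∈ lam ⊔ Np Kh) ∧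
      ∀ a ∈ lam, (θ • a) * a⁻¹ ∈ Np Kh → a = 1 := by
  have := Fl.finH
  have := Fl.finM
  have hd := np_inf Fl h1.ne h1.cent
  have E : Cnt.Dat F π' a0 A1 := Cnt.dat D (fun a ha => hE.sq a (hA1 ha)) h1.o2 h1.ex
    fun a ha ha1 => (hmv a (hA1 ha) ha1).mono hA1
  refine ⟨hd, Cnt.exists_theta D E h1.ne ?_ hd⟩
  rw [← card_lam D hd]
  exact Fl.four

/-- **LEMMA TOR for class P.** -/
theorem tor_abs (Fl : Flag T lam U Kh) (D : Cnt.Qm F H π' a0 (Np Kh) lam) {A A1 : Subgroup H}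
    (hE : Exact lam A) (hA1 : A1 ≤ A) (h1 : PA Kh lam A1 D.inv)
    (hmv : ∀ a ∈ A, a ≠ 1 → Cnt.Mv (Np Kh) lam A a) : Tor H (Np Kh) lam := by
  obtain ⟨-, θ, -, h2, h3, h4⟩ := exists_theta Fl D hE hA1 h1 hmv
  have h5 : ∀ h : H, (∀ a ∈ lam, (h • a) * a⁻¹ ∈ Np Kh) → h ∈ fixer lam := fun h hh =>
    Fl.tor Fl.hinv_Np h2 h3 h4 hh
  exact ⟨fun h hh => h5 h hh, fun h hh => Fl.tor_norm Fl.hinv_Np h5 hh⟩

/-- **`Dat` for every exact `A` with movers, after TOR.** -/
theorem dat_of_tor (D : Cnt.Qm F H π' a0 (Np Kh) lam) (ht : Tor H (Np Kh) lam) {A : Subgroup H}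
    (hE : Exact lam A) (hmv : ∀ a ∈ A, a ≠ 1 → Cnt.Mv (Np Kh) lam A a) : Cnt.Dat F π' a0 A :=
  Cnt.dat D hE.sq (by rw [ht.stN_eq D.inv]; exact hE.le) hE.card.ge hmv

end qm

end abs

variable {G X L : Type*} [Group G] [MulAction G X] [MulAction G L]
variable {inc : X → L → Prop} {R W : X → Subgroup G} {V : L → Subgroup G} {s t n : ℕ}
variable {H M K : Type*} [Group H] [CommGroup M] [MulDistribMulAction H M] [CommGroup K]
variable {p q r : X} {l : L}
variable {Sy : Subgroup G} {ρ : G → H} {π : G → M} {ζ : K →* G} {T : Subgroup H} {lam U : Subgroup M}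
  {Kh : Subgroup (M →* K)}

/-- **The mover of every `1 ≠ a ∈ A = ρ(W_q)`** ((p, q) critical without (D), `r` on `l`, `d(r, q) = n - 1`). -/
theorem mv_of [Finite G] (D : Geom inc R W V s t) (F : RD inc R W V p l Sy ρ π ζ T lam U Kh)
    (hc : Crit inc W n p q) (hn : 1 ≤ n) (hnd : ¬ DP inc W p q) (hrl : inc r l) (hwk : Walk inc (n - 1) r q) :
    ∀ a ∈ im F.re (W q) (W_le_cent D hc hn), a ≠ 1 →
      Cnt.Mv (Np Kh) lam (im F.re (W q) (W_le_cent D hc hn)) a := by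
  rintro _ ⟨f, hf, rfl⟩ hf1
  obtain ⟨h, h1, h2, h3, h4, h5, h6⟩ := exists_plane D F hc hn hnd hrl hwk (dl_Np F.flag) F.flag.hinv_Np hf hf1
  rw [PP_eq] at h4
  simp only [PP_eq] at h5 h6
  refine ⟨h, h1, h2, h3, h4, ?_, h6⟩
  rintro _ ⟨g, hg, rfl⟩
  exact h5 g hg

/-- exactness of `A = ρ(W_q)` -/
theorem exact_of [Finite G] (D : Geom inc R W V s t) (F : RD inc R W V p l Sy ρ π ζ T lam U Kh) (hn : 1 ≤ n)
    (hE : ExP inc R W V n p q) (hrl : inc r l) (hwk : Walk inc (n - 1) r q) :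
    Exact lam (im F.re (W q) (W_le_cent D hE.crit hn)) :=
  RF.exact D F.toRF (hE.ex r l hwk.symm hrl F.pl)

section qm

variable {F' Q : Type*} [Field F'] [AddCommGroup Q] [Module F' Q] [DistribMulAction H Q] [SMulCommClass H F' Q]
variable {π' : M → Q} {a0 : Q} [Finite F'] [CharP F' 2]

/-- **`Dat` for every critical pair, after TOR.** -/
theorem dat_of [Finite G] (D : Geom inc R W V s t) (F : RD inc R W V p l Sy ρ π ζ T lam U Kh) (hn : 1 ≤ n)
    (hE : ExP inc R W V n p q) (hnd : ¬ DP inc W p q) (hrl : inc r l) (hwk : Walk inc (n - 1) r q)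
    (Qd : Cnt.Qm F' H π' a0 (Np Kh) lam) (ht : Tor H (Np Kh) lam) :
    Cnt.Dat F' π' a0 (im F.re (W q) (W_le_cent D hE.crit hn)) :=
  dat_of_tor Qd ht (exact_of D F hn hE hrl hwk) (mv_of D F hE.crit hn hnd hrl hwk)

/-- **`θ` from class P for one critical pair.** -/
theorem theta_of [Finite G] (D : Geom inc R W V s t) (F : RD inc R W V p l Sy ρ π ζ T lam U Kh) (hn : 1 ≤ n)
    (hE : ExP inc R W V n p q) (hnd : ¬ DP inc W p q) (hrl : inc r l) (hwk : Walk inc (n - 1) r q)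
    (Qd : Cnt.Qm F' H π' a0 (Np Kh) lam) {A1 : Subgroup H} (hA1 : A1 ≤ im F.re (W q) (W_le_cent D hE.crit hn))
    (h1 : PA Kh lam A1 Qd.inv) :
    Np Kh ⊓ lam = ⊥ ∧ ∃ θ : H, Odd (orderOf θ) ∧ (∀ n ∈ Np Kh, θ • n = n) ∧ (∀ a ∈ lam, θ • a ∈ lam ⊔ Np Kh) ∧
      ∀ a ∈ lam, (θ • a) * a⁻¹ ∈ Np Kh → a = 1 :=
  exists_theta F.flag Qd (exact_of D F hn hE hrl hwk) hA1 h1 (mv_of D F hE.crit hn hnd hrl hwk)

/-- **TOR from class P for one critical pair.** -/
theorem tor_of [Finite G] (D : Geom inc R W V s t) (F : RD inc R W V p l Sy ρ π ζ T lam U Kh) (hn : 1 ≤ n)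
    (hE : ExP inc R W V n p q) (hnd : ¬ DP inc W p q) (hrl : inc r l) (hwk : Walk inc (n - 1) r q)
    (Qd : Cnt.Qm F' H π' a0 (Np Kh) lam) {A1 : Subgroup H} (hA1 : A1 ≤ im F.re (W q) (W_le_cent D hE.crit hn))
    (h1 : PA Kh lam A1 Qd.inv) : Tor H (Np Kh) lam :=
  tor_abs F.flag Qd (exact_of D F hn hE hrl hwk) hA1 h1 (mv_of D F hE.crit hn hnd hrl hwk)

/-- **After TOR: `Dat` for all critical pairs of the world W0**, at a frame over the same `(H, M, T, lam, U, K̂)`. -/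
theorem W0.dat [Finite G] (h : W0 inc R W V n) (D : Geom inc R W V s t)
    (F : Frm inc R W V p l Sy ρ π ζ T lam U Kh) (hn : 1 ≤ n) (Qd : Cnt.Qm F' H π' a0 (Np Kh) lam)
    (ht : Tor H (Np Kh) lam) {a b c : X} {m : L} (hc : Crit inc W n a b) (ham : inc a m) (hcm : inc c m)
    (hwk : Walk inc (n - 1) c b) :
    ∃ (Sy₁ : Subgroup G) (ρ₁ : G → H) (π₁ : G → M) (ζ₁ : K →* G)
      (F₁ : Frm inc R W V a m Sy₁ ρ₁ π₁ ζ₁ T lam U Kh),
      Exact lam (im F₁.re (W b) (W_le_cent D hc hn)) ∧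
      Cnt.Dat F' π' a0 (im F₁.re (W b) (W_le_cent D hc hn)) := by
  obtain ⟨Sy₁, ρ₁, π₁, ζ₁, F₁⟩ := F.at_flag D ham
  exact ⟨Sy₁, ρ₁, π₁, ζ₁, F₁, exact_of D F₁.toRD hn (h.ex a b hc) hcm hwk,
    dat_of D F₁.toRD hn (h.ex a b hc) (h.nd a b hc) hcm hwk Qd ht⟩

end qm

end Cfsg.Agent.Omega.NO3S.FullQ

end

section


/-!
# FullB, `q ≥ 4`: `PSide` with a `Bad` mover for every `f` instead of `¬ DP inc W p q` (for `n = 2`; asked by helper426)

* `Bad.rho_ne` : `ρ h ≠ 1`;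
* `plane_of_bad` : (2a) of #21459 for one mover;
* `mv_of_bad`, `dat_of_bad`, `tor_of_bad` : input `∀ f ∈ W q, ρ f ≠ 1 → ∃ h, Bad inc R W n p q r l f h`.
-/

set_option autoImplicit false
set_option linter.unusedSectionVars false

namespace Cfsg.Agent.Omega.NO3S.FullQ

open Subgroup Cfsg Cfsg.Agent.ZN Cfsg.Agent.MinSimple.VModule Cfsg.Agent.Omega.NOThree.Pts
open Cfsg.Agent.Omega.NO3S.FarQ Cfsg.Agent.Omega.NO3S.FarQ.Glue Cfsg.Agent.Omega.NO3S.FarQ.Free
open Cfsg.Agent.Omega.NO3S.FarQ.Asm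
open scoped Pointwise

variable {G X L : Type*} [Group G] [MulAction G X] [MulAction G L]
variable {inc : X → L → Prop} {R W : X → Subgroup G} {V : L → Subgroup G} {s t n : ℕ}
variable {H M K : Type*} [Group H] [CommGroup M] [MulDistribMulAction H M] [CommGroup K]
variable {p q r : X} {l : L} {f h : G}
variable {Sy : Subgroup G} {ρ : G → H} {π : G → M} {ζ : K →* G} {T : Subgroup H} {lam U : Subgroup M}
  {Kh : Subgroup (M →* K)}

/-- **`ρ h ≠ 1`** -/
theorem Bad.rho_ne (D : Geom inc R W V s t) (b : Free.Bad inc R W n p q r l f h)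
    (F : RD inc R W V p l Sy ρ π ζ T lam U Kh) : ρ h ≠ 1 := by
  intro h0
  have hhc : h ∈ centralizer (R p : Set G) := Bad.h_cent b F
  have key : ∀ g ∈ centralizer (R p : Set G), ρ g = 1 → inc (g • r) l := by
    intro g hg hg0
    obtain ⟨v, hv, hv1⟩ := D.exists_ne r
    have hvV : v ∈ V l := D.R_le r l b.rl hv
    have h1 := (F.re.ker g hg).1 hg0 v (D.V_le p l b.pl hvV)
    have h2 : g * v * g⁻¹ ∈ V l := by
      have e : g * v * g⁻¹ = (g * v * g⁻¹ * v⁻¹) * v := by group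
      rw [e]
      exact mul_mem (D.R_le p l b.pl h1) hvV
    refine on_line D (D.R_smul g r v hv) (fun e => hv1 ?_) h2
    have h3 : g * v * g⁻¹ = 1 := e
    rw [mul_inv_eq_one] at h3
    exact mul_eq_left.1 h3
  have h1 := key h hhc h0
  have h2 := key h⁻¹ (inv_mem hhc) (by rw [F.re.inv hhc, h0, inv_one])
  rw [← b.fx_eq D] at h2
  apply b.nd
  intro a ha ha'
  have h3 := D.F1 (h • r) (f • h • r) p l h1 h2 b.pl b.mv.symm (b.x_ne D)
  have h4 : a ∈ W (h • r) ⊓ W (f • h • r) := ⟨ha, ha'⟩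
  rw [h3] at h4
  exact h4.2

/-- **(2a) for one mover** -/
theorem plane_of_bad [Finite G] (D : Geom inc R W V s t) (F : RD inc R W V p l Sy ρ π ζ T lam U Kh)
    (b : Free.Bad inc R W n p q r l f h) {N : Subgroup M} (hN : Dl Kh N) (hNH : ∀ k : H, ∀ m ∈ N, k • m ∈ N) :
    ρ h ≠ 1 ∧ Odd (orderOf (ρ h)) ∧ ρ f * ρ h * (ρ f)⁻¹ = (ρ h)⁻¹ ∧ lam ≤ PP (ρ h) lam N ∧
      (∀ g ∈ W q, ∀ m ∈ PP (ρ h) lam N, ρ g • m ∈ PP (ρ h) lam N) ∧
      ∀ m ∈ PP (ρ h) lam N, ρ h • m ∈ PP (ρ h) lam N := by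
  have hh : h ∈ centralizer (R p : Set G) := Bad.h_cent b F
  have hfc : f ∈ centralizer (R p : Set G) := W_le_cent D b.crit b.pos b.hf
  refine ⟨Bad.rho_ne D b F, ?_, ?_, Bad.lam_le D b F hN, fun g hg => Bad.inv_W D b F hN hNH hg,
    Bad.inv_h D b F hN hNH⟩
  · have h1 : ρ h ^ orderOf h = 1 := by
      rw [← rho_pow F.toRF F.flag hh, pow_orderOf_eq_one, F.re.one]
    exact Odd.of_dvd_nat b.odd (orderOf_dvd_of_pow_eq_one h1)
  · rw [← F.re.conj hfc hh, b.inv, F.re.inv hh]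

/-- **The movers of `A = ρ(W_q)`**, from `Bad`. -/
theorem mv_of_bad [Finite G] (D : Geom inc R W V s t) (F : RD inc R W V p l Sy ρ π ζ T lam U Kh)
    (hc : Crit inc W n p q) (hn : 1 ≤ n) (hb : ∀ f ∈ W q, ρ f ≠ 1 → ∃ h, Free.Bad inc R W n p q r l f h) :
    ∀ a ∈ im F.re (W q) (W_le_cent D hc hn), a ≠ 1 →
      Cnt.Mv (Np Kh) lam (im F.re (W q) (W_le_cent D hc hn)) a := by
  rintro _ ⟨f, hf, rfl⟩ hf1
  obtain ⟨h, b⟩ := hb f hf hf1
  obtain ⟨h1, h2, h3, h4, h5, h6⟩ := plane_of_bad D F b (dl_Np F.flag) F.flag.hinv_Np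
  rw [PP_eq] at h4
  simp only [PP_eq] at h5 h6
  refine ⟨ρ h, h1, h2, h3, h4, ?_, h6⟩
  rintro _ ⟨g, hg, rfl⟩
  exact h5 g hg

section qm

variable {F' Q : Type*} [Field F'] [AddCommGroup Q] [Module F' Q] [DistribMulAction H Q] [SMulCommClass H F' Q]
variable {π' : M → Q} {a0 : Q} [Finite F'] [CharP F' 2]

/-- **`Dat` for a critical pair, after TOR**, from `Bad`. -/
theorem dat_of_bad [Finite G] (D : Geom inc R W V s t) (F : RD inc R W V p l Sy ρ π ζ T lam U Kh) (hn : 1 ≤ n)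
    (hE : ExP inc R W V n p q) (hrl : inc r l) (hwk : Walk inc (n - 1) r q)
    (hb : ∀ f ∈ W q, ρ f ≠ 1 → ∃ h, Free.Bad inc R W n p q r l f h)
    (Qd : Cnt.Qm F' H π' a0 (Np Kh) lam) (ht : Tor H (Np Kh) lam) :
    Cnt.Dat F' π' a0 (im F.re (W q) (W_le_cent D hE.crit hn)) :=
  dat_of_tor Qd ht (exact_of D F hn hE hrl hwk) (mv_of_bad D F hE.crit hn hb)

/-- **TOR from class P for one critical pair**, from `Bad`. -/
theorem tor_of_bad [Finite G] (D : Geom inc R W V s t) (F : RD inc R W V p l Sy ρ π ζ T lam U Kh) (hn : 1 ≤ n)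
    (hE : ExP inc R W V n p q) (hrl : inc r l) (hwk : Walk inc (n - 1) r q)
    (hb : ∀ f ∈ W q, ρ f ≠ 1 → ∃ h, Free.Bad inc R W n p q r l f h)
    (Qd : Cnt.Qm F' H π' a0 (Np Kh) lam) {A1 : Subgroup H} (hA1 : A1 ≤ im F.re (W q) (W_le_cent D hE.crit hn))
    (h1 : PA Kh lam A1 Qd.inv) : Tor H (Np Kh) lam :=
  tor_abs F.flag Qd (exact_of D F hn hE hrl hwk) hA1 h1 (mv_of_bad D F hE.crit hn hb)

end qm

end Cfsg.Agent.Omega.NO3S.FullQ

end

end

-- merged: Cfsg.Agent.Mrg.Omega.NO3S.FullQ.PAll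
section

/-!
# FullB, `q ≥ 4`, every `n ≥ 1`: class P gives `[W_a, W_b] ≤ V_l` for all critical pairs (helper298 #21966)

* `Bd inc R W V n` : for every critical pair `(p, q)` with first line `l = p r`: `[W_p, W_q] ≤ V_l`, or every `f ∈ W_q`
  moving `W_p` has a mover without (D) (`Free.Bad`);
* `mv_pair` : the movers of `A = ρ(W_q)` on `M`; `dat_pair` : `Dat` after TOR;
* `com_np` : after TOR, `W_{q'}` centralises the preimage of `N⁺`;
* **`lines_of_tor`** : after TOR `[W_a, W_b] ≤ V_l` for every critical pair; **`lines_of_pa`** : from class P for one pair.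
-/

set_option autoImplicit false
set_option linter.unusedSectionVars false

namespace Cfsg.Agent.Omega.NO3S.FullQ

open Subgroup Cfsg Cfsg.Agent.ZN Cfsg.Agent.MinSimple.VModule Cfsg.Agent.Omega.NOThree.Pts
open Cfsg.Agent.Omega.NO3S.FarQ Cfsg.Agent.Omega.NO3S.FarQ.Glue Cfsg.Agent.Omega.NO3S.FarQ.Free
open Cfsg.Agent.Omega.NO3S.FarQ.Asm
open scoped Pointwise

variable {G X L : Type*} [Group G] [MulAction G X] [MulAction G L]
variable {inc : X → L → Prop} {R W : X → Subgroup G} {V : L → Subgroup G} {s t n : ℕ}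
variable {H M K : Type*} [Group H] [CommGroup M] [MulDistribMulAction H M] [CommGroup K]
variable {p q r : X} {l : L} {f h : G}
variable {Sy : Subgroup G} {ρ : G → H} {π : G → M} {ζ : K →* G} {T : Subgroup H} {lam U : Subgroup M}
  {Kh : Subgroup (M →* K)}

/-- **The world of class P.** -/
def Bd (inc : X → L → Prop) (R W : X → Subgroup G) (V : L → Subgroup G) (n : ℕ) : Prop :=
  ∀ p q r l, Crit inc W n p q → inc p l → inc r l → Walk inc (n - 1) r q →
    (∀ x ∈ W p, ∀ y ∈ W q, x * y * x⁻¹ * y⁻¹ ∈ V l) ∨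
      ∀ f ∈ W q, (¬ ∀ x ∈ W p, f * x = x * f) → ∃ h, Free.Bad inc R W n p q r l f h

/-- if `ρ f ≠ 1` then `f` moves `W_p` -/
theorem not_cent_of (F : RD inc R W V p l Sy ρ π ζ T lam U Kh)
    (hf : f ∈ centralizer (R p : Set G)) (hf1 : ρ f ≠ 1) : ¬ ∀ x ∈ W p, f * x = x * f := by
  intro h1
  refine hf1 ((F.re.ker f hf).2 fun w hw => ?_)
  rw [h1 w hw, mul_inv_cancel_right, mul_inv_cancel]
  exact one_mem _

/-- `[W_p, W_q] ≤ V_l` on `M` -/
theorem lam_of_lines (D : Geom inc R W V s t) (F : RD inc R W V p l Sy ρ π ζ T lam U Kh)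
    (hc : Crit inc W n p q) (hn : 1 ≤ n) (hl : ∀ x ∈ W p, ∀ y ∈ W q, x * y * x⁻¹ * y⁻¹ ∈ V l) :
    ∀ b ∈ im F.re (W q) (W_le_cent D hc hn), ∀ m : M, (b • m) * m⁻¹ ∈ lam := by
  rintro _ ⟨f, hf, rfl⟩ m
  obtain ⟨w, hw, rfl⟩ := F.re.psurj m
  rw [← π_comm F.re D (W_le_cent D hc hn hf) hw, F.mlam]
  refine ⟨_, ?_, rfl⟩
  have h1 := inv_mem (hl w hw f hf)
  have e : (w * f * w⁻¹ * f⁻¹)⁻¹ = f * w * f⁻¹ * w⁻¹ := by group
  rwa [e] at h1

/-- conversely -/
theorem lines_of_lam (D : Geom inc R W V s t) (F : RD inc R W V p l Sy ρ π ζ T lam U Kh)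
    (hc : Crit inc W n p q) (hn : 1 ≤ n) (hl : ∀ f ∈ W q, ∀ m : M, (ρ f • m) * m⁻¹ ∈ lam) :
    ∀ x ∈ W p, ∀ y ∈ W q, x * y * x⁻¹ * y⁻¹ ∈ V l := by
  intro x hx y hy
  have hyc := W_le_cent D hc hn hy
  have h1 := hl y hy (π x)
  rw [← π_comm F.re D hyc hx, F.mlam] at h1
  obtain ⟨v, hv, e⟩ := h1
  have hvW := D.V_le p l F.pl hv
  have hyx : y * x * y⁻¹ * x⁻¹ ∈ W p := mul_mem (Four.norm_p D hyc hx) (inv_mem hx)
  have h2 : (y * x * y⁻¹ * x⁻¹) * v⁻¹ ∈ R p := by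
    rw [← F.re.pker _ (mul_mem hyx (inv_mem hvW)), F.re.pmul _ hyx _ (inv_mem hvW), ← e, π_inv F.re hvW,
      mul_inv_cancel]
  have h3 : y * x * y⁻¹ * x⁻¹ ∈ V l := by
    have h4 := mul_mem (D.R_le p l F.pl h2) hv
    rwa [inv_mul_cancel_right] at h4
  have h4 := inv_mem h3
  have e2 : (y * x * y⁻¹ * x⁻¹)⁻¹ = x * y * x⁻¹ * y⁻¹ := by group
  rwa [e2] at h4

/-- **the movers of `A = ρ(W_q)`** -/
theorem mv_pair [Finite G] (D : Geom inc R W V s t) (F : RD inc R W V p l Sy ρ π ζ T lam U Kh) (hn : 1 ≤ n)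
    (hE : ExP inc R W V n p q) (hrl : inc r l) (hwk : Walk inc (n - 1) r q) (hB : Bd inc R W V n) :
    ∀ a ∈ im F.re (W q) (W_le_cent D hE.crit hn), a ≠ 1 →
      Cnt.Mv (Np Kh) lam (im F.re (W q) (W_le_cent D hE.crit hn)) a := by
  rcases hB p q r l hE.crit F.pl hrl hwk with hl | hb
  · have hx := exact_of D F hn hE hrl hwk
    exact Cnt.mv_of_typeN F.flag F.flag.hinv_Np hx.le hx.sq (lam_of_lines D F hE.crit hn hl)
  · exact mv_of_bad D F hE.crit hn fun f hf hf1 => hb f hf (not_cent_of F (W_le_cent D hE.crit hn hf) hf1)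

section qm

variable {Fd Q : Type*} [Field Fd] [AddCommGroup Q] [Module Fd Q] [DistribMulAction H Q] [SMulCommClass H Fd Q]
variable {κ : M → Q} {a0 : Q} [Finite Fd] [CharP Fd 2]

/-- **`Dat` for every critical pair, after TOR** -/
theorem dat_pair [Finite G] (D : Geom inc R W V s t) (F : RD inc R W V p l Sy ρ π ζ T lam U Kh) (hn : 1 ≤ n)
    (hE : ExP inc R W V n p q) (hrl : inc r l) (hwk : Walk inc (n - 1) r q) (hB : Bd inc R W V n)
    (Qd : Cnt.Qm Fd H κ a0 (Np Kh) lam) (ht : Tor H (Np Kh) lam) :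
    Cnt.Dat Fd κ a0 (im F.re (W q) (W_le_cent D hE.crit hn)) :=
  dat_of_tor Qd ht (exact_of D F hn hE hrl hwk) (mv_pair D F hn hE hrl hwk hB)

/-- **`W_{q'}` centralises the preimage of `N⁺`.** -/
theorem com_np [Finite G] (D : Geom inc R W V s t) (F : Frm inc R W V p l Sy ρ π ζ T lam U Kh) (hn : 1 ≤ n)
    (hE : ∀ a b, Crit inc W n a b → ExP inc R W V n a b) (hB : Bd inc R W V n)
    (Qd : Cnt.Qm Fd H κ a0 (Np Kh) lam) (ht : Tor H (Np Kh) lam) {q' : X} (hc : Crit inc W n p q') {f' : G}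
    (hf' : f' ∈ W q') {w : G} (hw : w ∈ W p) (hwN : π w ∈ Np Kh) : f' * w = w * f' := by
  obtain ⟨r', l', hr', hrl', hpl'⟩ := hc.symm.last hn
  obtain ⟨c, hcc, rfl⟩ := F.cl l' hpl'
  have hcp : c • p = p := Four.fix_p D hcc
  have F₂ : Frm inc R W V p (c • l) (Sy.map (MulAut.conj c).toMonoidHom) (fun a => ρ (c⁻¹ * a * c))
      (fun w => π (c⁻¹ * w * c)) ((MulAut.conj c).toMonoidHom.comp ζ) T lam U Kh := by
    have h1 := F.smul D c
    rw [hcp] at h1
    exact h1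
  have hEq := hE _ _ hc
  have E₂ := dat_pair D F₂.toRD hn hEq hrl' hr'.symm hB Qd ht
  have := F.flag.finH
  have := F.flag.finM
  have h3 := Cnt.N_le Qd E₂
  have hwc : c⁻¹ * w * c ∈ W p := by
    have h4 := Four.norm_p D (inv_mem hcc) hw
    rwa [inv_inv] at h4
  have h5 : π (c⁻¹ * w * c) ∈ Np Kh := by
    have h6 := F.re.act c⁻¹ (inv_mem hcc) w hw
    rw [inv_inv] at h6
    rw [h6]
    exact F.flag.hinv_Np _ _ hwN
  refine hEq.cen w hw (fun b hb => ?_) f' hf'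
  have hbc := W_le_cent D hc hn hb
  have h7 := F₂.re.act b hbc w hw
  have h8 := h3 h5 _ (mem_im.2 ⟨b, hb, rfl⟩)
  have hbw : b * w * b⁻¹ ∈ W p := Four.norm_p D hbc hw
  rw [← F₂.re.pker _ (mul_mem hbw (inv_mem hw)), π_comm F₂.re D hbc hw]
  rw [mul_inv_eq_one]
  exact h8

/-- **after TOR: `[W_a, W_b] ≤ V_l` for every critical pair** -/
theorem lines_of_tor [Finite G] (D : Geom inc R W V s t) (F : Frm inc R W V p l Sy ρ π ζ T lam U Kh) (hn : 1 ≤ n)
    (hE : ∀ a b, Crit inc W n a b → ExP inc R W V n a b) (hB : Bd inc R W V n)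
    (Qd : Cnt.Qm Fd H κ a0 (Np Kh) lam) (hd : Np Kh ⊓ lam = ⊥) (ht : Tor H (Np Kh) lam)
    (hTwo : ∀ h : H, (∀ c : Fd, h • a0 ≠ c • h⁻¹ • a0) → Two Kh (Np Kh) lam h) {a b c : X} {m : L}
    (hc : Crit inc W n a b) (ham : inc a m) (hcm : inc c m) (hwk : Walk inc (n - 1) c b) :
    ∀ x ∈ W a, ∀ y ∈ W b, x * y * x⁻¹ * y⁻¹ ∈ V m := by
  rcases hB a b c m hc ham hcm hwk with hl | hb
  · exact hl
  obtain ⟨Sy₁, ρ₁, π₁, ζ₁, F₁⟩ := F.at_flag D ham
  have := F.flag.finH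
  have := F.flag.finM
  have hEq := hE _ _ hc
  have E := dat_pair D F₁.toRD hn hEq hcm hwk hB Qd ht
  refine lines_of_lam D F₁.toRD hc hn fun f hf m' => ?_
  exact comm_lam_of_bad (r := c) D F₁.toRD Qd hc hn hd
    (fun g g' a ha b hb hab => Cnt.smul_eq_of_mem Qd hd ht.norm ha hb hab) (dl_Np F.flag)
    (fun x => mem_im) E hTwo (fun q' hq' f' hf' w hw hwN => com_np D F₁ hn hE hB Qd ht hq' hf' hw hwN)
    (fun f hf hf1 => hb f hf (not_cent_of F₁.toRD (W_le_cent D hc hn hf) hf1)) hf m'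

/-- **class P for one critical pair: `[W_a, W_b] ≤ V_l` for every critical pair** -/
theorem lines_of_pa [Finite G] (D : Geom inc R W V s t) (F : Frm inc R W V p l Sy ρ π ζ T lam U Kh) (hn : 1 ≤ n)
    (hE : ∀ a b, Crit inc W n a b → ExP inc R W V n a b) (hB : Bd inc R W V n)
    (Qd : Cnt.Qm Fd H κ a0 (Np Kh) lam)
    (hTwo : ∀ h : H, (∀ c : Fd, h • a0 ≠ c • h⁻¹ • a0) → Two Kh (Np Kh) lam h)
    (hpq : Crit inc W n p q) (hrl : inc r l) (hwk : Walk inc (n - 1) r q) {A1 : Subgroup H}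
    (hA1 : A1 ≤ im F.re (W q) (W_le_cent D hpq hn)) (h1 : PA Kh lam A1 Qd.inv) {a b c : X} {m : L}
    (hc : Crit inc W n a b) (ham : inc a m) (hcm : inc c m) (hwk' : Walk inc (n - 1) c b) :
    ∀ x ∈ W a, ∀ y ∈ W b, x * y * x⁻¹ * y⁻¹ ∈ V m :=
  lines_of_tor D F hn hE hB Qd (np_inf F.flag h1.ne h1.cent)
    (tor_abs F.flag Qd (exact_of D F.toRD hn (hE _ _ hpq) hrl hwk) hA1 h1
      (mv_pair D F.toRD hn (hE _ _ hpq) hrl hwk hB)) hTwo hc ham hcm hwk'

end qm

end Cfsg.Agent.Omega.NO3S.FullQ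

end

-- merged: Cfsg.Agent.Mrg.Omega.NO3S.FullQ.FMod
section

section


/-!
# NO-3S, `q ≥ 4`: the `F`-module `Q = M / N⁺` (helper471 #21459, section 0)

* `FSp Fd lam Kh` : the `F`-structure: for `c ∈ F`, `a ∈ lam` there is `b ∈ lam` with `φ b = c φ a` for all `φ ∈ K̂`;
* `Kp Fd Kh = {φ ∈ K̂ | F φ ≤ K̂}`; `mem_Np_iff` : `N⁺ = {m | K⁺(m) = 0}`;
* `Flag.dual_hom` : duality for homomorphisms;
* **`exists_qm`** : helper649's `Cnt.Qm` for `N = N⁺`;
* `ClassP.pa` : helper312's `PA`; `onL_of` : `OnL lam Kh` from `RD`.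
-/

set_option autoImplicit false
set_option linter.unusedSectionVars false

namespace Cfsg.Agent.Omega.NO3S.FullQ

open Subgroup Cfsg Cfsg.Agent.ZN Cfsg.Agent.MinSimple.VModule Cfsg.Agent.Omega.NO3S.FarQ
open Cfsg.Agent.Omega.NOThree.Pts Cfsg.Agent.Omega.NO3S.FarQ.Glue
open Cfsg.Agent.ClassTwoFusion.Quad (cv mem_cv cv_anti)

universe u

section dual

variable {H M K : Type*} [Group H] [CommGroup M] [MulDistribMulAction H M] [CommGroup K]
variable {T : Subgroup H} {lam U : Subgroup M} {Kh : Subgroup (M →* K)}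

/-- **Duality for homomorphisms**: `θ(M_τ) ≤ D` gives `ψ ∈ K̂` with `θ ≡ ψ` modulo `D`. -/
theorem _root_.Cfsg.Agent.Omega.NO3S.FarQ.Flag.dual_hom (F : Flag T lam U Kh) {D : Subgroup K} (hD : D.index = 2)
    (θ : M →* K) (hθ : ∀ m ∈ Mt Kh D, θ m ∈ D) : ∃ ψ ∈ Kh, ∀ m, θ m * (ψ m)⁻¹ ∈ D := by
  classical
  have := F.finM
  let _ : Module (ZMod 2) (Additive M) := AddCommGroup.zmodModule (n := 2) (fun x => by
    rw [two_nsmul]
    exact congrArg Additive.ofMul (F.sq x.toMul))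
  have hKD : Nat.card (K ⧸ D) = 2 := hD
  have hex : ∃ χ : K →* Multiplicative (ZMod 2), χ.ker = D := by
    have h1 : IsCyclic (K ⧸ D) := isCyclic_of_prime_card (p := 2) hKD
    have h2 : Nat.card (K ⧸ D) = Nat.card (Multiplicative (ZMod 2)) := by
      rw [hKD]
      exact (Nat.card_zmod 2).symm
    let e := mulEquivOfCyclicCardEq h2
    refine ⟨e.toMonoidHom.comp (QuotientGroup.mk' D), ?_⟩
    ext x
    rw [MonoidHom.mem_ker]
    constructor
    · intro h
      have h3 : e (QuotientGroup.mk' D x) = 1 := h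
      rw [map_eq_one_iff e e.injective] at h3
      exact (QuotientGroup.eq_one_iff x).1 h3
    · intro h
      have h3 : QuotientGroup.mk' D x = 1 := (QuotientGroup.eq_one_iff x).2 h
      show e (QuotientGroup.mk' D x) = 1
      rw [h3, map_one]
  obtain ⟨χ, hχ⟩ := hex
  have hχD : ∀ x : K, χ x = 1 ↔ x ∈ D := fun x => by rw [← hχ, MonoidHom.mem_ker]
  let toD : (M →* K) → Module.Dual (ZMod 2) (Additive M) := fun φ =>
    AddMonoidHom.toZModLinearMap 2 (AddMonoidHom.mk' (fun x : Additive M => (χ (φ x.toMul)).toAdd) (by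
      intro a b
      show (χ (φ (a.toMul * b.toMul))).toAdd = _
      rw [map_mul, map_mul]
      rfl))
  have htoD : ∀ φ (x : M), toD φ (Additive.ofMul x) = 0 ↔ φ x ∈ D := by
    intro φ x
    rw [← hχD]
    exact Iff.rfl
  let W : Submodule (ZMod 2) (Module.Dual (ZMod 2) (Additive M)) :=
    AddSubgroup.toZModSubmodule 2
      { carrier := {f | ∃ φ ∈ Kh, toD φ = f}
        zero_mem' := ⟨1, one_mem _, by
          ext x
          show (χ 1).toAdd = 0
          rw [map_one]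
          rfl⟩
        add_mem' := by
          rintro _ _ ⟨φ, hφ, rfl⟩ ⟨ψ, hψ, rfl⟩
          refine ⟨φ * ψ, mul_mem hφ hψ, ?_⟩
          ext x
          show (χ (φ x.toMul * ψ x.toMul)).toAdd = _
          rw [map_mul]
          rfl
        neg_mem' := by
          rintro _ ⟨φ, hφ, rfl⟩
          refine ⟨φ⁻¹, inv_mem hφ, ?_⟩
          ext x
          show (χ (φ x.toMul)⁻¹).toAdd = _
          rw [map_inv]
          rfl }
  have hW : ∀ f, f ∈ W ↔ ∃ φ ∈ Kh, toD φ = f := fun f => Iff.rfl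
  have h2 : toD θ ∈ W := by
    rw [← Subspace.dualCoannihilator_dualAnnihilator_eq (W := W), Submodule.mem_dualAnnihilator]
    intro x hx
    rw [Submodule.mem_dualCoannihilator] at hx
    refine (htoD θ x.toMul).2 (hθ _ fun φ hφ => ?_)
    exact (htoD φ x.toMul).1 (hx _ ((hW _).2 ⟨φ, hφ, rfl⟩))
  obtain ⟨ψ, hψ, e⟩ := (hW _).1 h2
  refine ⟨ψ, hψ, fun m => ?_⟩
  have h3 : toD ψ (Additive.ofMul m) = toD θ (Additive.ofMul m) := by rw [e]
  have h4 : χ (ψ m) = χ (θ m) := h3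
  rw [← hχD, map_mul, map_inv, h4, mul_inv_cancel]

end dual

section fs

variable {Fd : Type*} [Field Fd] {H M K : Type*} [Group H] [CommGroup M] [MulDistribMulAction H M] [CommGroup K]
  [Module Fd (Additive K)]
variable {T : Subgroup H} {lam U : Subgroup M} {Kh : Subgroup (M →* K)}

/-- **The `F`-structure.** -/
def FSp (Fd : Type*) [Field Fd] {M K : Type*} [CommGroup M] [CommGroup K] [Module Fd (Additive K)]
    (lam : Subgroup M) (Kh : Subgroup (M →* K)) : Prop :=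
  ∀ (c : Fd), ∀ a ∈ lam, ∃ b ∈ lam, ∀ φ ∈ Kh, Additive.ofMul (φ b) = c • Additive.ofMul (φ a)

/-- `K⁺` -/
def Kp (Fd : Type*) [Field Fd] {M K : Type*} [CommGroup M] [CommGroup K] [Module Fd (Additive K)]
    (Kh : Subgroup (M →* K)) : Set (M →* K) :=
  {φ | φ ∈ Kh ∧ ∀ c : Fd, ∃ ψ ∈ Kh, ∀ m, Additive.ofMul (ψ m) = c • Additive.ofMul (φ m)}

theorem Kp_comp (F : Flag T lam U Kh) {φ : M →* K} (hφ : φ ∈ Kp Fd Kh) (h : H) :
    φ.comp (MulDistribMulAction.toMonoidHom M h) ∈ Kp Fd Kh := by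
  refine ⟨F.comp_mem hφ.1 h, fun c => ?_⟩
  obtain ⟨ψ, hψ, e⟩ := hφ.2 c
  exact ⟨_, F.comp_mem hψ h, fun m => e _⟩

/-- `c` times a homomorphism -/
def smulHom (c : Fd) (φ : M →* K) : M →* K :=
  MonoidHom.mk' (fun m => (c • Additive.ofMul (φ m)).toMul) (fun a b => by
    rw [map_mul, ofMul_mul, smul_add]
    rfl)

theorem smulHom_apply (c : Fd) (φ : M →* K) (m : M) :
    Additive.ofMul (smulHom c φ m) = c • Additive.ofMul (φ m) := rfl

variable (F : Flag T lam U Kh) (hS : FSp Fd lam Kh)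
include F hS

/-- scalars on `M / rad` -/
theorem exists_sc (c : Fd) (m : M) : ∃ m' : M, ∀ φ ∈ Kh, Additive.ofMul (φ m') = c • Additive.ofMul (φ m) := by
  let N : Subgroup M :=
    { carrier := {m | ∃ m' : M, ∀ φ ∈ Kh, Additive.ofMul (φ m') = c • Additive.ofMul (φ m)}
      one_mem' := ⟨1, fun φ _ => by rw [map_one, ofMul_one, smul_zero]⟩
      mul_mem' := by
        rintro a b ⟨a', ha⟩ ⟨b', hb⟩
        exact ⟨a' * b', fun φ hφ => by rw [map_mul φ, map_mul φ, ofMul_mul, ofMul_mul, smul_add, ha φ hφ, hb φ hφ]⟩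
      inv_mem' := by
        rintro a ⟨a', ha⟩
        exact ⟨a'⁻¹, fun φ hφ => by rw [map_inv φ, map_inv φ, ofMul_inv, ofMul_inv, smul_neg, ha φ hφ]⟩ }
  have h1 : N = ⊤ := F.gen _ fun h a ha => by
    obtain ⟨b, -, hb⟩ := hS c a ha
    exact ⟨h • b, fun φ hφ => hb _ (F.comp_mem hφ h)⟩
  have h2 : m ∈ N := by rw [h1]; exact mem_top m
  exact h2

/-- a homomorphism which is `F`-linear on the lines and has values in `D < K` is trivial -/
theorem eq_one_of_lin (hcard : Nat.card Fd = Nat.card K) {D : Subgroup K} (hD : D ≠ ⊤) {ω : M →* K}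
    (hl : ∀ (c : Fd) (g : H), ∀ a ∈ lam, ∀ b ∈ lam, (∀ φ ∈ Kh, Additive.ofMul (φ b) = c • Additive.ofMul (φ a)) →
      Additive.ofMul (ω (g • b)) = c • Additive.ofMul (ω (g • a)))
    (hω : ∀ m, ω m ∈ D) : ω = 1 := by
  have := F.finM
  have : Finite K := by
    have h1 : Nat.card K ≠ 0 := by rw [F.cardR]; exact Nat.card_pos.ne'
    exact Nat.finite_of_card_ne_zero h1
  have : Finite Fd := by
    have h1 : Nat.card Fd ≠ 0 := by rw [hcard, F.cardR]; exact Nat.card_pos.ne'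
    exact Nat.finite_of_card_ne_zero h1
  have h1 : ω.ker = ⊤ := F.gen _ fun g a ha => by
    rw [MonoidHom.mem_ker]
    by_contra hne
    apply hD
    rw [eq_top_iff]
    intro r _
    have hinj : Function.Injective fun c : Fd => c • Additive.ofMul (ω (g • a)) := by
      intro c d hcd
      have h2 : (c - d) • Additive.ofMul (ω (g • a)) = 0 := by rw [sub_smul]; exact sub_eq_zero.2 hcd
      by_contra hcd'
      exact hne ((smul_eq_zero_iff_right (sub_ne_zero.2 hcd')).1 h2)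
    obtain ⟨c, hc⟩ := ((Nat.bijective_iff_injective_and_card _).2 ⟨hinj, hcard⟩).2 (Additive.ofMul r)
    obtain ⟨b, hb, e⟩ := hS c a ha
    have h3 := hl c g a ha b hb e
    have h4 : ω (g • b) = r := h3.trans hc
    rw [← h4]
    exact hω _
  ext m
  have h2 : m ∈ ω.ker := by rw [h1]; exact mem_top m
  exact h2

/-- `N⁺ = {m | K⁺(m) = 0}` -/
theorem mem_Np_iff (hcard : Nat.card Fd = Nat.card K) (m : M) : m ∈ Np Kh ↔ ∀ φ ∈ Kp Fd Kh, φ m = 1 := by
  have := F.finM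
  have : Finite K := by
    have h1 : Nat.card K ≠ 0 := by rw [F.cardR]; exact Nat.card_pos.ne'
    exact Nat.finite_of_card_ne_zero h1
  have : Finite Fd := by
    have h1 : Nat.card Fd ≠ 0 := by rw [hcard, F.cardR]; exact Nat.card_pos.ne'
    exact Nat.finite_of_card_ne_zero h1
  constructor
  · intro hm φ hφ
    have h1 : Np Kh ≤ φ.ker := Np_le fun D hD x hx => by
      rw [MonoidHom.mem_ker]
      by_contra hne
      apply hD
      rw [eq_top_iff]
      intro r _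
      have hinj : Function.Injective fun c : Fd => c • Additive.ofMul (φ x) := by
        intro c d hcd
        have h2 : (c - d) • Additive.ofMul (φ x) = 0 := by rw [sub_smul]; exact sub_eq_zero.2 hcd
        by_contra hcd'
        exact hne ((smul_eq_zero_iff_right (sub_ne_zero.2 hcd')).1 h2)
      obtain ⟨c, hc⟩ := ((Nat.bijective_iff_injective_and_card _).2 ⟨hinj, hcard⟩).2 (Additive.ofMul r)
      obtain ⟨ψ, hψ, e⟩ := hφ.2 c
      have h4 : ψ x = r := (e x).trans hc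
      rw [← h4]
      exact hx ψ hψ
    exact h1 hm
  · intro h
    by_contra hm
    obtain ⟨D, hD⟩ := F.exists_index_two
    have hDt := ne_top_of_index hD
    obtain ⟨φ, hφ, h1, h2⟩ := F.dual hD (Mt_le_Np Kh hDt) hm
    refine h2 ?_
    rw [h φ ⟨hφ, fun c => ?_⟩]
    · exact one_mem _
    -- `c φ ∈ K̂`
    by_cases hc : c = 0
    · exact ⟨1, one_mem _, fun x => by rw [hc, zero_smul]; rfl⟩
    obtain ⟨ψ, hψ, h3⟩ := F.dual_hom hD (smulHom c φ) (fun x hx => by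
      obtain ⟨x', hx'⟩ := exists_sc F hS c x
      -- `x' ∈ M_{cτ}`
      let D' : Subgroup K :=
        { carrier := {r | (c⁻¹ • Additive.ofMul r).toMul ∈ D}
          one_mem' := by
            show (c⁻¹ • (0 : Additive K)).toMul ∈ D
            rw [smul_zero]; exact one_mem _
          mul_mem' := by
            intro a b ha hb
            show (c⁻¹ • (Additive.ofMul a + Additive.ofMul b)).toMul ∈ D
            rw [smul_add]
            exact mul_mem ha hb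
          inv_mem' := by
            intro a ha
            show (c⁻¹ • (-Additive.ofMul a)).toMul ∈ D
            rw [smul_neg]
            exact inv_mem ha }
      have hD' : D' ≠ ⊤ := by
        intro e
        apply hDt
        rw [eq_top_iff]
        intro r _
        have h4 : (c • Additive.ofMul r).toMul ∈ D' := by rw [e]; exact mem_top _
        have h5 : (c⁻¹ • (c • Additive.ofMul r)).toMul ∈ D := h4
        rwa [smul_smul, inv_mul_cancel₀ hc, one_smul] at h5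
      have h4 : x' ∈ Mt Kh D' := by
        intro ψ hψ
        show (c⁻¹ • Additive.ofMul (ψ x')).toMul ∈ D
        rw [hx' ψ hψ, smul_smul, inv_mul_cancel₀ hc, one_smul]
        exact hx ψ hψ
      have h5 := h1 _ (Mt_le_Np Kh hD' h4)
      have h6 : φ x' = smulHom c φ x := hx' φ hφ
      rwa [h6] at h5)
    have h4 : smulHom c φ * ψ⁻¹ = 1 := by
      refine eq_one_of_lin F hS hcard hDt ?_ h3
      intro d g a ha b hb e
      have e1 : ∀ ψ ∈ Kh, Additive.ofMul (ψ (g • b)) = d • Additive.ofMul (ψ (g • a)) := fun ψ hψ =>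
        e _ (F.comp_mem hψ g)
      show c • Additive.ofMul (φ (g • b)) + -Additive.ofMul (ψ (g • b)) =
        d • (c • Additive.ofMul (φ (g • a)) + -Additive.ofMul (ψ (g • a)))
      rw [e1 φ hφ, e1 ψ hψ, smul_add, smul_neg, smul_comm]
    rw [mul_inv_eq_one] at h4
    exact ⟨ψ, hψ, fun x => by rw [← h4]; rfl⟩

end fs

/-- **The `F`-module `Q = M / N⁺`.** -/
theorem exists_qm {Fd : Type*} [Field Fd] {H : Type*} {M K : Type u} [Group H] [CommGroup M] [MulDistribMulAction H M]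
    [CommGroup K] [Module Fd (Additive K)] {T : Subgroup H} {lam U : Subgroup M} {Kh : Subgroup (M →* K)}
    (F : Flag T lam U Kh) (hS : FSp Fd lam Kh) (hcard : Nat.card Fd = Nat.card K)
    (hNl : ∀ a ∈ lam, a ∈ Np Kh → a = 1) :
    ∃ (Q : Type u) (_ : AddCommGroup Q) (_ : Module Fd Q) (_ : DistribMulAction H Q) (_ : SMulCommClass H Fd Q)
      (π : M → Q) (a0 : Q), Cnt.Qm Fd H π a0 (Np Kh) lam := by
  have := F.finM
  have : Finite K := by
    have h1 : Nat.card K ≠ 0 := by rw [F.cardR]; exact Nat.card_pos.ne'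
    exact Nat.finite_of_card_ne_zero h1
  have : Finite Fd := by
    have h1 : Nat.card Fd ≠ 0 := by rw [hcard, F.cardR]; exact Nat.card_pos.ne'
    exact Nat.finite_of_card_ne_zero h1
  let Q : Submodule Fd (Kp Fd Kh → Additive K) :=
    { carrier := {d | ∃ m : M, ∀ φ : Kp Fd Kh, d φ = Additive.ofMul (φ.1 m)}
      zero_mem' := ⟨1, fun φ => by rw [map_one]; rfl⟩
      add_mem' := by
        rintro d d' ⟨m, hm⟩ ⟨m', hm'⟩
        exact ⟨m * m', fun φ => by rw [map_mul, ofMul_mul, ← hm, ← hm']; rfl⟩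
      smul_mem' := by
        rintro c d ⟨m, hm⟩
        obtain ⟨m', hm'⟩ := exists_sc F hS c m
        exact ⟨m', fun φ => by rw [hm' _ φ.2.1, ← hm]; rfl⟩ }
  let π : M → Q := fun m => ⟨fun φ => Additive.ofMul (φ.1 m), m, fun _ => rfl⟩
  have hsurj : Function.Surjective π := by
    rintro ⟨d, m, hm⟩
    exact ⟨m, Subtype.ext (funext fun φ => (hm φ).symm)⟩
  let act : DistribMulAction H Q :=
    { smul := fun h q => ⟨fun φ => q.1 ⟨φ.1.comp (MulDistribMulAction.toMonoidHom M h), Kp_comp F φ.2 h⟩, by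
        obtain ⟨d, m, hm⟩ := q
        exact ⟨h • m, fun φ => hm _⟩⟩
      one_smul := by
        rintro ⟨d, m, hm⟩
        refine Subtype.ext (funext fun φ => ?_)
        show d _ = d φ
        rw [hm, hm]
        exact congrArg (fun x => Additive.ofMul (φ.1 x)) (one_smul H m)
      mul_smul := by
        rintro g h ⟨d, m, hm⟩
        refine Subtype.ext (funext fun φ => ?_)
        show d _ = d _
        rw [hm, hm]
        exact congrArg (fun x => Additive.ofMul (φ.1 x)) (mul_smul g h m)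
      smul_zero := fun h => rfl
      smul_add := fun h q q' => rfl }
  have hact : ∀ (h : H) (m : M), π (h • m) = h • π m := fun _ _ => rfl
  have hcomm : SMulCommClass H Fd Q := ⟨fun h c q => rfl⟩
  have hker : ∀ m, π m = 0 ↔ m ∈ Np Kh := by
    intro m
    rw [mem_Np_iff F hS hcard]
    constructor
    · intro h φ hφ
      exact congrFun (congrArg Subtype.val h) ⟨φ, hφ⟩
    · intro h
      exact Subtype.ext (funext fun φ => h φ.1 φ.2)
  have hpmul : ∀ m n, π (m * n) = π m + π n := by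
    intro m n
    refine Subtype.ext (funext fun φ => ?_)
    show Additive.ofMul (φ.1 (m * n)) = Additive.ofMul (φ.1 m) + Additive.ofMul (φ.1 n)
    rw [map_mul]
    rfl
  obtain ⟨a₁, ha₁, ha₂⟩ : ∃ a ∈ lam, a ≠ 1 := by
    by_contra hcon
    push Not at hcon
    have h1 : lam = ⊥ := by
      rw [eq_bot_iff]
      exact fun a ha => mem_bot.2 (hcon a ha)
    have h2 := F.four
    rw [h1, Subgroup.card_bot] at h2
    omega
  have hne : π a₁ ≠ 0 := fun h => ha₂ (hNl a₁ ha₁ ((hker _).1 h))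
  have hb : ∀ c : Fd, ∃ b : lam, π b = c • π a₁ := by
    intro c
    obtain ⟨b, hb, e⟩ := hS c a₁ ha₁
    exact ⟨⟨b, hb⟩, Subtype.ext (funext fun φ => e _ φ.2.1)⟩
  choose β hβ using hb
  have hinj : Function.Injective β := by
    intro c d hcd
    have h1 : (c - d) • π a₁ = 0 := (sub_smul c d (π a₁)).trans (by rw [← hβ, ← hβ, hcd, sub_self])
    by_contra h2
    exact hne ((smul_eq_zero_iff_right (sub_ne_zero.2 h2)).1 h1)
  have hbij := (Nat.bijective_iff_injective_and_card β).2 ⟨hinj, hcard.trans F.cardR⟩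
  refine ⟨Q, inferInstance, inferInstance, act, hcomm, π, π a₁, ⟨hpmul, hsurj, hact, hker, fun v => ?_, hne⟩⟩
  rw [Submodule.mem_span_singleton]
  constructor
  · rintro ⟨a, ha, rfl⟩
    obtain ⟨c, hc⟩ := hbij.2 ⟨a, ha⟩
    exact ⟨c, by rw [← hβ, hc]⟩
  · rintro ⟨c, rfl⟩
    exact ⟨β c, (β c).2, hβ c⟩

/-- helper312's `PA` -/
theorem ClassP.pa {H M K : Type u} [Group H] [CommGroup M] [MulDistribMulAction H M] [CommGroup K] {T : Subgroup H}
    {lam U : Subgroup M} {Kh : Subgroup (M →* K)} (F : Flag T lam U Kh) (hML : Cfsg.Agent.Omega.ML.Final.MLK.{u, u})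
    (hK : IsKGroup H) {A₁ : Subgroup H} (h : ClassP lam Kh A₁) {Fd Q : Type*} [Field Fd] [AddCommGroup Q]
    [Module Fd Q] [DistribMulAction H Q] [SMulCommClass H Fd Q] {π : M → Q} {a0 : Q}
    (D : Cnt.Qm Fd H π a0 (Np Kh) lam) : PA Kh lam A₁ D.inv where
  ne := h.atom.ex.ne
  ex := h.atom.ex.card.ge
  cent := fun n hn => by
    rw [mem_cv]
    exact fun a ha => h.np n hn a ha
  o2 := by
    obtain ⟨a, ha, e⟩ := (D.lam a0).2 (Submodule.mem_span_singleton_self a0)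
    have ha1 : a ≠ 1 := by
      rintro rfl
      exact D.ne (e ▸ D.map_one)
    have h1 := F.np_o2 hML hK h ha ha1
    have h2 : cst (Np Kh) F.hinv_Np a = Cnt.stN (Np Kh) lam D.inv := by
      rw [D.stN_eq]
      ext x
      rw [mem_cst, MulAction.mem_stabilizer_iff, ← D.ker, D.map_comm, e, sub_eq_zero]
    rwa [h2] at h1

section rd

variable {G X L : Type*} [Group G] [MulAction G X] [MulAction G L]
variable {inc : X → L → Prop} {R W : X → Subgroup G} {V : L → Subgroup G} {s t : ℕ}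
variable {H M K : Type*} [Group H] [CommGroup M] [MulDistribMulAction H M] [CommGroup K]
variable {p : X} {l : L} {Sy : Subgroup G} {ρ : G → H} {π : G → M} {ζ : K →* G} {T : Subgroup H}
  {lam U : Subgroup M} {Kh : Subgroup (M →* K)}

/-- `K̂` is onto `K` at every element of `lam#`. -/
theorem onL_of (D : Geom inc R W V s t) (E : RD inc R W V p l Sy ρ π ζ T lam U Kh) : OnL lam Kh := by
  intro a ha ha1 r
  obtain ⟨v, hv, rfl⟩ := (E.mlam a).1 ha
  have hvW : v ∈ W p := D.V_le p l E.pl hv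
  have hvR : v ∉ R p := fun h => ha1 ((E.re.pker v hvW).2 h)
  have hr : ζ r ∈ R p := (E.ran _).2 ⟨r, rfl⟩
  have hrV : ζ r * v ∈ V l := mul_mem (D.R_le p l E.pl hr) hv
  obtain ⟨y, hyl, hvy⟩ := D.cover l v hv
  obtain ⟨x, hxl, hvx⟩ := D.cover l _ hrV
  have hyp : y ≠ p := by
    rintro rfl
    exact hvR hvy
  have hxp : x ≠ p := by
    rintro rfl
    exact hvR ((mul_mem_cancel_left hr).1 hvx)
  obtain ⟨k, hk, hk1, hk2⟩ := E.tr x y hxl hxp hyl hyp
  obtain ⟨φ, hφ, hφ1⟩ := E.kh' k hk hk1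
  refine ⟨φ, hφ, ?_⟩
  apply E.inj
  rw [← hφ1 v hvW]
  -- both `k v k⁻¹` and `ζ r v` are in `R x`
  have h1 : k * v * k⁻¹ ∈ R x := by
    rw [← hk2]
    exact D.R_smul k y v hvy
  have h2 : (k * v * k⁻¹ * v⁻¹) * (ζ r)⁻¹ ∈ R x := by
    have h3 := mul_mem h1 (inv_mem hvx)
    have e : k * v * k⁻¹ * (ζ r * v)⁻¹ = k * v * k⁻¹ * v⁻¹ * (ζ r)⁻¹ := by group
    rwa [e] at h3
  have h3 : (k * v * k⁻¹ * v⁻¹) * (ζ r)⁻¹ ∈ R p := mul_mem (hk1 v hvW) (inv_mem hr)
  by_contra hne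
  refine hxp (D.ti x p _ h2 h3 fun e => hne ?_)
  exact mul_inv_eq_one.1 e

end rd

end Cfsg.Agent.Omega.NO3S.FullQ

end

section


/-!
# FullB (`q ≥ 4`): the plug of class N

* `nn_iff` : `N_p / p = rad`;
* `false_of_noP` : if no critical pair has a subgroup of class P, there is no critical pair (`n ≥ 2`).
-/

set_option autoImplicit false
set_option linter.unusedSectionVars false

namespace Cfsg.Agent.Omega.NO3S.FullQ

open Subgroup Cfsg Cfsg.Agent.ZN Cfsg.Agent.Omega.NOThree.Pts Cfsg.Agent.Omega.NO3S.PT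
open Cfsg.Agent.Omega.NO3S.FarQ Cfsg.Agent.Omega.NO3S.FarQ.Glue Cfsg.Agent.Omega.NO3S.FarQ.Free
open Cfsg.Agent.Omega.NO3S.FarQ.Asm (ExP)
open Cfsg.Agent.Omega.NO3S.WQ (NN mem_NN KK KK_iff false_of_frm)
open Cfsg.Agent.ClassTwoFusion.Quad (mem_cv)
open Cfsg.Agent.Omega.ML.Final (MLK)

universe u

variable {G X L : Type*} [Group G] [MulAction G X] [MulAction G L]
variable {inc : X → L → Prop} {R W : X → Subgroup G} {V : L → Subgroup G} {s t n : ℕ}

section nn

variable {H M K : Type*} [Group H] [CommGroup M] [MulDistribMulAction H M] [CommGroup K]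
variable {p q : X} {l : L} {Sy : Subgroup G} {ρ : G → H} {π : G → M} {ζ : K →* G} {T : Subgroup H}
  {lam U : Subgroup M} {Kh : Subgroup (M →* K)}

/-- `N_p / R_p = rad` -/
theorem nn_iff (D : Geom inc R W V s t) (E : RD inc R W V p l Sy ρ π ζ T lam U Kh) {w : G} (hw : w ∈ W p) :
    w ∈ NN R W p ↔ π w ∈ rad Kh := by
  rw [mem_NN, mem_rad]
  constructor
  · rintro ⟨-, h⟩ φ hφ
    obtain ⟨k, hk, hkW⟩ := E.kh φ hφ
    have h1 : KK R W p k := (KK_iff D).2 ⟨hk, fun w' hw' => by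
      rw [hkW w' hw']
      exact (E.ran _).2 ⟨_, rfl⟩⟩
    apply E.inj
    rw [map_one, ← hkW w hw, h k h1, mul_inv_cancel_right, mul_inv_cancel]
  · intro h
    refine ⟨hw, fun k hk => ?_⟩
    obtain ⟨hk1, hk2⟩ := (KK_iff D).1 hk
    obtain ⟨φ, hφ, e⟩ := E.kh' k hk1 hk2
    have h1 := e w hw
    rw [h φ hφ, map_one] at h1
    exact (mul_inv_eq_one.1 (by rw [← h1]; group) : k * w = w * k)

end nn

variable {H M K : Type u} [Group H] [CommGroup M] [MulDistribMulAction H M] [CommGroup K]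
variable {p q : X} {l : L} {Sy : Subgroup G} {ρ : G → H} {π : G → M} {ζ : K →* G} {T : Subgroup H}
  {lam U : Subgroup M} {Kh : Subgroup (M →* K)}

/-- **The plug of class N.** -/
theorem false_of_noP [Finite G] (hML : MLK.{u, u}) (hK : IsKGroup H) (D : Geom inc R W V s t)
    (F : Frm inc R W V p l Sy ρ π ζ T lam U Kh) (hn : 2 ≤ n) (hV : Function.Injective V)
    (t6 : ∀ l u, u ∈ centralizer (V l : Set G) → u * u = 1 → (∀ c ∈ centralizer (V l : Set G), c * u = u * c) →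
      u ∈ V l)
    (hE : ∀ a b, Crit inc W n a b → ExP inc R W V n a b)
    (hP : ∀ (a b c : X) (m : L) (hc : Crit inc W n a b) (_ : inc a m) (_ : inc c m) (_ : Walk inc (n - 1) c b)
      (Sy₁ : Subgroup G) (ρ₁ : G → H) (π₁ : G → M) (ζ₁ : K →* G)
      (F₁ : Frm inc R W V a m Sy₁ ρ₁ π₁ ζ₁ T lam U Kh),
      ∀ A₁ ≤ im F₁.re (W b) (W_le_cent D hc (by omega)), ¬ ClassP lam Kh A₁)
    {a b : X} (hc : Crit inc W n a b) : False := by
  -- every critical `A` is in `C_H(M / rad)`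
  have key : ∀ {a b : X} (hc : Crit inc W n a b), ∃ (m : L) (Sy₁ : Subgroup G) (ρ₁ : G → H) (π₁ : G → M)
      (ζ₁ : K →* G) (F₁ : Frm inc R W V a m Sy₁ ρ₁ π₁ ζ₁ T lam U Kh),
      im F₁.re (W b) (W_le_cent D hc (by omega)) ≤ cq (rad Kh) := by
    intro a b hc
    obtain ⟨r, m, hr, hrm, ham⟩ := hc.symm.last (by omega)
    obtain ⟨Sy₁, ρ₁, π₁, ζ₁, F₁⟩ := F.at_flag D ham
    refine ⟨m, Sy₁, ρ₁, π₁, ζ₁, F₁, ?_⟩
    rcases F₁.flag.dich hML hK (onL_of D F₁.toRD) (exact_of D F₁.toRD (by omega) (hE a b hc) hrm hr.symm) with h | ⟨A₁, h1, h2⟩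
    · exact h
    · exact absurd h2 (hP a b r m hc ham hrm hr.symm _ _ _ _ F₁ A₁ h1)
  obtain ⟨m₁, Sy₁, ρ₁, π₁, ζ₁, F₁, hA₁⟩ := key hc
  obtain ⟨m₂, Sy₂, ρ₂, π₂, ζ₂, F₂, hA₂⟩ := key hc.symm
  have hWb : W b ≤ centralizer (R a : Set G) := W_le_cent D hc (by omega)
  have hWa : W a ≤ centralizer (R b : Set G) := W_le_cent D hc.symm (by omega)
  -- some `f ∈ N_b` moves `W_a`
  obtain ⟨f, hf, hm⟩ : ∃ f ∈ NN R W b, ∃ w ∈ W a, f * w ≠ w * f := by
    by_contra hcon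
    push Not at hcon
    apply hc.ne
    intro w hw f hf
    have h1 : π₂ f ∈ rad Kh ⊔ zm M (im F₂.re (W a) hWa) := by
      rw [F₂.flag.sup_zm F₂.flag.hinv_rad hA₂]
      exact mem_top _
    obtain ⟨y, hy, z, hz, e⟩ := mem_sup.1 h1
    obtain ⟨g, hg, rfl⟩ := F₂.re.psurj y
    have hgN : g ∈ NN R W b := (nn_iff D F₂.toRD hg).2 hy
    have hgf : g⁻¹ * f ∈ W b := mul_mem (inv_mem hg) hf
    have h2 : π₂ (g⁻¹ * f) = z := by
      rw [F₂.re.pmul _ (inv_mem hg) _ hf, π_inv F₂.re hg, ← e, inv_mul_cancel_left]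
    have h3 : ∀ w ∈ W a, w * (g⁻¹ * f) = (g⁻¹ * f) * w := by
      apply (hE a b hc).cen' _ hgf
      intro w hw
      rw [comm_mem_iff F₂.re D (hWa hw) hgf, h2]
      exact mem_cv.1 hz _ ⟨w, hw, rfl⟩
    have h4 := h3 w hw
    have h5 := hcon g hgN w hw
    calc w * f = w * (g * (g⁻¹ * f)) := by rw [mul_inv_cancel_left]
      _ = (w * g) * (g⁻¹ * f) := by rw [mul_assoc]
      _ = g * (w * (g⁻¹ * f)) := by rw [← h5, mul_assoc]
      _ = f * w := by rw [h4]; group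
  have hfW : f ∈ W b := (mem_NN.1 hf).1
  refine false_of_frm D F hn hV t6 hE hc hf (fun w hw => ?_) hm
  have h1 : f * w * f⁻¹ * w⁻¹ ∈ W a := mul_mem (Four.norm_p D (hWb hfW) hw) (inv_mem hw)
  rw [nn_iff D F₁.toRD h1, π_comm F₁.re D (hWb hfW) hw]
  exact hA₁ ⟨f, hfW, rfl⟩ _

end Cfsg.Agent.Omega.NO3S.FullQ

end

section


/-!
# FullB, `q ≥ 4`: the `F`-module `Q = M / N⁺` with `Two` (helper298 #21966; helper471 `FMod`)

* `Lnk Fd Kh π` : the `F`-structures of `Q` and of `K̂` agree;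
* `full_of` : every `F`-linear `Q → K` is in `K̂`; `lin_of` : elements of `K̂` are `F`-linear on `lam`;
* **`exists_qm_two`** : `exists_qm` with `Two` for all `h` with `h a₀ ∉ F h⁻¹ a₀` (input of `comm_lam`, `lines_of_pa`).
-/

set_option autoImplicit false
set_option linter.unusedSectionVars false

namespace Cfsg.Agent.Omega.NO3S.FullQ

open Subgroup Cfsg Cfsg.Agent.Omega.NO3S.FarQ

universe u

section lnk

variable {Fd : Type*} [Field Fd] {H M K : Type*} [Group H] [CommGroup M] [MulDistribMulAction H M] [CommGroup K]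
  [Module Fd (Additive K)]
variable {T : Subgroup H} {lam U : Subgroup M} {Kh : Subgroup (M →* K)}
variable {Q : Type*} [AddCommGroup Q] [Module Fd Q] [DistribMulAction H Q] [SMulCommClass H Fd Q]
variable {π : M → Q} {a0 : Q}

/-- the `F`-structures of `Q` and of `K̂` agree -/
def Lnk (Fd : Type*) [Field Fd] {M K : Type*} [CommGroup M] [CommGroup K] [Module Fd (Additive K)]
    (Kh : Subgroup (M →* K)) {Q : Type*} [AddCommGroup Q] [Module Fd Q] (π : M → Q) : Prop :=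
  ∀ (c : Fd) (a b : M), (∀ φ ∈ Kh, Additive.ofMul (φ b) = c • Additive.ofMul (φ a)) → π b = c • π a

/-- **every `F`-linear map `Q → K` is in `K̂`** -/
theorem full_of (F : Flag T lam U Kh) (hS : FSp Fd lam Kh) (hcard : Nat.card Fd = Nat.card K)
    (C : Cnt.Qm Fd H π a0 (Np Kh) lam) (hl : Lnk Fd Kh π) (f : Q →ₗ[Fd] Additive K) :
    ∃ φ ∈ Kh, ∀ m, Additive.ofMul (φ m) = f (π m) := by
  obtain ⟨D, hD⟩ := F.exists_index_two
  have hDt := ne_top_of_index hD
  let θ : M →* K := MonoidHom.mk' (fun m => (f (π m)).toMul) (fun a b => by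
    rw [C.pmul, map_add]
    rfl)
  have hθ' : ∀ m, Additive.ofMul (θ m) = f (π m) := fun _ => rfl
  obtain ⟨ψ, hψ, h1⟩ := F.dual_hom hD θ fun m hm => by
    have h2 : π m = 0 := (C.ker m).2 (Mt_le_Np Kh hDt hm)
    have h3 : Additive.ofMul (θ m) = 0 := by rw [hθ', h2, map_zero]
    have h4 : θ m = 1 := h3
    rw [h4]
    exact one_mem _
  have h2 : θ * ψ⁻¹ = 1 := by
    refine eq_one_of_lin F hS hcard hDt ?_ h1
    intro c g a ha b hb e
    have e1 : Additive.ofMul (ψ (g • b)) = c • Additive.ofMul (ψ (g • a)) := e _ (F.comp_mem hψ g)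
    have e2 : π b = c • π a := hl c a b e
    show Additive.ofMul (θ (g • b)) + -Additive.ofMul (ψ (g • b)) =
      c • (Additive.ofMul (θ (g • a)) + -Additive.ofMul (ψ (g • a)))
    rw [e1, hθ', hθ', C.act, C.act, e2, smul_comm g c, map_smul, smul_add, smul_neg]
  rw [mul_inv_eq_one] at h2
  exact ⟨ψ, hψ, fun m => by rw [← h2]; exact hθ' m⟩

/-- **elements of `K̂` are `F`-linear on `lam`** -/
theorem lin_of (hS : FSp Fd lam Kh) (C : Cnt.Qm Fd H π a0 (Np Kh) lam) (hl : Lnk Fd Kh π)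
    (hNl : ∀ a ∈ lam, a ∈ Np Kh → a = 1) {φ : M →* K} (hφ : φ ∈ Kh) (c : Fd) {a b : M} (ha : a ∈ lam) (hb : b ∈ lam)
    (h : π b = c • π a) : Additive.ofMul (φ b) = c • Additive.ofMul (φ a) := by
  obtain ⟨b', hb', e⟩ := hS c a ha
  have h1 : π b' = c • π a := hl c a b' e
  have h2 : b * b'⁻¹ ∈ Np Kh := by
    rw [← C.ker]
    have h3 : π (b * b'⁻¹) + π b' = π b := by rw [← C.pmul, inv_mul_cancel_right]
    rw [h, h1] at h3
    exact add_eq_right.1 h3
  have h3 : b * b'⁻¹ = 1 := hNl _ (mul_mem hb (inv_mem hb')) h2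
  rw [mul_inv_eq_one] at h3
  rw [h3]
  exact e φ hφ

/-- **`Two`** -/
theorem two_of_lnk (F : Flag T lam U Kh) (hS : FSp Fd lam Kh) (hcard : Nat.card Fd = Nat.card K)
    (hNl : ∀ a ∈ lam, a ∈ Np Kh → a = 1) (C : Cnt.Qm Fd H π a0 (Np Kh) lam) (hl : Lnk Fd Kh π)
    {h : H} (hi : ∀ c : Fd, h • a0 ≠ c • h⁻¹ • a0) : Two Kh (Np Kh) lam h :=
  two_of C (fun _ hφ g => ⟨_, F.comp_mem hφ g, fun _ => rfl⟩) (full_of F hS hcard C hl)
    (fun _ hφ c _ ha _ hb e => lin_of hS C hl hNl hφ c ha hb e) hi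

end lnk

/-- **The `F`-module `Q = M / N⁺` with `Two`** (the construction of `exists_qm`). -/
theorem exists_qm_two {Fd : Type*} [Field Fd] {H : Type*} {M K : Type u} [Group H] [CommGroup M]
    [MulDistribMulAction H M] [CommGroup K] [Module Fd (Additive K)] {T : Subgroup H} {lam U : Subgroup M}
    {Kh : Subgroup (M →* K)} (F : Flag T lam U Kh) (hS : FSp Fd lam Kh) (hcard : Nat.card Fd = Nat.card K)
    (hNl : ∀ a ∈ lam, a ∈ Np Kh → a = 1) :
    ∃ (Q : Type u) (_ : AddCommGroup Q) (_ : Module Fd Q) (_ : DistribMulAction H Q) (_ : SMulCommClass H Fd Q)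
      (π : M → Q) (a0 : Q), Cnt.Qm Fd H π a0 (Np Kh) lam ∧
        ∀ h : H, (∀ c : Fd, h • a0 ≠ c • h⁻¹ • a0) → Two Kh (Np Kh) lam h := by
  have := F.finM
  have : Finite K := by
    have h1 : Nat.card K ≠ 0 := by rw [F.cardR]; exact Nat.card_pos.ne'
    exact Nat.finite_of_card_ne_zero h1
  have : Finite Fd := by
    have h1 : Nat.card Fd ≠ 0 := by rw [hcard, F.cardR]; exact Nat.card_pos.ne'
    exact Nat.finite_of_card_ne_zero h1
  let Q : Submodule Fd (Kp Fd Kh → Additive K) :=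
    { carrier := {d | ∃ m : M, ∀ φ : Kp Fd Kh, d φ = Additive.ofMul (φ.1 m)}
      zero_mem' := ⟨1, fun φ => by rw [map_one]; rfl⟩
      add_mem' := by
        rintro d d' ⟨m, hm⟩ ⟨m', hm'⟩
        exact ⟨m * m', fun φ => by rw [map_mul, ofMul_mul, ← hm, ← hm']; rfl⟩
      smul_mem' := by
        rintro c d ⟨m, hm⟩
        obtain ⟨m', hm'⟩ := exists_sc F hS c m
        exact ⟨m', fun φ => by rw [hm' _ φ.2.1, ← hm]; rfl⟩ }
  let π : M → Q := fun m => ⟨fun φ => Additive.ofMul (φ.1 m), m, fun _ => rfl⟩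
  have hsurj : Function.Surjective π := by
    rintro ⟨d, m, hm⟩
    exact ⟨m, Subtype.ext (funext fun φ => (hm φ).symm)⟩
  let act : DistribMulAction H Q :=
    { smul := fun h q => ⟨fun φ => q.1 ⟨φ.1.comp (MulDistribMulAction.toMonoidHom M h), Kp_comp F φ.2 h⟩, by
        obtain ⟨d, m, hm⟩ := q
        exact ⟨h • m, fun φ => hm _⟩⟩
      one_smul := by
        rintro ⟨d, m, hm⟩
        refine Subtype.ext (funext fun φ => ?_)
        show d _ = d φ
        rw [hm, hm]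
        exact congrArg (fun x => Additive.ofMul (φ.1 x)) (one_smul H m)
      mul_smul := by
        rintro g h ⟨d, m, hm⟩
        refine Subtype.ext (funext fun φ => ?_)
        show d _ = d _
        rw [hm, hm]
        exact congrArg (fun x => Additive.ofMul (φ.1 x)) (mul_smul g h m)
      smul_zero := fun h => rfl
      smul_add := fun h q q' => rfl }
  have hact : ∀ (h : H) (m : M), π (h • m) = h • π m := fun _ _ => rfl
  have hcomm : SMulCommClass H Fd Q := ⟨fun h c q => rfl⟩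
  have hker : ∀ m, π m = 0 ↔ m ∈ Np Kh := by
    intro m
    rw [mem_Np_iff F hS hcard]
    constructor
    · intro h φ hφ
      exact congrFun (congrArg Subtype.val h) ⟨φ, hφ⟩
    · intro h
      exact Subtype.ext (funext fun φ => h φ.1 φ.2)
  have hpmul : ∀ m n, π (m * n) = π m + π n := by
    intro m n
    refine Subtype.ext (funext fun φ => ?_)
    show Additive.ofMul (φ.1 (m * n)) = Additive.ofMul (φ.1 m) + Additive.ofMul (φ.1 n)
    rw [map_mul]
    rfl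
  have hlnk : Lnk Fd Kh π := fun c a b e => Subtype.ext (funext fun φ => e _ φ.2.1)
  obtain ⟨a₁, ha₁, ha₂⟩ : ∃ a ∈ lam, a ≠ 1 := by
    by_contra hcon
    push Not at hcon
    have h1 : lam = ⊥ := by
      rw [eq_bot_iff]
      exact fun a ha => mem_bot.2 (hcon a ha)
    have h2 := F.four
    rw [h1, Subgroup.card_bot] at h2
    omega
  have hne : π a₁ ≠ 0 := fun h => ha₂ (hNl a₁ ha₁ ((hker _).1 h))
  have hb : ∀ c : Fd, ∃ b : lam, π b = c • π a₁ := by
    intro c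
    obtain ⟨b, hb, e⟩ := hS c a₁ ha₁
    exact ⟨⟨b, hb⟩, hlnk c a₁ b e⟩
  choose β hβ using hb
  have hinj : Function.Injective β := by
    intro c d hcd
    have h1 : (c - d) • π a₁ = 0 := (sub_smul c d (π a₁)).trans (by rw [← hβ, ← hβ, hcd, sub_self])
    by_contra h2
    exact hne ((smul_eq_zero_iff_right (sub_ne_zero.2 h2)).1 h1)
  have hbij := (Nat.bijective_iff_injective_and_card β).2 ⟨hinj, hcard.trans F.cardR⟩
  have C : Cnt.Qm Fd H π (π a₁) (Np Kh) lam := ⟨hpmul, hsurj, hact, hker, fun v => by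
    rw [Submodule.mem_span_singleton]
    constructor
    · rintro ⟨a, ha, rfl⟩
      obtain ⟨c, hc⟩ := hbij.2 ⟨a, ha⟩
      exact ⟨c, by rw [← hβ, hc]⟩
    · rintro ⟨c, rfl⟩
      exact ⟨β c, (β c).2, hβ c⟩, hne⟩
  exact ⟨Q, inferInstance, inferInstance, act, hcomm, π, π a₁, C, fun h hi => two_of_lnk F hS hcard hNl C hlnk hi⟩

end Cfsg.Agent.Omega.NO3S.FullQ

end

end

-- merged: Cfsg.Agent.Mrg.Omega.NO3S.FullQ.FSOf
section

/-!
# FullB: the `F`-structure (`FS` of helper471 #21802)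

`PB S B P V R`, `M : Crd F S P V`, `|R| = |F|`:

* `R_eq` : `R = M.R`;
* `act_k` : every `k ∈ C_G(R)` with `[k, V] ≤ R` acts on `V` by `x ↦ (x₀ + c x₁, x₁)`;
* `exists_mod` : `K ≃ R` (by `ζ`) is an `F`-space such that for `c : F` and `v ∈ V` there is `v' ∈ V` with
  `[k, v'] = c [k, v]` for all these `k`;
* `exists_fs` : the same for `Kh`, `lam` of a realised flag `RD`.
-/

set_option autoImplicit false
set_option linter.unusedSectionVars false

namespace Cfsg.Agent.Omega.NO3S.FullQ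

open Subgroup Cfsg Cfsg.Agent.ZN Cfsg.Agent.Omega.MinPar Cfsg.Agent.Omega.Frame Cfsg.Agent.Omega.FrameNOFF
open Cfsg.Agent.Omega.NO3S.Fld Cfsg.Agent.Omega.NO3S.PT
open Cfsg.Agent.Omega.NatPair (ext2)

universe u

variable {G : Type u} [Group G] [Finite G] {S : Sylow 2 G} {B P R V : Subgroup G}
variable {F : Type*} [Field F] [Finite F]

theorem R_eq (h : PB S B P V R) (M : Crd F (S : Subgroup G) P V) (hc : Nat.card R = Nat.card F) : R = M.R := by
  have key : R ≤ M.R := by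
    intro z hz
    obtain ⟨x, rfl⟩ := (M.mem_iff z).1 (h.ZV hz)
    rw [M.e_mem_R]
    by_contra hx
    have h1 : M.R ≤ R := by
      rintro _ ⟨a, rfl⟩
      obtain ⟨s, hs, hsx⟩ := M.full (a / x 1)
      have h2 : s * M.e x * s⁻¹ * (M.e x)⁻¹ ∈ R :=
        mul_mem ((mem_normalizer_iff.1 (h.SN hs) _).1 hz) (inv_mem hz)
      rw [hsx x] at h2
      have e1 : (![x 0 + a / x 1 * x 1, x 1] : Fin 2 → F) = ![a, 0] + x := by
        apply ext2
        · simp only [Matrix.cons_val_zero, Pi.add_apply]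
          field_simp
          ring
        · simp
      rw [e1, M.e_add, mul_inv_cancel_right] at h2
      exact h2
    have h3 : M.R = R := by
      apply Subgroup.eq_of_le_of_card_ge h1
      rw [M.card_R, hc]
    rw [← h3] at hz
    exact hx (M.e_mem_R.1 hz)
  apply Subgroup.eq_of_le_of_card_ge key
  rw [M.card_R, hc]

/-- the action of `B` -/
theorem act_B (h : PB S B P V R) (M : Crd F (S : Subgroup G) P V) (hR : R = M.R) {b : G} (hb : b ∈ B) :
    ∃ c : F, ∀ x : Fin 2 → F, b * M.e x * b⁻¹ = M.e ![x 0 + c * x 1, x 1] := by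
  obtain ⟨c, hc⟩ := M.exists_root (h.BS hb) (by
    rw [mem_centralizer_iff]
    intro z hz
    exact (h.cen z (hR ▸ hz) b hb).symm)
  exact ⟨c, fun x => by simpa using hc x⟩

/-- the action of `K_R` -/
theorem act_k (h : PB S B P V R) (M : Crd F (S : Subgroup G) P V) (hR : R = M.R) {k v : G}
    (hk : ∀ z ∈ R, k * z = z * k) (hv : v ∈ V) (hvR : v ∉ R) (hkv : k * v * k⁻¹ * v⁻¹ ∈ R) :
    ∃ c : F, ∀ x : Fin 2 → F, k * M.e x * k⁻¹ * (M.e x)⁻¹ = M.e ![c * x 1, 0] := by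
  obtain ⟨s, hs, hc⟩ := h.lin' hk hv hvR hkv
  obtain ⟨c, h1⟩ := act_B h M hR (inv_mem hs)
  refine ⟨c, fun x => ?_⟩
  have h2 : s * k * M.e x * (s * k)⁻¹ = M.e x := by
    rw [mul_inv_eq_iff_eq_mul]; exact (mem_centralizer_iff.1 hc _ (M.e_mem x)).symm
  have h3 : k * M.e x * k⁻¹ = s⁻¹ * M.e x * s⁻¹⁻¹ := by
    calc k * M.e x * k⁻¹ = s⁻¹ * (s * k * M.e x * (s * k)⁻¹) * s := by group
      _ = s⁻¹ * M.e x * s⁻¹⁻¹ := by rw [h2, inv_inv]
  rw [h3, h1, ← M.e_sub]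
  congr 1
  apply ext2 <;> simp

/-- **The `F`-structure on `K ≃ R`.** -/
theorem exists_mod (h : PB S B P V R) (M : Crd F (S : Subgroup G) P V) (hcard : Nat.card R = Nat.card F)
    {K : Type*} [CommGroup K] (ζ : K →* G) (inj : Function.Injective ζ) (ran : ∀ g, g ∈ R ↔ ∃ r, ζ r = g) :
    ∃ _ : Module F (Additive K), Nat.card F = Nat.card K ∧
      ∀ (c : F), ∀ v ∈ V, ∃ v' ∈ V, ∀ k : G, (∀ z ∈ R, k * z = z * k) → (∀ w ∈ V, k * w * k⁻¹ * w⁻¹ ∈ R) →
        ∀ r r' : K, ζ r = k * v * k⁻¹ * v⁻¹ → ζ r' = k * v' * k⁻¹ * v'⁻¹ →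
          Additive.ofMul r' = c • Additive.ofMul r := by
  have hR := R_eq h M hcard
  have hmem : ∀ a : F, ∃ r : K, ζ r = M.e ![a, 0] := fun a => (ran _).1 (by
    rw [hR]
    exact ⟨a, rfl⟩)
  choose θ hθ using hmem
  have hadd : ∀ a b : F, θ (a + b) = θ a * θ b := by
    intro a b
    apply inj
    rw [map_mul, hθ, hθ, hθ, ← M.e_add]
    congr 1
    apply ext2 <;> simp
  have hinj : Function.Injective θ := by
    intro a b hab
    have h1 := hθ a
    rw [hab, hθ b] at h1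
    have h2 := congrFun (M.e_inj h1) 0
    simpa using h2.symm
  have hsurj : Function.Surjective θ := by
    intro r
    have h1 : ζ r ∈ R := (ran _).2 ⟨r, rfl⟩
    rw [hR] at h1
    obtain ⟨a, ha⟩ := h1
    exact ⟨a, inj (by rw [hθ, ha])⟩
  let E : Additive K ≃+ F :=
    (AddEquiv.ofBijective (AddMonoidHom.mk' (fun a : F => Additive.ofMul (θ a))
      (fun a b => by rw [hadd, ofMul_mul])) ⟨fun a b hab => hinj (Additive.ofMul.injective hab), fun r => by
        obtain ⟨a, ha⟩ := hsurj r.toMul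
        exact ⟨a, by show Additive.ofMul (θ a) = r; rw [ha]; rfl⟩⟩).symm
  have hE : ∀ a, E.symm a = Additive.ofMul (θ a) := fun a => rfl
  let I : Module F (Additive K) := E.module F
  refine ⟨I, ?_, fun c v hv => ?_⟩
  · exact Nat.card_congr (E.symm.toEquiv.trans Additive.toMul)
  · obtain ⟨x, rfl⟩ := (M.mem_iff v).1 hv
    refine ⟨M.e ![0, c * x 1], M.e_mem _, fun k hk hkV r r' hr hr' => ?_⟩
    obtain ⟨v₀, hv₀, hv₀R⟩ : ∃ v₀ ∈ V, v₀ ∉ R := h.exists_out
    obtain ⟨d, hd⟩ := act_k h M hR hk hv₀ hv₀R (hkV _ hv₀)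
    rw [hd] at hr hr'
    have h1 : r = θ (d * x 1) := inj (by rw [hr, hθ])
    have h2 : r' = θ (c * (d * x 1)) := inj (by
      rw [hr', hθ]
      congr 1
      apply ext2
      · simp only [Matrix.cons_val_zero, Matrix.cons_val_one]
        ring
      · simp)
    rw [h1, h2]
    show E.symm (c * (d * x 1)) = c • E.symm (d * x 1)
    rw [show c • E.symm (d * x 1) = E.symm (c • E (E.symm (d * x 1))) from rfl, AddEquiv.apply_symm_apply]
    rfl

section rd

open Cfsg.Agent.Omega.NO3S.FarQ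

variable {X L : Type*} [MulAction G X] [MulAction G L]
variable {inc : X → L → Prop} {Rf W : X → Subgroup G} {Vf : L → Subgroup G}
variable {H M K : Type*} [Group H] [CommGroup M] [MulDistribMulAction H M] [CommGroup K]
variable {p : X} {l : L} {Sy : Subgroup G} {ρ : G → H} {π : G → M} {ζ : K →* G} {T : Subgroup H}
  {lam U : Subgroup M} {Kh : Subgroup (M →* K)}

/-- **`FS` at a realised flag `(p, l)`, `V_l = V`, `R_p = R`.** -/
theorem exists_fs (h : PB S B P V R) (C : Crd F (S : Subgroup G) P V) (hcard : Nat.card R = Nat.card F)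
    (E : RD inc Rf W Vf p l Sy ρ π ζ T lam U Kh) (hV : Vf l = V) (hR : Rf p = R) (hVW : V ≤ W p) :
    ∃ _ : Module F (Additive K), Nat.card F = Nat.card K ∧
      ∀ (c : F), ∀ a ∈ lam, ∃ b ∈ lam, ∀ φ ∈ Kh, Additive.ofMul (φ b) = c • Additive.ofMul (φ a) := by
  obtain ⟨I, h1, h2⟩ := exists_mod h C hcard ζ E.inj (fun g => by rw [← hR]; exact E.ran g)
  refine ⟨I, h1, fun c a ha => ?_⟩
  obtain ⟨v, hv, rfl⟩ := (E.mlam a).1 ha
  rw [hV] at hv
  obtain ⟨v', hv', h3⟩ := h2 c v hv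
  refine ⟨π v', (E.mlam _).2 ⟨v', hV ▸ hv', rfl⟩, fun φ hφ => ?_⟩
  obtain ⟨k, hk, hkw⟩ := E.kh φ hφ
  refine h3 k (fun z hz => (mem_centralizer_iff.1 hk z (hR ▸ hz)).symm) (fun w hw => ?_) _ _
    (hkw v (hVW hv)).symm (hkw v' (hVW hv')).symm
  rw [hkw w (hVW hw), ← hR, E.ran]
  exact ⟨_, rfl⟩

end rd

end Cfsg.Agent.Omega.NO3S.FullQ

end

-- merged: Cfsg.Agent.Mrg.Omega.NO3S.WQ.TSix
section

/-!
# FullB, section 7 of #21459: (T6) over the `(R, B)`-frame

* `t6_base`, `t6` : `PB S B P V Z`, `OmB B V`: an involution (or `1`) of the centre of `C_G(L)`, `L` a line, lies in `L`;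
* `false_of_pb` : the end of section 7 over `PB`, for every realised frame `Frm`;
* with `W0` (973) take `hE := W0.ex`.
-/

set_option autoImplicit false
set_option linter.unusedSectionVars false
set_option linter.unusedVariables false

namespace Cfsg.Agent.Omega.NO3S.WQ

open Subgroup Cfsg Cfsg.Agent.ZN Cfsg.Agent.MinSimple.VModule Cfsg.Agent.Omega.NOThree.Pts
open Cfsg.Agent.Omega.NO3S.FarQ Cfsg.Agent.Omega.NO3S.FarQ.Glue Cfsg.Agent.Omega.NO3S.FarQ.Free
open Cfsg.Agent.Omega.NO3S.FarQ.Asm (ExP)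
open Cfsg.Agent.Omega.NO3S.PT
open Cfsg.Agent.Omega.NO3S.PtGeom (Pt inc)
open scoped Pointwise

section tsix

variable {G : Type*} [Group G] [Finite G] {S : Sylow 2 G} {B P V Z : Subgroup G} (h : PB S B P V Z)
include h

theorem t6_base (hO : OmB B V) {u : G} (hu : u ∈ centralizer (V : Set G)) (huu : u * u = 1)
    (hc : ∀ c ∈ centralizer (V : Set G), c * u = u * c) : u ∈ V := by
  have : Fact (Nat.Prime 2) := ⟨Nat.prime_two⟩
  let A : Subgroup G :=
    { carrier := {u | u ∈ centralizer (V : Set G) ∧ u * u = 1 ∧ ∀ c ∈ centralizer (V : Set G), c * u = u * c}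
      one_mem' := ⟨one_mem _, one_mul _, fun c _ => by rw [mul_one, one_mul]⟩
      mul_mem' := by
        rintro a b ⟨ha, ha2, hac⟩ ⟨hb, hb2, hbc⟩
        refine ⟨mul_mem ha hb, ?_, fun c hc => ?_⟩
        · have h1 := hac b hb
          calc a * b * (a * b) = a * (b * a) * b := by group
            _ = a * (a * b) * b := by rw [h1]
            _ = (a * a) * (b * b) := by group
            _ = 1 := by rw [ha2, hb2, one_mul]
        · rw [← mul_assoc, hac c hc, mul_assoc, hbc c hc, mul_assoc]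
      inv_mem' := by
        rintro a ⟨ha, ha2, hac⟩
        have h1 : a⁻¹ = a := inv_eq_of_mul_eq_one_left ha2
        rw [Set.mem_ofPred_eq, h1]
        exact ⟨ha, ha2, hac⟩ }
  have hA2 : IsPGroup 2 A := fun a => ⟨1, Subtype.ext (by
    rw [pow_one, pow_two]
    exact a.2.2.1)⟩
  have hSV : (S : Subgroup G) ≤ normalizer (V : Set G) := h.SP.trans h.PN
  have hcn : ∀ g ∈ normalizer (V : Set G), ∀ c ∈ centralizer (V : Set G), g * c * g⁻¹ ∈ centralizer (V : Set G) := by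
    intro g hg c hc'
    have h1 : cj g (centralizer (V : Set G)) = centralizer (V : Set G) := by
      rw [cj_centralizer, cj_eq_iff.2 hg]
    rw [← h1]
    exact conj_mem_cj hc'
  have hSA : (S : Subgroup G) ≤ normalizer (A : Set G) := by
    refine mem_normalizer_of_conj fun g hg a ha => ?_
    obtain ⟨ha1, ha2, hac⟩ := ha
    refine ⟨hcn g (hSV hg) a ha1, ?_, fun c hc' => ?_⟩
    · calc g * a * g⁻¹ * (g * a * g⁻¹) = g * (a * a) * g⁻¹ := by group
        _ = 1 := by rw [ha2]; group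
    · have h1 := hac _ (by
        have := hcn g⁻¹ (inv_mem (hSV hg)) c hc'
        exact this)
      calc c * (g * a * g⁻¹) = g * (g⁻¹ * c * g⁻¹⁻¹ * a) * g⁻¹ := by group
        _ = g * (a * (g⁻¹ * c * g⁻¹⁻¹)) * g⁻¹ := by rw [h1]
        _ = g * a * g⁻¹ * c := by group
  have h1 : IsPGroup 2 ((S : Subgroup G) ⊔ A : Subgroup G) := S.isPGroup'.to_sup_of_normal_right' hA2 hSA
  have h2 := S.is_maximal' h1 le_sup_left
  have h3 : u ∈ (S : Subgroup G) := by
    rw [← h2]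
    exact (le_sup_right : A ≤ _) ⟨hu, huu, hc⟩
  have h4 : u ∈ B := by
    rw [h.B_eq]
    exact ⟨h3, centralizer_le h.ZV hu⟩
  exact hO u h4 hu huu fun s _ hs => hc s hs

theorem t6 (hO : OmB B V) (l : Pt V) (u : G) (hu : u ∈ centralizer (l.sg : Set G)) (huu : u * u = 1)
    (hc : ∀ c ∈ centralizer (l.sg : Set G), c * u = u * c) : u ∈ l.sg := by
  obtain ⟨g, hg⟩ := l.exists_smul
  have hl : l.sg = cj g V := by rw [hg]; rfl
  rw [hl] at hu hc ⊢
  rw [mem_cj]
  have hcc : ∀ {a : G}, a ∈ centralizer ((cj g V : Subgroup G) : Set G) ↔ g⁻¹ * a * g ∈ centralizer (V : Set G) := by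
    intro a
    rw [← cj_centralizer, mem_cj]
  refine t6_base h hO (hcc.1 hu) ?_ fun c hc' => ?_
  · calc g⁻¹ * u * g * (g⁻¹ * u * g) = g⁻¹ * (u * u) * g := by group
      _ = 1 := by rw [huu]; group
  · have h1 := hc (g * c * g⁻¹) (hcc.2 (by
      have e : g⁻¹ * (g * c * g⁻¹) * g = c := by group
      rwa [e]))
    calc c * (g⁻¹ * u * g) = g⁻¹ * (g * c * g⁻¹ * u) * g := by group
      _ = g⁻¹ * (u * (g * c * g⁻¹)) * g := by rw [h1]
      _ = g⁻¹ * u * g * c := by group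

variable {H M K : Type*} [Group H] [CommGroup M] [MulDistribMulAction H M] [CommGroup K]
variable {p : Pt Z} {l : Pt V} {Sy : Subgroup G} {ρ : G → H} {π : G → M} {ζ : K →* G} {T : Subgroup H}
  {lam U : Subgroup M} {Kh : Subgroup (M →* K)} {n : ℕ}

/-- **Section 7 over the `(R, B)`-frame**, `n ≥ 2` -/
theorem false_of_pb (hf : ¬ kx V Z ≤ centralizer (V : Set G)) (hO : OmB B V)
    (F : Frm (inc (Z := Z) (V := V)) (fun x => x.sg) (fun x => ws V x.sg) (fun l => l.sg) p l Sy ρ π ζ T lam U Kh)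
    (hn : 2 ≤ n)
    (hE : ∀ a b : Pt Z, Crit (inc (Z := Z) (V := V)) (fun x => ws V x.sg) n a b →
      ExP (inc (Z := Z) (V := V)) (fun x => x.sg) (fun x => ws V x.sg) (fun l => l.sg) n a b)
    {a b : Pt Z} (hc : Crit (inc (Z := Z) (V := V)) (fun x => ws V x.sg) n a b) {f : G}
    (hfb : f ∈ NN (fun x : Pt Z => x.sg) (fun x => ws V x.sg) b)
    (hC : ∀ w ∈ ws V a.sg, f * w * f⁻¹ * w⁻¹ ∈ NN (fun x : Pt Z => x.sg) (fun x => ws V x.sg) a)
    (hm : ∃ w ∈ ws V a.sg, f * w ≠ w * f) : False :=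
  false_of_frm (PB.Geom.geom h hf hO) F hn (fun _ _ e => Pt.ext e) (t6 h hO) hE hc hfb hC hm

end tsix

end Cfsg.Agent.Omega.NO3S.WQ

end

-- merged: Cfsg.Agent.Mrg.Omega.NO3S.FarQ.Free.End
section

/-!
# FarQ (`q ≥ 4`, `n ≥ 3`), K-free: the end

* `no_gg` : over `Frm` there is no goal pair;
* `false_of_full` : over `Frm`, with `FullAt` there is no critical pair at distance `n ≥ 3`;
* `exists_frm` : the instance of `Frm` over the `(R, B)`-frame `PB`, from (NO) only;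
* `farBF` : **the socket `FarBF K`** from (ML).
-/

set_option autoImplicit false
set_option linter.unusedSectionVars false

namespace Cfsg.Agent.Omega.NO3S.FarQ.Free

open Subgroup Cfsg Cfsg.Agent.ZN Cfsg.Agent.MinSimple.VModule Cfsg.Agent.Omega.NOThree.Pts
open Cfsg.Agent.Omega.NO3S.FarQ (KNO Img kno_of_mlk)
open Cfsg.Agent.Omega.NO3S.FarQ.Glue

section abs

variable {G X L : Type*} [Group G] [MulAction G X] [MulAction G L]
variable {inc : X → L → Prop} {R W : X → Subgroup G} {V : L → Subgroup G} {s t k n : ℕ}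
variable {H M K : Type*} [Group H] [CommGroup M] [MulDistribMulAction H M] [CommGroup K]
variable {p : X} {l : L} {Sy : Subgroup G} {ρ : G → H} {π : G → M} {ζ : K →* G} {T : Subgroup H}
  {lam U : Subgroup M} {Kh : Subgroup (M →* K)}

/-- **Over `Frm` there is no goal pair.** -/
theorem no_gg [Finite G] (D : Geom inc R W V s t) (F : Frm inc R W V p l Sy ρ π ζ T lam U Kh) (hk : 2 ≤ k)
    {y : ℕ → X} (h : GG inc R W k y) : False :=
  no_goal D (F.line_all D) (F.noOver D) hk (hD D F hk) (hT D F hk) (hs D F hk) h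

/-- **FarQ, K-free**: no critical pair at distance `n ≥ 3`. -/
theorem false_of_full [Finite G] (D : Geom inc R W V s t) (F : Frm inc R W V p l Sy ρ π ζ T lam U Kh)
    (hF : FullAt R W p) (hn : 3 ≤ n) {a b : X} (hc : Crit inc W n a b) : False := by
  obtain ⟨k, y, hk, hy⟩ := exists_gg D F hF hn hc
  exact no_gg D F (by omega) hy

end abs

universe u

open Cfsg.Agent.Omega.NO3S.PT Cfsg.Agent.Omega.NO3S.PtGeom
open Cfsg.Agent.Omega.ML.Final (MLK)
open Cfsg.Agent.Omega.MinPar Cfsg.Agent.Omega.Frame Cfsg.Agent.Omega.FrameNOFF Cfsg.Agent.Omega.NatPair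

variable {G : Type u} [Group G] [Finite G] {S : Sylow 2 G} {B P V Z : Subgroup G}

/-- **(F1) from `FullK`.** -/
theorem hf_of_full (h : PB S B P V Z) (hF : FullK V Z) : ¬ kx V Z ≤ centralizer (V : Set G) := by
  intro hcon
  obtain ⟨w, hw, hwZ⟩ := h.exists_out
  obtain ⟨z, hz, hz1⟩ := Z.bot_or_exists_ne_one.resolve_left h.Zne
  obtain ⟨k, hk, e⟩ := hF w (h.V_le_ws h.ZV hw) hwZ z hz
  apply hz1
  rw [← e, ← mem_centralizer_iff.1 (hcon hk) w hw, mul_inv_cancel_right, mul_inv_cancel]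

/-- **The instance of `Frm`** over the `(R, B)`-frame, from (F1), (T6) and (NO). -/
theorem exists_frm (h : PB S B P V Z) (hf : ¬ kx V Z ≤ centralizer (V : Set G)) (hO : OmB B V)
    (hq : 4 ≤ Nat.card Z) (hNO : KNO.{u} (fun H _ => Img (centralizer (Z : Set G)) H)) :
    ∃ (H M K : Type u) (_ : Group H) (_ : CommGroup M) (_ : MulDistribMulAction H M) (_ : CommGroup K)
      (ρ : G → H) (π : G → M) (ζ : K →* G) (T : Subgroup H) (lam U : Subgroup M) (Kh : Subgroup (M →* K)),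
      Frm (inc (Z := Z) (V := V)) (fun x => x.sg) (fun x => ws V x.sg) (fun l => l.sg) (Pt.base Z) (Pt.base V)
        B ρ π ζ T lam U Kh := by
  obtain ⟨H, M, K, iH, iM, iA, iK, ρ, π, ζ, T, lam, U, Kh, F⟩ := FarB.exists_rd h hf hO hq
  have hI : Img (centralizer (Z : Set G)) H :=
    ⟨MonoidHom.mk' (fun a => ρ a) (fun a b => F.re.mul a a.2 b b.2), fun x => by
      obtain ⟨g, hg, rfl⟩ := F.re.surj x
      exact ⟨⟨g, hg⟩, rfl⟩⟩
  exact ⟨H, M, K, iH, iM, iA, iK, ρ, π, ζ, T, lam, U, Kh,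
    { toRD := F, fl := RealB2.fl h, cl := RealB2.cl h, no := hNO H M T lam hI F.flag.toK, f2 := RealB2.f2 h hf hO }⟩

/-- `FullK` at the base point is `FullAt` -/
theorem fullAt_of (hF : FullK V Z) :
    FullAt (fun x : Pt Z => x.sg) (fun x : Pt Z => ws V x.sg) (Pt.base Z) := by
  intro w hw hwZ z hz
  obtain ⟨k, hk, e⟩ := hF w hw hwZ z hz
  exact ⟨k, ⟨(mem_kx.1 hk).1, (mem_kx.1 hk).2⟩, e⟩

/-- **Over the `(R, B)`-frame with `FullK` there is no critical pair at distance `n ≥ 3`.** -/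
theorem far_of_full (h : PB S B P V Z) (hO : OmB B V) (hq : 4 ≤ Nat.card Z) (hF : FullK V Z)
    (hNO : KNO.{u} (fun H _ => Img (centralizer (Z : Set G)) H)) {n : ℕ} (hn : 3 ≤ n) {x y : Pt Z}
    (hc : Crit (inc (Z := Z) (V := V)) (fun x : Pt Z => ws V x.sg) n x y) : False := by
  have hf := hf_of_full h hF
  obtain ⟨H, M, K, iH, iM, iA, iK, ρ, π, ζ, T, lam, U, Kh, F⟩ := exists_frm h hf hO hq hNO
  exact false_of_full (PB.Geom.geom h hf hO) F (fullAt_of hF) hn hc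

/-- (NO) for `C_G(R)` -/
theorem kno {R : Subgroup G} (h : Hyp S P) (hR : R ≠ ⊥) (hML : MLK.{u, u}) :
    KNO.{u} (fun H _ => Img (centralizer (R : Set G)) H) :=
  (kno_of_mlk hML).mono fun H _ hI => FarQ.kgroup_of_img h.ctx.kproper (FarB.centralizer_ne_top h hR) H hI

/-- **The socket `FarBF`** from (ML). -/
theorem farBF {K : Cls.{u}} (hML : MLK.{u, u}) : NO3S.FarBF K := by
  intro G _ _ _ S P h F _ _ _ hF _ B R hB hFull n y hn hc
  exact (far_of_full hB.pb hB.om (hB.card.symm ▸ hF) hFull (kno h.toHyp hB.pb.Zne hML) hn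
    (PB.Geom.crit hB.pb hB.pb.V_eq hc)).elim

end Cfsg.Agent.Omega.NO3S.FarQ.Free

end

-- merged: Cfsg.Agent.Mrg.Omega.NO3S.FullQ.PlugF
section

/-!
# FullB (`q ≥ 4`): the plug, abstract part and `n ≥ 3` (helper973)

* `lines_of_classP` : class P for one critical pair gives `[W_a, W_b] ≤ V_l` (`l` the first line) for all critical pairs;
* `false_of_bd` : **every `n ≥ 2`**: exactness for all critical pairs and the movers without (D) (`Bd`) are contradictory,
  if `[W_a, W_b] ≤ V_l` for all critical pairs is;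
* `far_end` : `n ≥ 3`: `[W_a, W_b] ≤ V_l` for all critical pairs is contradictory; `bd_of_w0`;
* `far_false` : over the `(R, B)`-frame with (F1) there is no critical pair at distance `n ≥ 3`.
-/

set_option autoImplicit false
set_option linter.unusedSectionVars false

namespace Cfsg.Agent.Omega.NO3S.FullQ

open Subgroup Cfsg Cfsg.Agent.ZN Cfsg.Agent.Omega.NOThree.Pts Cfsg.Agent.Omega.NO3S.PT
open Cfsg.Agent.Omega.NO3S.FarQ Cfsg.Agent.Omega.NO3S.FarQ.Glue Cfsg.Agent.Omega.NO3S.FarQ.Free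
open Cfsg.Agent.Omega.NO3S.FarQ.Asm (ExP)
open Cfsg.Agent.Omega.ML.Final (MLK)
open Cfsg.Agent.Omega.NO3S.PtGeom (Pt inc)

universe u

section abs

variable {G X L : Type*} [Group G] [MulAction G X] [MulAction G L]
variable {inc : X → L → Prop} {R W : X → Subgroup G} {V : L → Subgroup G} {s t n : ℕ}
variable {H M K : Type u} [Group H] [CommGroup M] [MulDistribMulAction H M] [CommGroup K]
variable {p q r : X} {l : L} {Sy : Subgroup G} {ρ : G → H} {π : G → M} {ζ : K →* G} {T : Subgroup H}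
  {lam U : Subgroup M} {Kh : Subgroup (M →* K)}
variable {Fd : Type*} [Field Fd] [Finite Fd] [CharP Fd 2] [Module Fd (Additive K)]

/-- `[W_a, W_b] ≤ V_l` for all critical pairs, `l` the first line -/
def Lns (inc : X → L → Prop) (W : X → Subgroup G) (V : L → Subgroup G) (n : ℕ) : Prop :=
  ∀ (a b c : X) (m : L), Crit inc W n a b → inc a m → inc c m → Walk inc (n - 1) c b →
    ∀ x ∈ W a, ∀ y ∈ W b, x * y * x⁻¹ * y⁻¹ ∈ V m

/-- **Class P for one critical pair.** -/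
theorem lines_of_classP [Finite G] (hML : MLK.{u, u}) (hK : IsKGroup H) (D : Geom inc R W V s t)
    (F : Frm inc R W V p l Sy ρ π ζ T lam U Kh) (hn : 1 ≤ n) (hE : ∀ a b, Crit inc W n a b → ExP inc R W V n a b)
    (hB : Bd inc R W V n) (hS : FSp Fd lam Kh) (hcard : Nat.card Fd = Nat.card K)
    (hpq : Crit inc W n p q) (hrl : inc r l) (hwk : Walk inc (n - 1) r q) {A₁ : Subgroup H}
    (hA₁ : A₁ ≤ im F.re (W q) (W_le_cent D hpq hn)) (h1 : ClassP lam Kh A₁) : Lns inc W V n := by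
  intro a b c m hc ham hcm hwk'
  have hfs : QF.FS Fd lam Kh := ⟨hcard, hS⟩
  have := F.flag.finM
  have hne : ¬ lam ≤ Np Kh := by
    intro hle
    have h2 : 1 < Nat.card lam := by have := F.flag.four; omega
    have h3 := (Finite.one_lt_card_iff_nontrivial (α := lam)).1 h2
    obtain ⟨x, hx⟩ := exists_ne (1 : lam)
    exact hx (Subtype.ext (F.flag.np_lam hML hK h1 x.2 (hle x.2)))
  obtain ⟨Q, i1, i2, i3, i4, κ, a0, Qd, hfull, hsm⟩ := QF.exists_qm F.flag hfs hne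
  have hlin : ∀ φ ∈ Kh, ∀ c : Fd, ∀ a ∈ lam, ∀ b ∈ lam, κ b = c • κ a →
      Additive.ofMul (φ b) = c • Additive.ofMul (φ a) := by
    intro φ hφ c a ha b hb e
    obtain ⟨b', hb', h4⟩ := hS c a ha
    have h5 : κ b = κ b' := by rw [e, hsm c a b' h4]
    have h6 : b * b'⁻¹ = 1 := F.flag.np_lam hML hK h1 (mul_mem hb (inv_mem hb')) (Qd.mul_inv_mem h5)
    rw [mul_inv_eq_one.1 h6]
    exact h4 φ hφ
  exact lines_of_pa D F hn hE hB Qd (fun h hi => two_of Qd F.flag.kh hfull hlin hi) hpq hrl hwk hA₁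
    (h1.pa F.flag hML hK Qd) hc ham hcm hwk'

/-- **The abstract end**, every `n ≥ 2`. -/
theorem false_of_bd [Finite G] (hML : MLK.{u, u}) (hK : IsKGroup H) (D : Geom inc R W V s t)
    (F : Frm inc R W V p l Sy ρ π ζ T lam U Kh) (hn : 2 ≤ n) (hV : Function.Injective V)
    (t6 : ∀ l u, u ∈ centralizer (V l : Set G) → u * u = 1 → (∀ c ∈ centralizer (V l : Set G), c * u = u * c) →
      u ∈ V l)
    (hE : ∀ a b, Crit inc W n a b → ExP inc R W V n a b) (hB : Bd inc R W V n) (hS : FSp Fd lam Kh)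
    (hcard : Nat.card Fd = Nat.card K) (hend : ¬ Lns inc W V n) {a b : X} (hc : Crit inc W n a b) : False :=
  false_of_noP hML hK D F hn hV t6 hE
    (fun _ _ _ _ hc _ hcm hwk _ _ _ _ F₁ _ hA₁ h1 =>
      hend (lines_of_classP hML hK D F₁ (by omega) hE hB hS hcard hc hcm hwk hA₁ h1)) hc

/-- **`n ≥ 3`: the lines are impossible.** -/
theorem far_end (D : Geom inc R W V s t) (hn : 3 ≤ n) (hl : Lns inc W V n) {a b : X} (hc : Crit inc W n a b) :
    False := by
  obtain ⟨r₁, l₁, hr₁, hrl₁, hal₁⟩ := hc.symm.last (by omega)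
  obtain ⟨r₂, l₂, hr₂, hrl₂, hbl₂⟩ := hc.last (by omega)
  apply hc.ne
  intro x hx y hy
  by_contra hne
  have h1 : x * y * x⁻¹ * y⁻¹ ∈ V l₁ := hl a b r₁ l₁ hc hal₁ hrl₁ hr₁.symm x hx y hy
  have h2 : x * y * x⁻¹ * y⁻¹ ∈ V l₂ := by
    have h3 := inv_mem (hl b a r₂ l₂ hc.symm hbl₂ hrl₂ hr₂.symm y hy x hx)
    have e : (y * x * y⁻¹ * x⁻¹)⁻¹ = x * y * x⁻¹ * y⁻¹ := by group
    rwa [e] at h3
  have h0 : x * y * x⁻¹ * y⁻¹ ≠ 1 := fun e => hne (by rwa [mul_inv_eq_one, mul_inv_eq_iff_eq_mul] at e)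
  obtain ⟨z₁, hz₁, h3⟩ := D.cover l₁ _ h1
  obtain ⟨z₂, hz₂, h4⟩ := D.cover l₂ _ h2
  obtain rfl := D.ti z₁ z₂ _ h3 h4 h0
  exact hc.ne (hc.min 2 (by omega) _ _ ((Walk.one hal₁ hz₁).trans (Walk.one hz₂ hbl₂)))

/-- the movers in the world W0 -/
theorem bd_of_w0 [Finite G] (h : W0 inc R W V n) (D : Geom inc R W V s t)
    (F : Frm inc R W V p l Sy ρ π ζ T lam U Kh) (hn : 1 ≤ n) : Bd inc R W V n := by
  intro a b r m hc ham hrm hwk
  right
  intro f hf hf1
  obtain ⟨Sy₁, ρ₁, π₁, ζ₁, F₁⟩ := F.at_flag D ham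
  have hρ : ρ₁ f ≠ 1 := by
    intro h1
    apply hf1
    intro w hw
    exact (h.ex a b hc).good f hf ((F₁.re.ker f (W_le_cent D hc hn hf)).1 h1) w hw
  obtain ⟨k, hk, ho, hi, -, -, hmv, -⟩ := exists_mover_crit D F₁.toRD hc hn hrm hwk hf hρ
  have hkp : k • a = a := Four.fix_p D hk
  exact ⟨k,
    { crit := hc, pos := hn, pl := F₁.pl, rl := hrm, wk := hwk, hf := hf
      hc := fun z hz => (mem_centralizer_iff.1 hk z hz).symm, odd := ho, inv := hi, mv := hmv
      nd := fun h1 => h.nd a b hc ⟨k • r, k • m, f, D.inc_smul k _ _ hrm, by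
        have := D.inc_smul k _ _ F₁.pl
        rwa [hkp] at this, hf, hmv, h1⟩ }⟩

end abs

variable {G : Type u} [Group G] [Finite G] {S : Sylow 2 G} {B P V Z : Subgroup G}
variable {Fd : Type} [Field Fd] [Finite Fd] [CharP Fd 2]

/-- `H` is a K-group -/
theorem kg_of {H M K : Type u} [Group H] [CommGroup M] [MulDistribMulAction H M] [CommGroup K] {ρ : G → H}
    {π : G → M} {ζ : K →* G} {T : Subgroup H} {lam U : Subgroup M} {Kh : Subgroup (M →* K)}
    (F : Frm (inc (Z := Z) (V := V)) (fun x => x.sg) (fun x => ws V x.sg) (fun l => l.sg) (Pt.base Z) (Pt.base V)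
        B ρ π ζ T lam U Kh) (hG : IsKProper G) (hC : centralizer (Z : Set G) ≠ ⊤) : IsKGroup H :=
  kgroup_of_img hG hC H ⟨MonoidHom.mk' (fun a => ρ a) (fun a b => F.re.mul a a.2 b b.2), fun x => by
      obtain ⟨g, hg, rfl⟩ := F.re.surj x
      exact ⟨⟨g, hg⟩, rfl⟩⟩

/-- **`n ≥ 3`**: over the `(R, B)`-frame with (F1) there is no critical pair at distance `n ≥ 3`. -/
theorem far_false (h : PB S B P V Z) (hf : ¬ kx V Z ≤ centralizer (V : Set G)) (hO : OmB B V) (hq : 4 ≤ Nat.card Z)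
    (hML : MLK.{u, u}) (hG : IsKProper G) (hC : centralizer (Z : Set G) ≠ ⊤)
    (hNO : KNO.{u} (fun H _ => Img (centralizer (Z : Set G)) H))
    (C : Fld.Crd Fd (S : Subgroup G) P V) (hcard : Nat.card Z = Nat.card Fd) {n : ℕ} (hn : 3 ≤ n) {x y : Pt Z}
    (hc : Crit (inc (Z := Z) (V := V)) (fun x : Pt Z => ws V x.sg) n x y) : False := by
  obtain ⟨H, M, K, iH, iM, iA, iK, ρ, π, ζ, T, lam, U, Kh, F⟩ := exists_frm h hf hO hq hNO
  have D := PB.Geom.geom h hf hO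
  obtain ⟨iF, hc1, hS⟩ := exists_fs h C hcard F.toRD rfl rfl (h.V_le_ws h.ZV)
  have hw := w0 D F hn
  exact false_of_bd hML (kg_of F hG hC) D F (by omega) (fun _ _ e => Pt.ext e) (WQ.t6 h hO) hw.ex
    (bd_of_w0 hw D F (by omega)) hS hc1 (fun hl => far_end D hn hl hc) hc

end Cfsg.Agent.Omega.NO3S.FullQ

end

-- merged: Cfsg.Agent.Mrg.Omega.NO3S.MidB.No.Main
section

/-!
# NO-3S, natural lines, critical distance 2: `Mid` + (NO) gives `TypN` (bb OMEGA #19438, #20170): the assembly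

* `Mid.typN_of_innN` : `Mid`, (NO), `FullK` and THEOREM INN give TYPE N;
* `Mid.typN_of_no` : `Mid`, `q ≥ 4`, (NO) and `FullK` give TYPE N.
-/

set_option autoImplicit false

namespace Cfsg.Agent.Omega.NO3S.MidB

open Subgroup Cfsg.Agent.Omega.NO3S.PT Cfsg.Agent.Omega.NoFF.Basic Cfsg.Agent.ZN Cfsg.Agent.Omega.NO3S.MidB.No
open Cfsg.Agent.Omega.NO3S.MidQ (Adj Com Cr UU TypN)

variable {G : Type*} [Group G] [Finite G] {S : Sylow 2 G} {P V Z : Subgroup G}

/-- **`Mid` + (NO) + `FullK` + INN gives TYPE N** -/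
theorem Mid.typN_of_innN (h : Mid S P V Z) (hNO : NOg V Z) (hF : FullK V Z) (hI : InnN V Z) : TypN V Z := by
  by_contra hcon
  have hex : ∃ A R B, Cr V Z A R B ∧ ¬ ∀ a ∈ ws V A, ∀ b ∈ ws V B, a * b * a⁻¹ * b⁻¹ ∈ R := by
    by_contra hn
    push Not at hn
    exact hcon fun A R B hc a ha b hb => hn A R B hc a ha b hb
  obtain ⟨A, R, B, hc, hne⟩ := hex
  obtain ⟨f, hf, ⟨w, hw, hfw⟩, ⟨k, hk⟩, hD⟩ := h.exists_DD hF hNO hc
    (fun f hf ⟨w, hw, hfw⟩ => exists_mv h hc hf fun hcom => hfw (hcom w hw)) hne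
  have hk1 : k ^ 1 ≠ 1 := by
    rw [pow_one]
    exact hk.ne
  obtain ⟨C, hcC, hflat, w, hw, u, hu, hwu, hb, ha⟩ := Mv.flat_of h hk hk1 (hD k hk) hNO hI hne
  exact hcon (h.typN_of_flat' hcC hflat hw hu hwu hb ha)

/-- **`Mid` + `q ≥ 4` + (NO) + `FullK` gives TYPE N** -/
theorem Mid.typN_of_no (h : Mid S P V Z) (hq : 4 ≤ Nat.card Z) (hNO : NOg V Z) (hF : FullK V Z) : TypN V Z :=
  h.typN_of_innN hNO hF (innN_of h hq hNO)

end Cfsg.Agent.Omega.NO3S.MidB

end

-- merged: Cfsg.Agent.Mrg.Omega.NO3S.MidB.Front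
section

/-!
# NO-3S, natural lines, critical distance 2, the `(R, B)`-frame: `Mid` from the hypotheses of the socket `MidB`

* `mid_of_crit` : `PB`, (F1), (T6) and a critical pair at distance 2 of `NOThree.Pts` give `Mid` and `Cr`;
* `front` : from `Hyp S P`, `FrB F S P B R`, (F1) and `Crit R (N_G(R)) {P} 2 1 y`.
-/

set_option autoImplicit false
set_option linter.unusedSectionVars false

namespace Cfsg.Agent.Omega.NO3S.MidB

open Subgroup Cfsg Cfsg.Agent.Omega.NO3S.PT Cfsg.Agent.Omega.NoFF.Basic Cfsg.Agent.ZN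
open Cfsg.Agent.Omega.NO3S.MidQ (Adj Com Cr)
open Cfsg.Agent.Omega.NOThree.Pts (Walk)
open Cfsg.Agent.Omega.NO3S.PtGeom (Pt inc)
open scoped Pointwise

section

variable {G : Type*} [Group G] [Finite G] {S : Sylow 2 G} {B P V Z : Subgroup G}

theorem mid_of_crit (h : PB S B P V Z) (hf : ¬ kx V Z ≤ centralizer (V : Set G)) (hO : OmB B V) {x y : Pt Z}
    (hc : NOThree.Pts.Crit (inc (Z := Z) (V := V)) (fun x : Pt Z => ws V x.sg) 2 x y) :
    Mid S P V Z ∧ ∃ A R C, Cr V Z A R C := by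
  obtain rfl := h.B_eq
  have hcom : ∀ X Y, Adj V Z X Y → Com V X Y := by
    rintro X Y ⟨hX, hY, hne, M, hM, hXM, hYM⟩ a ha
    rw [mem_centralizer_iff]
    intro b hb
    have h1 : Walk (inc (Z := Z) (V := V)) 1 (Pt.mk hX) (Pt.mk hY) :=
      (Walk.zero _).step (l := Pt.mk hM) hXM hYM
    exact (hc.min 1 (by norm_num) _ _ h1 a ha b hb).symm
  refine ⟨⟨h, hf, hO, hcom⟩, ?_⟩
  have h0 := hc.walk
  cases h0 with
  | @step k x r y l2 h1 hr hy =>
    cases h1 with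
    | @step k' x' x0 r' l1 h2 hx hr' =>
      cases h2 with
      | zero =>
        have hxr : x.sg ≠ r.sg := by
          intro e
          have e' : x = r := Pt.ext e
          subst e'
          exact hc.ne (hc.min 1 (by norm_num) _ _ ((Walk.zero _).step hr hy))
        have hry : r.sg ≠ y.sg := by
          intro e
          have e' : r = y := Pt.ext e
          subst e'
          exact hc.ne (hc.min 1 (by norm_num) _ _ ((Walk.zero _).step hx hr'))
        refine ⟨x.sg, r.sg, y.sg, ⟨x.isCj, r.isCj, hxr, l1.sg, l1.isCj, hx, hr'⟩,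
          ⟨r.isCj, y.isCj, hry, l2.sg, l2.isCj, hr, hy⟩, fun e => hc.ne fun a ha b hb => ?_⟩
        exact (mem_centralizer_iff.1 (e ha) b hb).symm

end

open Cfsg.Agent.Omega.MinPar Cfsg.Agent.Omega.Frame Cfsg.Agent.Omega.FrameNOFF
open Cfsg.Agent.Omega.NoFF.Lines (Crit)

universe u

/-- **the frame from the socket** -/
theorem front {G : Type u} [Group G] [Finite G] {S : Sylow 2 G} {P B R : Subgroup G} {F : Type} [Field F]
    (h : FrB F S P B R)
    (hf : ¬ kx (zl (S : Subgroup G) P) R ≤ centralizer (zl (S : Subgroup G) P : Set G))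
    {y : G} (hc : Crit R (normalizer (R : Set G)) {P} 2 1 y) :
    Mid S P (zl (S : Subgroup G) P) R ∧ ∃ A T C, Cr (zl (S : Subgroup G) P) R A T C :=
  mid_of_crit h.pb hf h.om (PB.Geom.crit h.pb h.pb.V_eq hc)

end Cfsg.Agent.Omega.NO3S.MidB

end

-- merged: Cfsg.Agent.Mrg.Omega.NO3S.FullQ.TwoFront
section

/-!
# FullB (`q ≥ 4`), `n = 2`: THE FRONT (#21966 section 0, #22114 (T3)), no fullness

Over `h : Mid S P V Z` (helper475's frame), the geometry `Pt Z`, `Pt V` (`geom`):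

* `crit_iff` : `Crit inc W 2 a b ↔ ∃ r, Cr V Z a r b`; `cr_of` : for a given middle point;
* `exP` : every critical pair is exact, both sides (`ExP`), from `NoOver`;
* `exists_bad` : (NO), `q ≥ 4`, not TYPE N, `[W_p, W_q] ≰ R_r` : every `f ∈ W_q` moving `W_p` has a mover `k` with helper404's
  `Bad inc R W 2 p q r l f k` (no (D));
* `typN_of_lines` : `[W_a, W_b] ≤ V_l`, `l` the first line, for every critical pair `(a, b)`, gives TYPE N;
* `false_of_lines` : hence there is no critical pair.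
-/

set_option autoImplicit false
set_option linter.unusedSectionVars false

namespace Cfsg.Agent.Omega.NO3S.FullQ.Two

open Subgroup Cfsg Cfsg.Agent.ZN Cfsg.Agent.Omega.NOThree.Pts Cfsg.Agent.Omega.NO3S.PT
open Cfsg.Agent.Omega.NO3S.MidQ (Adj Cr TypN)
open Cfsg.Agent.Omega.NO3S.MidB (Mid)
open Cfsg.Agent.Omega.NO3S.PtGeom (Pt inc)
open Cfsg.Agent.Omega.NOThree.LemmaM (NoOver)
open Cfsg.Agent.Omega.NO3S.FarQ.Asm (ExP)

universe u

variable {G : Type u} [Group G] [Finite G] {S : Sylow 2 G} {P V Z : Subgroup G}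

section

variable (h : Mid S P V Z)
include h

/-- the geometry -/
theorem geom : Geom (inc (Z := Z) (V := V)) (fun x => x.sg) (fun x => ws V x.sg) (fun l => l.sg) (Nat.card Z)
    ((IV V Z).relIndex (ws V Z)) := PB.Geom.geom h.pl h.hf h.hO

omit h in
theorem com_iff {a b : Pt Z} : Com (fun x : Pt Z => ws V x.sg) a b ↔ MidQ.Com V a.sg b.sg := by
  constructor
  · intro e x hx
    rw [mem_centralizer_iff]
    exact fun y hy => (e x hx y hy).symm
  · intro e x hx y hy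
    exact (mem_centralizer_iff.1 (e hx) y hy).symm

omit h in
theorem walk_zero {a b : Pt Z} (hw : Walk (inc (Z := Z) (V := V)) 0 a b) : a = b := by
  cases hw
  rfl

omit h in
theorem walk_one {a b : Pt Z} (hw : Walk (inc (Z := Z) (V := V)) 1 a b) : ∃ l : Pt V, inc a l ∧ inc b l := by
  cases hw with
  | @step k x y z l h1 hy hz =>
    cases h1
    exact ⟨l, hy, hz⟩

omit h in
theorem adj_of_walk {a b : Pt Z} (hw : Walk (inc (Z := Z) (V := V)) 1 a b) (hne : a ≠ b) :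
    Adj V Z a.sg b.sg := by
  obtain ⟨l, ha, hb⟩ := walk_one hw
  exact ⟨a.isCj, b.isCj, fun e => hne (Pt.ext e), l.sg, l.isCj, ha, hb⟩

omit h in
theorem walk_of_adj {a b : Pt Z} (hA : Adj V Z a.sg b.sg) : Walk (inc (Z := Z) (V := V)) 1 a b := by
  obtain ⟨L, hL, haL, hbL⟩ := hA.line
  exact Walk.one (l := Pt.mk hL) haL hbL

/-- `W_a`, `W_b` commute at distance `≤ 1` -/
theorem com_of_lt {k : ℕ} (hk : k < 2) {a b : Pt Z} (hw : Walk (inc (Z := Z) (V := V)) k a b) :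
    Com (fun x : Pt Z => ws V x.sg) a b := by
  have h0 : ∀ a : Pt Z, Com (fun x : Pt Z => ws V x.sg) a a := fun a =>
    com_iff.2 (h.com_self a.isCj)
  match k, hk with
  | 0, _ =>
    rw [walk_zero hw]
    exact h0 _
  | 1, _ =>
    by_cases hab : a = b
    · rw [hab]
      exact h0 _
    · exact com_iff.2 (h.com _ _ (adj_of_walk hw hab))

/-- a critical pair with a given middle point -/
theorem cr_of {a b r : Pt Z} (hne : ¬ Com (fun x : Pt Z => ws V x.sg) a b) (h1 : Walk (inc (Z := Z) (V := V)) 1 a r)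
    (h2 : Walk (inc (Z := Z) (V := V)) 1 r b) : Cr V Z a.sg r.sg b.sg := by
  refine ⟨adj_of_walk h1 ?_, adj_of_walk h2 ?_, fun e => hne (com_iff.2 e)⟩
  · rintro rfl
    exact hne (com_of_lt h (by norm_num) h2)
  · rintro rfl
    exact hne (com_of_lt h (by norm_num) h1)

/-- **critical pairs** -/
theorem crit_iff {a b : Pt Z} : Crit (inc (Z := Z) (V := V)) (fun x : Pt Z => ws V x.sg) 2 a b ↔
    ∃ r : Pt Z, Cr V Z a.sg r.sg b.sg := by
  constructor
  · intro hc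
    have h0 := hc.walk
    cases h0 with
    | @step k x r y l2 h1 hr hy => exact ⟨r, cr_of h hc.ne h1 (Walk.one hr hy)⟩
  · rintro ⟨r, hc⟩
    refine ⟨(walk_of_adj hc.l).trans (walk_of_adj hc.r), fun e => hc.ne (com_iff.1 e), fun k hk a b hw => com_of_lt h hk hw⟩

theorem crit_of {A R B : Subgroup G} (hc : Cr V Z A R B) :
    Crit (inc (Z := Z) (V := V)) (fun x : Pt Z => ws V x.sg) 2 (Pt.mk hc.l.left) (Pt.mk hc.r.right) :=
  (crit_iff h).2 ⟨Pt.mk hc.l.right, hc⟩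

/-- **(X) and exactness**, both sides -/
theorem exP (hNO : NoOver (inc (Z := Z) (V := V)) (fun x => x.sg) (fun x => ws V x.sg) (fun l => l.sg)) {a b : Pt Z}
    (hc : Crit (inc (Z := Z) (V := V)) (fun x : Pt Z => ws V x.sg) 2 a b) :
    ExP (inc (Z := Z) (V := V)) (fun x => x.sg) (fun x => ws V x.sg) (fun l => l.sg) 2 a b := by
  obtain ⟨r, hr⟩ := (crit_iff h).1 hc
  exact ExP.of_good (geom h) hNO hc le_rfl (fun x hx hx' => h.cent_of_mod hr hx hx')
    (fun x hx hx' => h.cent_of_mod hr.symm hx hx')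

/-- **no (D)**: the movers of a critical pair which is not of type N are bad -/
theorem exists_bad (hNO : MidB.No.NOg V Z) (hq : 4 ≤ Nat.card Z) (hT : ¬ TypN V Z) {p q r : Pt Z} {l : Pt V}
    (hc : Crit (inc (Z := Z) (V := V)) (fun x : Pt Z => ws V x.sg) 2 p q) (hpl : inc p l) (hrl : inc r l)
    (hw : Walk (inc (Z := Z) (V := V)) 1 r q)
    (hne : ¬ ∀ a ∈ ws V p.sg, ∀ b ∈ ws V q.sg, a * b * a⁻¹ * b⁻¹ ∈ r.sg) {f : G} (hf : f ∈ ws V q.sg)
    (hf1 : ¬ ∀ x ∈ ws V p.sg, f * x = x * f) :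
    ∃ k ∈ centralizer (p.sg : Set G),
      FarQ.Free.Bad (inc (Z := Z) (V := V)) (fun x => x.sg) (fun x => ws V x.sg) 2 p q r l f k := by
  have hcr := cr_of h hc.ne (Walk.one hpl hrl) hw
  obtain ⟨k, m⟩ := MidB.No.exists_mv h hcr hf hf1
  have hk1 : k ^ 1 ≠ 1 := by
    rw [pow_one]
    exact m.ne
  have efk : f • k • r = k⁻¹ • r := Pt.ext (m.f_cj h)
  refine ⟨k, mem_centralizer_iff.2 fun z hz => (m.cent z hz).symm, hc, by norm_num, hpl, hrl, hw, hf,
    fun z hz => m.cent z hz, m.odd, m.inv, ?_, ?_⟩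
  · intro e
    rw [efk] at e
    have e1 : cj k⁻¹ r.sg = cj k r.sg := congrArg Pt.sg e
    refine m.not_le' h ?_ ?_ ?_ ?_ (L := cj k l.sg)
    · exact l.isCj.cj k
    · rw [← m.cj_A]
      exact cj_le_cj.2 hpl
    · exact cj_le_cj.2 hrl
    · rw [e1]
      exact cj_le_cj.2 hrl
  · intro hd
    apply hT
    have hdd : MidB.No.DD V p.sg r.sg k 1 := by
      rintro x ⟨h1, h2⟩
      refine hd x ?_ ?_
      · have h3 : x ∈ ws V (cj (k ^ 1) r.sg) := h1
        rw [pow_one] at h3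
        exact h3
      · have h3 : x ∈ ws V (cj (k⁻¹ ^ 1) r.sg) := h2
        rw [pow_one] at h3
        show x ∈ ws V (f • k • r).sg
        rw [efk]
        exact h3
    obtain ⟨C, hcC, hflat, w, hw', u, hu, hwu, hb, ha⟩ := MidB.No.Mv.flat_of h m hk1 hdd hNO (MidB.No.innN_of h hq hNO) hne
    exact MidB.Mid.typN_of_flat' h hcC hflat hw' hu hwu hb ha

/-- `[W_a, W_b] ≤ V_l` (`l` the first line) for every critical pair gives TYPE N -/
theorem typN_of_lines (hl : ∀ (a b r : Pt Z) (l : Pt V),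
    Crit (inc (Z := Z) (V := V)) (fun x : Pt Z => ws V x.sg) 2 a b → Walk (inc (Z := Z) (V := V)) 1 r b →
      inc r l → inc a l → ∀ x ∈ ws V a.sg, ∀ y ∈ ws V b.sg, x * y * x⁻¹ * y⁻¹ ∈ l.sg) : TypN V Z := by
  intro X R Y hc x hx y hy
  obtain ⟨L, hL, hXL, hRL⟩ := hc.l.line
  have h1 := hl (Pt.mk hc.l.left) (Pt.mk hc.r.right) (Pt.mk hc.l.right) (Pt.mk hL) (crit_of h hc)
    (walk_of_adj hc.r) hRL hXL x hx y hy
  exact h.line_inf hc hL hXL hRL h1 (h.comm_mem hc hx hy).2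

/-- **the end**: there is no critical pair at distance 2 -/
theorem false_of_lines (hl : ∀ (a b r : Pt Z) (l : Pt V),
    Crit (inc (Z := Z) (V := V)) (fun x : Pt Z => ws V x.sg) 2 a b → Walk (inc (Z := Z) (V := V)) 1 r b →
      inc r l → inc a l → ∀ x ∈ ws V a.sg, ∀ y ∈ ws V b.sg, x * y * x⁻¹ * y⁻¹ ∈ l.sg) {a b : Pt Z}
    (hc : Crit (inc (Z := Z) (V := V)) (fun x : Pt Z => ws V x.sg) 2 a b) : False := by
  obtain ⟨r, hr⟩ := (crit_iff h).1 hc
  exact h.no_typN (typN_of_lines h hl) ⟨_, _, _, hr⟩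

end

end Cfsg.Agent.Omega.NO3S.FullQ.Two

end

-- merged: Cfsg.Agent.Mrg.Omega.NO3S.FullQ.PlugT
section

/-!
# FullB (`q ≥ 4`): the plug, `n = 2`, and the socket `WF` (helper973)

* `bd_two` : the movers;
* `two_false` : over the `(R, B)`-frame with (F1) there is no critical pair at distance 2;
* `no_crit` : **`HypF S P`, `FrB`, (F1): no critical pair at distance `n ≥ 2`**;
* `wF` : **the socket `WF K`** (hence `WB K`) from (ML).
-/

set_option autoImplicit false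
set_option linter.unusedSectionVars false

namespace Cfsg.Agent.Omega.NO3S.FullQ

open Subgroup Cfsg Cfsg.Agent.ZN Cfsg.Agent.Omega.NOThree.Pts Cfsg.Agent.Omega.NO3S.PT
open Cfsg.Agent.Omega.NO3S.FarQ Cfsg.Agent.Omega.NO3S.FarQ.Glue Cfsg.Agent.Omega.NO3S.FarQ.Free
open Cfsg.Agent.Omega.NO3S.FarQ.Asm (ExP)
open Cfsg.Agent.Omega.ML.Final (MLK)
open Cfsg.Agent.Omega.NO3S.PtGeom (Pt inc)
open Cfsg.Agent.Omega.NO3S.MidQ (Adj Cr TypN)
open Cfsg.Agent.Omega.NO3S.MidB (Mid)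
open Cfsg.Agent.Omega.MinPar Cfsg.Agent.Omega.Frame Cfsg.Agent.Omega.FrameNOFF Cfsg.Agent.Omega.NatPair

universe u

variable {G : Type u} [Group G] [Finite G] {S : Sylow 2 G} {B P V Z : Subgroup G}
variable {Fd : Type} [Field Fd] [Finite Fd] [CharP Fd 2]

/-- the movers, `n = 2`: `[W_a, W_b] ≤ R_r` for the middle point `r`, or no (D) -/
theorem bd_two (h : Mid S P V Z) (hNO : MidB.No.NOg V Z) (hq : 4 ≤ Nat.card Z) (hT : ¬ TypN V Z) :
    Bd (inc (Z := Z) (V := V)) (fun x => x.sg) (fun x => ws V x.sg) (fun l => l.sg) 2 := by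
  intro p q r l hc hpl hrl hw
  by_cases hne : ∀ a ∈ ws V p.sg, ∀ b ∈ ws V q.sg, a * b * a⁻¹ * b⁻¹ ∈ r.sg
  · exact Or.inl fun x hx y hy => hrl (hne x hx y hy)
  · right
    intro f hf hf1
    obtain ⟨k, -, hb⟩ := Two.exists_bad h hNO hq hT hc hpl hrl hw hne hf hf1
    exact ⟨k, hb⟩

/-- **`n = 2`**: over the `(R, B)`-frame with (F1) there is no critical pair at distance 2. -/
theorem two_false (h : PB S B P V Z) (hf : ¬ kx V Z ≤ centralizer (V : Set G)) (hO : OmB B V) (hq : 4 ≤ Nat.card Z)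
    (hML : MLK.{u, u}) (hG : IsKProper G) (hC : centralizer (Z : Set G) ≠ ⊤)
    (hNO : KNO.{u} (fun H _ => Img (centralizer (Z : Set G)) H))
    (C : Fld.Crd Fd (S : Subgroup G) P V) (hcard : Nat.card Z = Nat.card Fd) {x y : Pt Z}
    (hc : Crit (inc (Z := Z) (V := V)) (fun x : Pt Z => ws V x.sg) 2 x y) : False := by
  obtain ⟨hm, hex⟩ := MidB.mid_of_crit h hf hO hc
  have hT : ¬ TypN V Z := fun hT => hm.no_typN hT hex
  obtain ⟨H, M, K, iH, iM, iA, iK, ρ, π, ζ, T, lam, U, Kh, F⟩ := exists_frm h hf hO hq hNO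
  have D := PB.Geom.geom h hf hO
  obtain ⟨iF, hc1, hS⟩ := exists_fs h C hcard F.toRD rfl rfl (h.V_le_ws h.ZV)
  exact false_of_bd hML (kg_of F hG hC) D F le_rfl (fun _ _ e => Pt.ext e) (WQ.t6 h hO)
    (fun a b hc => Two.exP hm (F.noOver D) hc)
    (bd_two hm (MidB.No.nog_of_mlk hm hq hG hC hML) hq hT) hS hc1
    (fun hl => Two.false_of_lines hm (fun a b r l hc hw hrl hal => hl a b r l hc hal hrl hw) hc) hc

/-- **No critical pair at distance `n ≥ 2`.** -/
theorem no_crit (hML : MLK.{u, u}) {P B R : Subgroup G} (h : HypF S P) {F : Type} [Field F] [Finite F] [CharP F 2]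
    (hF : 4 ≤ Nat.card F) (N : NatP F (zl (S : Subgroup G) P) P) (hB : FrB F S P B R)
    (hf : ¬ kx (zl (S : Subgroup G) P) R ≤ centralizer (zl (S : Subgroup G) P : Set G)) {n : ℕ} (hn : 2 ≤ n) {y : G}
    (hc : Cfsg.Agent.Omega.NoFF.Lines.Crit R (normalizer (R : Set G)) {P} n 1 y) : False := by
  have hq : 4 ≤ Nat.card R := hB.card.symm ▸ hF
  obtain ⟨C⟩ := Fld.exists_crd h.toHyp N
  have hC := FarB.centralizer_ne_top h.toHyp hB.pb.Zne
  have hNO := kno h.toHyp hB.pb.Zne hML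
  have hc' := PB.Geom.crit hB.pb hB.pb.V_eq hc
  rcases Nat.lt_or_ge 2 n with h3 | h3
  · exact far_false hB.pb hf hB.om hq hML h.toHyp.ctx.kproper hC hNO C hB.card h3 hc'
  · obtain rfl : n = 2 := by omega
    exact two_false hB.pb hf hB.om hq hML h.toHyp.ctx.kproper hC hNO C hB.card hc'

/-- **The socket `WF`** from (ML). -/
theorem wF {K : Cls.{u}} (hML : MLK.{u, u}) : NO3S.WF K := by
  intro G _ _ _ S P h F _ _ _ hF N B R hB hf n y hn hc
  exact (no_crit hML h hF N hB hf hn hc).elim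

theorem wB {K : Cls.{u}} (hML : MLK.{u, u}) : NO3S.WB K := (wF hML).wB

end Cfsg.Agent.Omega.NO3S.FullQ

end
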